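import Cfsg.Agent.H3.FQ7
import Cfsg.Agent.L0.LayerOf
import Cfsg.Agent.L0.Components

/-! The `p'`-part of the generalized Fitting subgroup; the equivariant ZJ theorem modulo a
normal subgroup. -/

set_option autoImplicit false
set_option linter.unusedSectionVars false
set_option linter.style.haveILetI false
set_option maxHeartbeats 400000

namespace CfsgH3.FQ

open Cfsg hiding pCoreOf
open CfsgL0
open Subgroup (normalizer centralizer zpowers)
open scoped commutatorElement IsMulCommutative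

universe u

variable {p : ℕ} [hp : Fact p.Prime] {r : ℕ} [hr : Fact r.Prime]

section LL
variable {Γ : Type*} [Group Γ] [Finite Γ] {H W : Subgroup Γ}

theorem mem_of_pow_mem {y : Γ} (hy : (orderOf y).Coprime p) {k : ℕ} (h : y ^ p ^ k ∈ H) : y ∈ H :=
  (Subgroup.zpowers_le.2 h) (mem_zpowers_pow_iff.2 (by
    rw [Nat.gcd_comm]; exact Nat.Coprime.pow_right k hy))

theorem mem_of_mem_sup {T : Subgroup Γ} (hT : IsPGroup p T) (hn : T ≤ normalizer (H : Set Γ))
    {y : Γ} (hy : (orderOf y).Coprime p) (h : y ∈ H ⊔ T) : y ∈ H := by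
  haveI : (H.subgroupOf (H ⊔ T)).Normal :=
    normal_subgroupOf_of_le_normalizer (sup_le Subgroup.le_normalizer hn)
  obtain ⟨a, ha, t, ht, e⟩ := (CfsgH2.mem_sup_of_le_normalizer hn).1 h
  obtain ⟨k, hk⟩ := hT ⟨t, ht⟩
  refine mem_of_pow_mem hy (k := k) ?_
  let f := QuotientGroup.mk' (H.subgroupOf (H ⊔ T))
  have e1 : f ⟨y, h⟩ = f ⟨t, Subgroup.mem_sup_right ht⟩ := by
    rw [show (⟨y, h⟩ : ↥(H ⊔ T)) = ⟨a, Subgroup.mem_sup_left ha⟩ * ⟨t, Subgroup.mem_sup_right ht⟩
      from Subtype.ext e.symm, map_mul,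
      show f ⟨a, Subgroup.mem_sup_left ha⟩ = 1 from (QuotientGroup.eq_one_iff _).2 ha, one_mul]
  have e2 : f (⟨y, h⟩ ^ p ^ k) = 1 := by
    rw [map_pow, e1, ← map_pow, show (⟨t, Subgroup.mem_sup_right ht⟩ : ↥(H ⊔ T)) ^ p ^ k = 1 from
      Subtype.ext (congrArg Subtype.val hk :), map_one]
  exact (QuotientGroup.eq_one_iff (N := H.subgroupOf (H ⊔ T)) ((⟨y, h⟩ : ↥(H ⊔ T)) ^ p ^ k)).1 e2

variable (p) in
/-- `E(H) O_{p'}(F(H))`. -/
def LL (H : Subgroup Γ) : Subgroup Γ := layerOf H ⊔ pPrimeCoreOf p (fittingOf H)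

theorem LL_le : LL p H ≤ H := sup_le layerOf_le (pPrimeCoreOf_le.trans fittingOf_le)

theorem LL_le_pResidualOf : LL p H ≤ pResidualOf p (gfOf H) := by
  rw [pResidualOf_eq_piResidualOf]
  refine sup_le ?_ (le_piResidualOf (pPrimeCoreOf_le.trans fittingOf_le_gfOf) ?_)
  · rw [← piResidualOf_eq_of_perfect (p := p) layerOf_perfect]
    exact piResidualOf_mono layerOf_le_gfOf
  · intro q hq hd e
    rw [Set.mem_singleton_iff] at e
    subst e
    exact (Nat.Prime.coprime_iff_not_dvd hq).1 coprime_card_pPrimeCoreOf.symm hd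

theorem normalizer_le_LL : normalizer (H : Set Γ) ≤ normalizer (LL p H : Set Γ) :=
  CfsgH2.le_normalizer_sup normalizer_le_normalizer_layerOf
    (normalizer_le_normalizer_fittingOf.trans normalizer_le_normalizer_pPrimeCoreOf)

theorem gfOf_eq_LL : gfOf H = LL p H ⊔ pCoreOf p H := by
  rw [gfOf_eq, LL, sup_assoc, sup_comm (pPrimeCoreOf _ _), ← pCoreOf_fittingOf p,
    pCoreOf_sup_pPrimeCoreOf isNilpotent_fittingOf]

theorem mem_LL_of_mem_gfOf {y : Γ} (hy : (orderOf y).Coprime p) (h : y ∈ gfOf H) : y ∈ LL p H :=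
  mem_of_mem_sup isPGroup_pCoreOf
    (pCoreOf_le.trans (Subgroup.le_normalizer.trans normalizer_le_LL)) hy
    (by rwa [← gfOf_eq_LL])

theorem inf_le_fittingOf : H ⊓ centralizer (pCoreOf p H : Set Γ) ⊓ centralizer (LL p H : Set Γ) ≤
    fittingOf H := fun _ h => inf_centralizer_gfOf_le ⟨h.1.1, by
  rw [gfOf_eq_LL (p := p), centralizer_sup]
  exact ⟨h.2, h.1.2⟩⟩

theorem mem_LL {y : Γ} (hy : (orderOf y).Coprime p) (h : y ∈ H)
    (h1 : y ∈ centralizer (pCoreOf p H : Set Γ)) (h2 : y ∈ centralizer (LL p H : Set Γ)) :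
    y ∈ LL p H :=
  mem_LL_of_mem_gfOf hy (fittingOf_le_gfOf (inf_le_fittingOf ⟨⟨h, h1⟩, h2⟩))

omit [Finite Γ] in
theorem commutator_le_centralizer {L R : Subgroup Γ} (h1 : L ≤ centralizer (R : Set Γ))
    (h2 : H ≤ normalizer (L : Set Γ)) : ⁅H, R⁆ ≤ centralizer (L : Set Γ) := by
  rw [← Subgroup.commutator_eq_bot_iff_le_centralizer, eq_bot_iff]
  refine three_subgroups (le_normalizer_of_normal _) (le_normalizer_of_normal _)
    (le_normalizer_of_normal _) ?_ ?_
  · rw [commutator_eq_bot_of_le_centralizer' h1, Subgroup.commutator_bot_left]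
  · exact (Subgroup.commutator_mono (commutator_le_left_of_le_normalizer h2) le_rfl).trans
      (commutator_eq_bot_of_le_centralizer h1).le

theorem le_centralizer_of_coprime {A B : Subgroup Γ} (hA : IsPGroup p A)
    (hB : (Nat.card B).Coprime p) (h1 : A ≤ normalizer (B : Set Γ))
    (h2 : B ≤ normalizer (A : Set Γ)) : A ≤ centralizer (B : Set Γ) := by
  rw [← Subgroup.commutator_eq_bot_iff_le_centralizer, eq_bot_iff]
  exact (commutator_le_inf_of_le_normalizer h1 h2).trans (CfsgH2.disjoint_of_coprime_card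
    (CfsgH2.coprime_card_of_isPGroup hA ((Nat.Prime.coprime_iff_not_dvd hp.out).1 hB.symm))).eq_bot.le

theorem le_centralizer_LL {Q : Subgroup Γ} (hQ : IsPGroup p Q) (hQH : Q ≤ H)
    (h : LL p H ≤ normalizer (Q : Set Γ)) : Q ≤ centralizer (LL p H : Set Γ) := by
  rw [LL, centralizer_sup]
  exact le_inf (le_centralizer_layerOf_of_solvable hQH (le_sup_left.trans h)
    (CfsgH2.isSolvable_of_isPGroup hQ)) (le_centralizer_of_coprime hQ coprime_card_pPrimeCoreOf
      (hQH.trans (le_normalizer_fittingOf.trans normalizer_le_normalizer_pPrimeCoreOf))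
      (le_sup_right.trans h))

/-- If all `p'`-elements of `[E(H), R]` centralize `R` then `E(H)` centralizes `R`. -/
theorem layerOf_le_centralizer {R : Subgroup Γ} (hR : R ≤ normalizer (H : Set Γ))
    (h : ∀ y ∈ ⁅layerOf H, R⁆, (orderOf y).Coprime p → y ∈ centralizer (R : Set Γ)) :
    layerOf H ≤ centralizer (R : Set Γ) := by
  have hRE := hR.trans (normalizer_le_normalizer_layerOf (H := H))
  refine layerOf_le_iff.2 fun K hK => ?_
  have hKK : ⁅K, K⁆ = K := qs_perfect (compOf_qs hK)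
  rcases compOf_le_or hK ((commutator_le_left_of_le_normalizer hRE).trans layerOf_le)
    ((compOf_le_layerOf hK).trans (Subgroup.normalizer_commutator_ge_left _ _)) with h1 | h1
  · rw [← piResidualOf_eq_of_perfect (p := p) hKK, piResidualOf_eq_closure, Subgroup.closure_le]
    exact fun y hy => h y (h1 hy.1) (((Nat.Prime.coprime_iff_not_dvd hp.out).2 fun hd =>
      hy.2 p hp.out hd rfl).symm)
  · have h2 : ⁅⁅K, R⁆, K⁆ ≤ ⊥ := (Subgroup.commutator_mono
      (Subgroup.commutator_mono (compOf_le_layerOf hK) le_rfl) le_rfl).trans h1.le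
    rw [← Subgroup.commutator_eq_bot_iff_le_centralizer, eq_bot_iff, ← hKK]
    exact three_subgroups (le_normalizer_of_normal _) (le_normalizer_of_normal _)
      (le_normalizer_of_normal _) h2 (by rwa [Subgroup.commutator_comm R])

end LL

section K
variable {Γ : Type u} [Group Γ] [Finite Γ] {G R P W : Subgroup Γ}

theorem le_pCoreOf_of_central {N : Subgroup Γ} (hN : N ≤ G) (hn : G ≤ normalizer (N : Set Γ))
    (h : ∀ x ∈ N, (orderOf x).Coprime p → x ∈ centralizer (G : Set Γ)) (hP : IsPGroup p P) :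
    P ⊓ N ≤ pCoreOf p G := by
  refine le_pCoreOf_of_le_fittingOf (inf_le_right.trans (le_fittingOf hN hn ?_))
    (hP.to_le inf_le_left)
  have : IsPGroup p (N ⧸ Subgroup.center N) := fun x => by
    obtain ⟨x, rfl⟩ := QuotientGroup.mk_surjective x
    obtain ⟨k, hk⟩ := CfsgH1.exists_pow_coprime (p := p) (x : Γ)
    exact ⟨k, by
      rw [← QuotientGroup.mk_pow, QuotientGroup.eq_one_iff, Subgroup.mem_center_iff]
      exact fun g => Subtype.ext (h _ (pow_mem x.2 _) hk g (hN g.2))⟩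
  exact Group.of_quotient_center_nilpotent this.isNilpotent

theorem kinf_normal_top' (hp3 : 3 < p) (htop : G ⊔ R = ⊤) (hR : IsPGroup r R)
    (cop : (Nat.card G).Coprime r) (hRG : R ≤ normalizer (G : Set Γ)) (hP : Inv p G R P)
    (hT : pCoreOf p G ≤ P)
    (hC : ∀ y ∈ G, (orderOf y).Coprime p → y ∈ centralizer (pCoreOf p G : Set Γ) →
      y ∈ centralizer (G : Set Γ)) : (kUp P).Normal := by
  haveI : G.Normal := normal_of_sup_top htop Subgroup.le_normalizer hRG
  have hTp : IsPGroup p (pCoreOf p G) := isPGroup_pCoreOf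
  obtain ⟨A, hA, h1, h2, -, -, h5⟩ := exists_critical hTp
  by_contra hK
  obtain ⟨g, hg, U, V, k1, k2, k3, k4⟩ := kinf_gen P _ A hTp hT h1 h2 (fun g hg hg' =>
    le_pCoreOf_of_central (N := chiefStab A ⊓ G) inf_le_right (le_normalizer_of_normal _)
      (fun x hx hc => hC x hx.2 hc
        (h5 x hc (mem_centralizer_of_mem_chiefStab (hTp.to_le h1) hx.1 hc))) hP.pg
      ⟨hg, hg', hP.le hg⟩) (Or.inr hK)
  exact k4 (chief_trivial_of_quadratic hp3 htop hR cop hRG hP k1 (hTp.to_le (k2.trans h1)) hg k3)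

theorem kinf_normal' (hp3 : 3 < p) (hR : IsPGroup r R)
    (cop : (Nat.card G).Coprime r) (hRG : R ≤ normalizer (G : Set Γ)) (hP : Inv p G R P)
    (hT : pCoreOf p G ≤ P)
    (hC : ∀ y ∈ G, (orderOf y).Coprime p → y ∈ centralizer (pCoreOf p G : Set Γ) →
      y ∈ centralizer (G : Set Γ)) : G ≤ normalizer (kUp P : Set Γ) := by
  have hPK : P ≤ G ⊔ R := hP.le.trans le_sup_left
  have e := pCoreOf_subgroupOf (p := p) (le_sup_left : G ≤ G ⊔ R)
  have h2 := kinf_normal_top' (r := r) hp3 (G := G.subgroupOf (G ⊔ R)) (R := R.subgroupOf _)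
    (P := P.subgroupOf _)
    (by rw [← Subgroup.subgroupOf_sup le_sup_left le_sup_right, Subgroup.subgroupOf_self])
    hR.comap_subtype (by rwa [card_subgroupOf_of_le le_sup_left])
    (subgroupOf_le_normalizer hRG _) (hP.subgroupOf le_sup_right)
    (e ▸ Subgroup.comap_mono hT) (by
      rw [← e]
      exact fun g hg hc hg' a ha => Subtype.ext (hC g hg (by rwa [Subgroup.orderOf_coe])
        (fun a ha => congrArg Subtype.val
          (hg' ⟨a, Subgroup.mem_sup_left (pCoreOf_le ha)⟩ ha)) a ha))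
  have k2 := le_normalizer_map_subtype (kUp (P.subgroupOf (G ⊔ R)))
  rw [map_kUp (Subgroup.subtype_injective _), Subgroup.map_subgroupOf_eq_of_le hPK] at k2
  exact le_sup_left.trans k2

/-- The quotient map `N(W) → N(W)/W`. -/
abbrev qN (W : Subgroup Γ) :=
  QuotientGroup.mk' (W.subgroupOf (normalizer (W : Set Γ)))

/-- The preimage of `K^∞(P/W)`. -/
def Kmod (W P : Subgroup Γ) : Subgroup Γ :=
  ((kUp ((P.subgroupOf (normalizer (W : Set Γ))).map (qN W))).comap (qN W)).map
    (normalizer (W : Set Γ)).subtype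

theorem le_normalizer_Kmod_of {A : Subgroup Γ} (h : A ≤ normalizer (W : Set Γ))
    (h1 : (A.subgroupOf (normalizer (W : Set Γ))).map (qN W) ≤
      normalizer (kUp ((P.subgroupOf (normalizer (W : Set Γ))).map (qN W)) : Set _)) :
    A ≤ normalizer (Kmod W P : Set Γ) := by
  rw [← Subgroup.map_subgroupOf_eq_of_le h]
  exact map_le_normalizer_map _ ((Subgroup.map_le_iff_le_comap.1 h1).trans
    (Subgroup.le_normalizer_comap _))

theorem le_normalizer_Kmod {A : Subgroup Γ} (h : A ≤ normalizer (W : Set Γ))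
    (h1 : A ≤ normalizer (P : Set Γ)) : A ≤ normalizer (Kmod W P : Set Γ) :=
  le_normalizer_Kmod_of h ((map_le_normalizer_map _ (subgroupOf_le_normalizer h1 _)).trans
    (normalizer_le_normalizer_kUp _))

theorem Kmod_le (h : W ≤ P) : Kmod W P ≤ P := by
  rintro _ ⟨x, hx, rfl⟩
  have := Subgroup.comap_mono (f := qN W) (kUp_le _) hx
  rw [Subgroup.comap_map_eq, QuotientGroup.ker_mk'] at this
  exact (sup_le le_rfl (Subgroup.comap_mono h) : _ ≤ P.subgroupOf _) this

theorem lt_Kmod (hP : IsPGroup p P) (h : W < P) (hn : P ≤ normalizer (W : Set Γ)) :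
    W < Kmod W P := by
  refine lt_of_le_of_ne (fun x hx => ⟨⟨x, Subgroup.le_normalizer hx⟩, ?_, rfl⟩) fun e => ?_
  · rw [SetLike.mem_coe, Subgroup.mem_comap, show qN W ⟨x, Subgroup.le_normalizer hx⟩ = 1 from (QuotientGroup.eq_one_iff _).2 hx]
    exact one_mem _
  · refine Zc_ne_bot (S := (P.subgroupOf (normalizer (W : Set Γ))).map (qN W))
      (hP.comap_subtype.map _) (fun e' => h.2 fun x hx => ?_) (eq_bot_iff.2 fun z hz => ?_)
    · rw [Subgroup.map_eq_bot_iff, QuotientGroup.ker_mk'] at e'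
      exact e' (x := ⟨x, hn hx⟩) hx
    · obtain ⟨z, rfl⟩ := QuotientGroup.mk'_surjective _ z
      have : (z : Γ) ∈ Kmod W P := ⟨z, Zc_le_kUp _ hz, rfl⟩
      rw [← e] at this
      exact (QuotientGroup.eq_one_iff _).2 this

theorem le_normalizer_Kmod' (hp3 : 3 < p) (hR : IsPGroup r R)
    (cop : (Nat.card G).Coprime r) (hRG : R ≤ normalizer (G : Set Γ)) (hP : Inv p G R P)
    (hT : pCoreOf p G ≤ P) (hW : W ≤ P) (hGW : G ≤ normalizer (W : Set Γ))
    (hRW : R ≤ normalizer (W : Set Γ))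
    (hC : ∀ y ∈ G, (orderOf y).Coprime p → ⁅pCoreOf p G, zpowers y⁆ ≤ W →
      y ∈ centralizer (G : Set Γ)) : G ≤ normalizer (Kmod W P : Set Γ) := by
  have cop' : (Nat.card (G.subgroupOf (normalizer (W : Set Γ)))).Coprime r := by
    rwa [card_subgroupOf_of_le hGW]
  have e : pCoreOf p ((G.subgroupOf (normalizer (W : Set Γ))).map (qN W)) =
      ((pCoreOf p G).subgroupOf _).map (qN W) := by
    rw [pCoreOf_subgroupOf hGW, map_pCoreOf]
    rw [QuotientGroup.ker_mk']
    exact (hP.pg.to_le hW).comap_subtype.to_le inf_le_left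
  refine le_normalizer_Kmod_of hGW (kinf_normal' (r := r) hp3 (R := (R.subgroupOf _).map (qN W))
    (hR.comap_subtype.map _) (cop'.coprime_dvd_left (Subgroup.card_map_dvd _ _))
    (map_le_normalizer_map _ (subgroupOf_le_normalizer hRG _))
    ((hP.subgroupOf hRW).map hR.comap_subtype cop' (subgroupOf_le_normalizer hRG _) _)
    (e ▸ Subgroup.map_mono (Subgroup.comap_mono hT)) ?_)
  rintro _ ⟨y, hy, rfl⟩ hc h1
  obtain ⟨k, hk⟩ := CfsgH1.exists_pow_coprime (p := p) (y : Γ)
  refine mem_of_pow_mem hc (k := k) ?_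
  rintro _ ⟨g, hg, rfl⟩
  rw [← map_pow, ← map_mul, ← map_mul]
  refine congrArg _ (Subtype.ext (hC _ (pow_mem hy _) hk (commutator_zpowers_right_le
    (hGW (pow_mem hy _)) fun b hb => ?_) g hg))
  have h2 := pow_mem h1 (p ^ k) (qN W ⟨b, hGW (pCoreOf_le hb)⟩) (by
    rw [e]; exact ⟨_, hb, rfl⟩)
  rw [← map_pow, ← commutatorElement_eq_one_iff_mul_comm, ← map_commutatorElement] at h2
  exact (QuotientGroup.eq_one_iff (N := W.subgroupOf (normalizer (W : Set Γ))) _).1 h2

end K

end CfsgH3.FQ
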