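import Cfsg.Agent.H3.PB1
import Cfsg.Agent.H3.PushMod
import Cfsg.Agent.H3.FB1

/-! Pushing up over a dihedral group. -/

set_option autoImplicit false
set_option linter.unusedSectionVars false
set_option linter.style.haveILetI false
set_option maxHeartbeats 400000

namespace CfsgH3.PB

open Subgroup Cfsg
open CfsgH1 hiding IsSec card_quotient_lt isConjugacyFunctor_induced
open scoped commutatorElement IsMulCommutative

variable {X : Type*} [Group X] [Finite X] {Q P P' : Subgroup X} {d : X}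

/-- `X/Q` is dihedral of twice odd order, with rotation subgroup generated by `d`. -/
structure Dih (Q : Subgroup X) (d : X) : Prop where
  normal : Q.Normal
  pg : IsPGroup 2 Q
  idx : ∀ P, IsSylowIn 2 P ⊤ → Q.relIndex P = 2
  two : ∀ P, IsSylowIn 2 P ⊤ → ∃ h, Gen ⊤ Q (cj h P) P
  odd : (orderOf d).Coprime 2
  gen : ∀ x, (orderOf x).Coprime 2 → x ∈ Q ⊔ zpowers d

theorem mul_mem_of_two {A B : Subgroup X} (h : A.relIndex B = 2) {x y : X} (hx : x ∈ B) (hy : y ∈ B)
    (h1 : x ∉ A) (h2 : y ∉ A) : x * y ∈ A :=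
  (mul_mem_iff_of_index_two (H := A.subgroupOf B) h (a := ⟨x, hx⟩) (b := ⟨y, hy⟩)).2
    ⟨fun a => absurd a h1, fun a => absurd a h2⟩

theorem le_of_two {A B K : Subgroup X} (h : A.relIndex B = 2) {x : X} (hx : x ∈ B) (h1 : x ∉ A)
    (h2 : A ≤ K) (h3 : x ∈ K) : B ≤ K := fun y hy => by
  by_cases hA : y ∈ A
  · exact h2 hA
  · simpa using mul_mem (h2 (mul_mem_of_two h hy hx hA h1)) (inv_mem h3)

theorem exists_dih {n : ℕ} (hn : Odd n) (g : X →* DihedralGroup n) (hg : Function.Surjective g)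
    (hQ : IsPGroup 2 g.ker) : ∃ d, Dih g.ker d := by
  haveI : NeZero n := ⟨hn.pos.ne'⟩
  have hu : ∀ k, IsUnit ((2 ^ k : ℕ) : ZMod n) := fun k =>
    (ZMod.isUnit_iff_coprime _ _).2 (Nat.Coprime.pow_left k (Nat.coprime_two_left.2 hn))
  have hr : ∀ (k : ℕ) (K : Subgroup (DihedralGroup n)), DihedralGroup.r ((2 ^ k : ℕ) : ZMod n) ∈ K →
      ∀ i, DihedralGroup.r i ∈ K := fun k K h i => by
    obtain ⟨u, hu⟩ := (hu k).exists_right_inv
    have := pow_mem h (u * i).val
    rwa [DihedralGroup.r_pow, ZMod.natCast_zmod_val, ← mul_assoc, hu, one_mul] at this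
  have idx : ∀ P, IsSylowIn 2 P ⊤ → g.ker.relIndex P = 2 := fun P hP => by
    have h1 := hP.map g
    rw [map_top_of_surjective _ hg] at h1
    have h2 : IsSylowIn 2 (zpowers (DihedralGroup.sr (0 : ZMod n))) ⊤ := by
      refine isSylowIn_top_iff.2 ⟨isPGroup_zpowers (k := 1) (by simp [sq]), fun h => ?_⟩
      have := (zpowers (DihedralGroup.sr (0 : ZMod n))).card_mul_index
      rw [Nat.card_zpowers, DihedralGroup.orderOf_sr, DihedralGroup.nat_card] at this
      rw [Nat.eq_of_mul_eq_mul_left two_pos this] at h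
      exact (Nat.not_even_iff_odd.2 hn) (even_iff_two_dvd.2 h)
    rw [relIndex_ker, h1.card_eq h2, Nat.card_zpowers, DihedralGroup.orderOf_sr]
  obtain ⟨h, hh⟩ := hg (DihedralGroup.r 1)
  obtain ⟨k, hk⟩ := exists_pow_coprime (p := 2) h
  refine ⟨_, inferInstance, hQ, idx, fun P hP => ⟨h, fun x hx hxQ K hK hxK => ?_⟩, hk,
    fun x hx => ?_⟩
  · have hQK : g.ker ≤ K := ((hP.cj_of_mem (mem_top h)).le_of_le_normalizer hQ le_top
      (le_normalizer_of_normal _)).trans hK
    obtain ⟨m, hm⟩ := isPGroup_iff_forall.1 hP.pgroup x hx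
    rcases e : g x with i | i
    · refine absurd (eq_one_of_pow_of_coprime (p := 2) (k := m)
        (by rw [← map_pow, hm, map_one]) ?_) hxQ
      rw [e, DihedralGroup.orderOf_r]
      exact (Nat.coprime_two_right.2 hn).coprime_dvd_left (Nat.div_dvd_of_dvd (Nat.gcd_dvd_left _ _))
    have h1 : DihedralGroup.sr i ∈ K.map g := ⟨x, hxK, e⟩
    have h2 := mul_mem (mem_map_of_mem g (hK (conj_mem_cj h hx))) h1
    rw [map_mul, map_mul, map_inv, hh, e] at h2
    have h3 := hr 1 _ (by convert h2 using 1; simp; ring)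
    rw [← comap_map_eq_self hQK]
    intro y _
    rw [mem_comap]
    rcases g y with j | j
    · exact h3 j
    · simpa using mul_mem h1 (h3 (j - i))
  · rw [sup_comm, ← comap_map_eq, mem_comap, MonoidHom.map_zpowers]
    rcases e : g x with i | i
    · exact hr k _ (by rw [map_pow, hh, DihedralGroup.r_one_pow]; exact mem_zpowers _) i
    · have := orderOf_map_dvd g x
      rw [e, DihedralGroup.orderOf_sr] at this
      exact absurd this ((Nat.Prime.coprime_iff_not_dvd Nat.prime_two).1 hx.symm)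

namespace Dih

variable (h : Dih Q d)
include h

theorem le (hP : IsSylowIn 2 P ⊤) : Q ≤ P :=
  haveI := h.normal; hP.le_of_le_normalizer h.pg le_top (le_normalizer_of_normal _)

theorem not_le (hP : IsSylowIn 2 P ⊤) : ¬ P ≤ Q := fun hle => by
  have := h.idx P hP
  rw [relIndex_eq_one.2 hle] at this
  omega

theorem sup_eq_top (hP : IsSylowIn 2 P ⊤) {x : X} (hx : x ∈ P) (hxQ : x ∉ Q) {K : Subgroup X}
    [hK : K.Normal] (hxK : x ∈ K) : K ⊔ Q = ⊤ := by
  obtain ⟨g, hg⟩ := h.two P hP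
  haveI := h.normal
  refine top_le_iff.1 (hg x hx hxQ _ ?_ (mem_sup_left hxK))
  rw [← cj_normal g (K ⊔ Q)]
  exact cj_mono g (le_of_two (h.idx P hP) hx hxQ le_sup_right (mem_sup_left hxK))

theorem mem_of_normal (hP : IsSylowIn 2 P ⊤) {x : X} (hx : x ∈ P) (hxQ : x ∉ Q) {K : Subgroup X}
    [hK : K.Normal] (hxK : x ∈ K) : d ∈ K :=
  FQ.mem_of_mem_sup h.pg (le_normalizer_of_normal _) h.odd
    (h.sup_eq_top hP hx hxQ hxK ▸ mem_top d)

variable (hd : d ∉ centralizer (Q : Set X))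
include hd

theorem cV_le : cV X ≤ Zc Q := by
  rw [cV, closure_le]
  rintro x ⟨P, h1, h2, h3, -⟩
  have k := centralizer_anti (h.le h1) h3
  haveI := h.normal
  exact ⟨by_contra fun hx => hd (h.mem_of_normal h1 h2 hx k), k⟩

theorem cV_comm : IsMulCommutative (cV X) :=
  CfsgH2.isMulCommutative_of_le (h.cV_le hd) (isMulCommutative_Zc _)

theorem cV_pow {v : X} (hv : v ∈ cV X) : v ^ 2 = 1 := by
  induction hv using closure_induction with
  | mem x hx => exact hx.choose_spec.2.2.2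
  | one => simp
  | mul x y hx hy h1 h2 =>
    rw [Commute.mul_pow (comm_of_isMulCommutative (h.cV_comm hd) hx hy), h1, h2, one_mul]
  | inv x _ h1 => rw [inv_pow, h1, inv_one]

theorem QC : Q ≤ centralizer (cV X : Set X) := le_centralizer_comm.1 ((h.cV_le hd).trans inf_le_right)

variable (hN : NoChar X)
include hN

omit hd in
theorem not_le_center (hP : IsSylowIn 2 P ⊤) :
    ∃ z ∈ cV X, z ∈ centralizer (P : Set X) ∧ z ∉ centralizer ((⊤ : Subgroup X) : Set X) := by
  by_contra hc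
  push Not at hc
  have h1 : omegaOne 2 (Zc P) ≤ cV X := closure_mono fun x hx => ⟨P, hP, hx.1.1, hx.1.2, hx.2⟩
  have h2 : omegaOne 2 (Zc P) ≤ Zc P := omegaOne_le _
  have h3 := hN P (omegaOne 2 (Zc P)) hP (h2.trans inf_le_left) (fun φ x hx => by
    refine subset_closure ⟨⟨(φ x).2, fun y hy => ?_⟩, ?_⟩
    · have : φ.symm ⟨y, hy⟩ * x = x * φ.symm ⟨y, hy⟩ :=
        Subtype.ext ((h2 hx).2 _ (φ.symm ⟨y, hy⟩).2)
      simpa using congrArg (fun a => (φ a : X)) this
    · have : x ^ 2 = 1 := Subtype.ext (omegaOne_pow_of_comm (isMulCommutative_Zc P) _ hx)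
      simpa using congrArg (fun a => (φ a : X)) this)
    (normal_iff_normalizer.2 fun g => centralizer_le_normalizer _
      (le_centralizer_comm.1 (fun x hx => hc x (h1 hx) (h2 hx).2) (mem_top g)))
  obtain ⟨x, hx⟩ := exists_prime_orderOf_dvd_card' (G := Zc P) 2
    (((hP.pgroup.to_le inf_le_left).card_eq_or_dvd).resolve_left fun e =>
      Zc_ne_bot hP.pgroup (fun e => h.not_le hP (e ▸ bot_le)) (card_eq_one.1 e))
  have h4 : (x : X) ∈ omegaOne 2 (Zc P) :=
    mem_omegaOne x.2 (by rw [← Subgroup.coe_pow, ← hx, pow_orderOf_eq_one]; rfl)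
  rw [h3, mem_bot, OneMemClass.coe_eq_one] at h4
  simp [h4] at hx

omit hd in
theorem JJ_not_le (hP : IsSylowIn 2 P ⊤) : ¬ JJ 2 P ≤ Q := fun hle => by
  haveI := h.normal
  refine JJ_ne_bot (p := 2) (Or.inr rfl) hP.pgroup (fun e => h.not_le hP (e ▸ bot_le))
    (hN P _ hP (JJ_le P) (fun φ x hx => ?_) (normal_iff_normalizer.2 fun g => ?_))
  · rw [← map_JJ_top] at hx ⊢
    have h1 : x ∈ JJ 2 (⊤ : Subgroup P) := (mem_map_iff_mem P.subtype_injective).1 hx
    refine mem_map_of_mem P.subtype ?_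
    have := mem_map_of_mem φ.toMonoidHom h1
    rwa [map_JJ φ.injective, map_top_of_surjective _ φ.surjective] at this
  · rw [← JJ_eq_of_le hle (h.le hP)]
    exact normalizer_le_normalizer_JJ _ (mem_normalizer_of_normal g)

theorem cent (hP : IsSylowIn 2 P ⊤) {y : X} (hy : y ∈ P) (hc : y ∈ centralizer (cV X : Set X)) :
    y ∈ Q := by
  by_contra hyQ
  obtain ⟨z, hz, -, h2⟩ := h.not_le_center hN hP
  have := h.sup_eq_top hP hy hyQ hc
  rw [sup_eq_left.2 (h.QC hd)] at this
  exact h2 (le_centralizer_comm.1 this.ge hz)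

theorem idxV (hP : IsSylowIn 2 P ⊤) : (centralizer (P : Set X)).relIndex (cV X) = 2 := by
  obtain ⟨A, hA, hAQ⟩ := exists_not_le_of_sSup (h.JJ_not_le hN hP)
  obtain ⟨a, ha, haQ⟩ := SetLike.not_le_iff_exists.1 hAQ
  have hVP := (h.cV_le hd).trans (inf_le_left.trans (h.le hP))
  have h1 := MaxA.offender hA (B := cV X) ⟨hVP, h.cV_comm hd, fun b hb => h.cV_pow hd hb⟩
  have h2 : (centralizer (cV X : Set X)).relIndex A ≤ 2 :=
    (relIndex_le_of_le_left (h.QC hd) FiniteIndex.index_ne_zero).trans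
      ((relIndex_le_of_le_right (MaxA.le hA) FiniteIndex.index_ne_zero).trans (h.idx P hP).le)
  have h3 : (centralizer (P : Set X)).relIndex (cV X) ≤ (centralizer (A : Set X)).relIndex (cV X) := by
    rw [← inf_relIndex_right (centralizer (A : Set X))]
    refine relIndex_le_of_le_left (fun v hv => le_centralizer_comm.1 (le_of_two (h.idx P hP)
      (MaxA.le hA ha) haQ (K := centralizer (zpowers v : Set X))
      ((h.QC hd).trans (centralizer_anti (zpowers_le.2 hv.2)))
      (le_centralizer_comm.1 (zpowers_le.2 hv.1) ha)) (mem_zpowers v)) FiniteIndex.index_ne_zero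
  have h4 : (centralizer (P : Set X)).relIndex (cV X) ≠ 1 := fun e => h.not_le hP fun y hy =>
    h.cent hd hN hP hy (le_centralizer_comm.1 (relIndex_eq_one.1 e) hy)
  have h5 : (centralizer (P : Set X)).relIndex (cV X) ≠ 0 := FiniteIndex.index_ne_zero
  omega

omit hN in
theorem quad (hP : IsSylowIn 2 P ⊤) {v : X} (hv : v ∈ cV X) {x : X} (hx : x ∈ P) :
    ⁅v, x⁆ ∈ centralizer (P : Set X) := by
  have hw : ⁅v, x⁆ ∈ cV X := commutator_le_left _ ⊤ (commutator_mem_commutator hv (mem_top x))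
  by_cases hxQ : x ∈ Q
  · rw [commutatorElement_eq_one_iff_mul_comm.2 (h.QC hd hxQ v hv)]; exact one_mem _
  refine fun a ha => mem_centralizer_singleton_iff.1 (le_of_two (h.idx P hP) hx hxQ
    (K := centralizer {⁅v, x⁆}) (fun q hq => mem_centralizer_singleton_iff.2
      (h.QC hd hq _ hw).symm) (mem_centralizer_singleton_iff.2 ?_) ha)
  have k1 := h.QC hd (mul_mem_of_two (h.idx P hP) hx hx hxQ hxQ) _ (inv_mem hv)
  have k2 : ⁅v, x⁆⁻¹ = ⁅v, x⁆ := inv_eq_of_mul_eq_one_right (by rw [← sq, h.cV_pow hd hw])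
  calc x * ⁅v, x⁆ = x * v * x⁻¹ * (x * x * v⁻¹) * x⁻¹ := by
        simp only [commutatorElement_def]; group
    _ = ⁅v, x⁆⁻¹ * x := by rw [← k1]; simp only [commutatorElement_def]; group
    _ = _ := by rw [k2]

theorem fix (hP : IsSylowIn 2 P ⊤) {x : X} (hx : x ∈ P) (hxQ : x ∉ Q) {v : X} (hv : v ∈ cV X)
    (hc : ⁅v, x⁆ ∈ centralizer ((⊤ : Subgroup X) : Set X)) : v ∈ centralizer (P : Set X) := by
  by_contra hvP
  have h1 : x ∈ cmod (centralizer ((⊤ : Subgroup X) : Set X)) (cV X) := by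
    refine mem_cmod_normal.2 fun u hu => ?_
    rw [← commutatorElement_inv]
    refine inv_mem ?_
    by_cases huP : u ∈ centralizer (P : Set X)
    · rw [commutatorElement_eq_one_iff_mul_comm.2 (huP x hx).symm]; exact one_mem _
    · have := mul_mem_of_two (h.idxV hd hN hP) (inv_mem hv) hu (by simpa using hvP) huP x hx
      have e : ⁅u, x⁆ = ⁅v, x⁆ := by
        simp only [commutatorElement_def]
        calc u * x * u⁻¹ * x⁻¹ = v * (v⁻¹ * u * x) * u⁻¹ * x⁻¹ := by group
          _ = _ := by rw [← this]; group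
      rwa [e]
  have h2 := h.sup_eq_top hP hx hxQ h1
  rw [sup_eq_left.2 fun q hq => mem_cmod_normal.2 fun u hu => by
    rw [commutatorElement_eq_one_iff_mul_comm.2 (h.QC hd hq u hu).symm]; exact one_mem _] at h2
  obtain ⟨z, hz, z1, z2⟩ := h.not_le_center hN hP
  haveI : (centralizer {z}).Normal := ⟨fun a ha g => mem_centralizer_singleton_iff.2 (by
    have k1 := mem_cmod_normal.1 (h2.ge (mem_top g⁻¹)) z hz a (mem_top a)
    have k2 := mem_centralizer_singleton_iff.1 ha
    calc g * a * g⁻¹ * z = g * (a * ⁅g⁻¹, z⁆) * z * g⁻¹ := by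
          simp only [commutatorElement_def]; group
      _ = g * ⁅g⁻¹, z⁆ * (a * z) * g⁻¹ := by rw [k1]; group
      _ = _ := by rw [k2]; simp only [commutatorElement_def]; group)⟩
  have k := h.sup_eq_top hP hx hxQ (K := centralizer {z})
    (mem_centralizer_singleton_iff.2 (z1 x hx))
  rw [sup_eq_left.2 fun q hq => mem_centralizer_singleton_iff.2 (z1 q (h.le hP hq))] at k
  exact z2 fun a _ => mem_centralizer_singleton_iff.1 (k ▸ mem_top a)

theorem loc : Loc 2 ⊤ Q (cV X) where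
  QP _ hP := h.le hP
  YQ := haveI := h.normal; le_normalizer_of_normal _
  YV := le_normalizer_of_normal _
  VQ := (h.cV_le hd).trans inf_le_left
  QC := h.QC hd
  pow _ hv := h.cV_pow hd hv
  cent _ hP _ hy hc := h.cent hd hN hP hy hc
  omega P hP x h1 h2 h3 := subset_closure ⟨P, hP, h1, h2, h3⟩
  idxQ := h.idx
  idxV _ hP := h.idxV hd hN hP
  quad _ hP _ hv _ hx := h.quad hd hP hv hx
  fix _ hP _ hx hxQ _ hv hc := h.fix hd hN hP hx hxQ hv hc
  two P hP := let ⟨g, hg⟩ := h.two P hP; ⟨_, hP.cj_of_mem (mem_top g), hg⟩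
  ne := fun e => by
    obtain ⟨P, hP⟩ := exists_isSylowIn 2 (⊤ : Subgroup X)
    obtain ⟨z, hz, -, h2⟩ := h.not_le_center hN hP
    rw [e, mem_bot] at hz
    exact h2 (hz ▸ one_mem _)

theorem push : ⁅Q, zpowers d⁆ ≤ cV X := by
  have L := (h.loc hd hN).map rreg_injective
  obtain ⟨A, P, hP, h1, h2⟩ := PB.exists_push L hN.noNormal
  have eP : (P.comap (rreg X)).map (rreg X) = P :=
    map_comap_eq_self (hP.le.trans (map_le_range _ ⊤))
  have hA := le_sup_left.trans h1.le
  have eA : (A.comap (rreg X)).map (rreg X) = A :=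
    map_comap_eq_self (hA.trans (hP.le.trans (map_le_range _ ⊤)))
  have h3 : ¬ A.comap (rreg X) ≤ Q := fun hle => by
    have := L.idxQ P hP
    rw [relIndex_eq_one.2 (h1 ▸ sup_le (eA ▸ map_mono hle) le_rfl)] at this
    omega
  rw [← eA, ← map_commutator, map_le_map_iff_of_injective rreg_injective, commutator_comm] at h2
  obtain ⟨a, ha, haQ⟩ := SetLike.not_le_iff_exists.1 h3
  haveI := h.normal
  rw [commutator_comm, ← le_cmod_normal_iff, zpowers_le]
  exact h.mem_of_normal (IsSylowIn.of_map_injective rreg_injective (eP.symm ▸ hP)) (hA ha) haQ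
    (le_cmod_normal_iff.2 h2 ha)

end Dih

end CfsgH3.PB
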