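import Cfsg.Agent.H3.FB1
import Cfsg.Agent.H2.Generation

/-! Noncyclic abelian coprime operator groups centralizing `O^p(F^*)` locally. -/

set_option autoImplicit false
set_option linter.unusedSectionVars false
set_option linter.style.haveILetI false
set_option maxHeartbeats 400000

namespace CfsgH3.FQ

open Cfsg hiding pCoreOf
open CfsgL0
open Subgroup (normalizer centralizer zpowers)
open CfsgH2 (le_normalizer_inf le_normalizer_sup le_normalizer_centralizer le_normalizer_normalizer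
  le_normalizer_commutator)
open scoped commutatorElement IsMulCommutative

universe u

variable {p : ℕ} [hp : Fact p.Prime] {r : ℕ} [hr : Fact r.Prime]
variable {Γ : Type u} [Group Γ] [Finite Γ] {G R P Q V W H Y : Subgroup Γ}

/-- The operator group `R C_G(R)`. -/
abbrev AA (G R : Subgroup Γ) : Subgroup Γ := R ⊔ (G ⊓ centralizer (R : Set Γ))

theorem Inv.nA (h : Inv p G R Q) : AA G R ≤ normalizer (Q : Set Γ) := sup_le h.nR h.nC

theorem Inv.mk' (h1 : Q ≤ G) (h2 : IsPGroup p Q) (h3 : AA G R ≤ normalizer (Q : Set Γ)) :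
    Inv p G R Q := ⟨h1, h2, le_sup_left.trans h3, le_sup_right.trans h3⟩

theorem Inv.inf' (h : Inv p G R Q) (h3 : AA G R ≤ normalizer (H : Set Γ)) : Inv p G R (Q ⊓ H) :=
  Inv.mk' (inf_le_left.trans h.le) (h.pg.to_le inf_le_left) (le_normalizer_inf h.nA h3)

theorem Inv.pCoreOf (h1 : H ≤ G) (h3 : AA G R ≤ normalizer (H : Set Γ)) :
    Inv p G R (pCoreOf p H) :=
  Inv.mk' (pCoreOf_le.trans h1) isPGroup_pCoreOf (h3.trans normalizer_le_normalizer_pCoreOf)

variable (p r) in
structure Hyp (G R : Subgroup Γ) : Prop where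
  hR : IsPGroup r R
  cop : (Nat.card G).Coprime r
  hRG : R ≤ normalizer (G : Set Γ)
  ab : IsMulCommutative R
  nc : ¬ IsCyclic R
  loc : ∀ b ∈ R, b ≠ 1 → LL p (G ⊓ centralizer {b}) ≤ centralizer (R : Set Γ)

namespace Hyp

variable (h : Hyp p r G R)
include h

theorem cp (hH : H ≤ G) : (Nat.card R).Coprime (Nat.card H) :=
  CfsgH2.coprime_card_of_isPGroup h.hR fun hd => (Nat.Prime.coprime_iff_not_dvd hr.out).1
    h.cop.symm (hd.trans (Subgroup.card_dvd_of_le hH))

theorem sv : Group.IsSolvable R ∨ Group.IsSolvable H := Or.inl (CfsgH2.isSolvable_of_isPGroup h.hR)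

theorem nG : AA G R ≤ normalizer (G : Set Γ) :=
  sup_le h.hRG (inf_le_left.trans Subgroup.le_normalizer)

theorem nb {b : Γ} (hb : b ∈ R) :
    AA G R ≤ normalizer ((centralizer {b} : Subgroup Γ) : Set Γ) := by
  refine le_trans (sup_le (fun a ha => ?_) fun a ha => ?_) Subgroup.le_normalizer
  · rintro _ rfl
    haveI := h.ab
    exact congrArg Subtype.val (mul_comm (⟨_, hb⟩ : R) ⟨a, ha⟩)
  · rintro _ rfl
    exact ha.2 _ hb

theorem sup (h1 : Inv p G R V) (h2 : Inv p G R W) : Inv p G R (V ⊔ W) := by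
  obtain ⟨S, hS, hRS, hVS⟩ := CfsgH2.exists_invariant_sylow_ge h.hRG (h.cp le_rfl) h.sv h1.pg h1.le
    h1.nR
  obtain ⟨T, hT, hRT, hWT⟩ := CfsgH2.exists_invariant_sylow_ge h.hRG (h.cp le_rfl) h.sv h2.pg h2.le
    h2.nR
  obtain ⟨c, hc, e⟩ := CfsgH2.invariant_sylow_conj h.hRG (h.cp le_rfl) h.sv hS hT hRS hRT
  refine Inv.mk' (sup_le h1.le h2.le) (hT.2.1.to_le (sup_le ?_ hWT))
    (le_normalizer_sup h1.nA h2.nA)
  rw [← e, ← CfsgH2.cj_eq_iff.2 (h1.nC hc)]
  exact CfsgH2.cj_mono _ hVS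

theorem exists_max : ∃ P, Inv p G R P ∧ ∀ V, Inv p G R V → V ≤ P := by
  obtain ⟨P, hP, -, hm⟩ := exists_max_member (Inv p G R) (A := ⊥)
    (Inv.mk' bot_le IsPGroup.of_bot (le_normalizer_of_normal _))
  exact ⟨P, hP, fun V hV => le_sup_right.trans (hm _ (h.sup hP hV) le_sup_left).le⟩

theorem invT {b : Γ} (hb : b ∈ R) : Inv p G R (pCoreOf p (G ⊓ centralizer {b})) :=
  Inv.pCoreOf inf_le_left (le_normalizer_inf h.nG (h.nb hb))

theorem key0 {b : Γ} (hb : b ∈ R) (hb1 : b ≠ 1) (hY : Y ≤ G ⊓ centralizer {b})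
    (hRY : R ≤ normalizer (Y : Set Γ))
    (hc : ⁅Y, R⁆ ≤ centralizer (pCoreOf p (G ⊓ centralizer {b}) : Set Γ)) :
    ⁅Y, R⁆ ≤ pCoreOf p (G ⊓ centralizer {b}) := by
  have k1 : ⁅Y, R⁆ ≤ fittingOf (G ⊓ centralizer {b}) := le_trans (le_inf (le_inf
    ((commutator_le_left_of_le_normalizer hRY).trans hY) hc) (commutator_le_centralizer
      (h.loc b hb hb1) (hY.trans (Subgroup.le_normalizer.trans normalizer_le_LL))))
    inf_le_fittingOf
  rw [← CfsgH2.commutator_commutator_eq hRY (h.cp (hY.trans inf_le_left)) h.sv]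
  refine (Subgroup.commutator_mono (k1.trans (fittingOf_le_gfOf.trans (gfOf_eq_LL (p := p)).le))
    le_rfl).trans (commutator_sup_left_le (LL_le.trans le_normalizer_pCoreOf) Subgroup.le_normalizer
      ?_ (commutator_le_left_of_le_normalizer (h.invT hb).nR))
  rw [commutator_eq_bot_of_le_centralizer (h.loc b hb hb1)]
  exact bot_le

theorem nH (hV : Inv p G R V) :
    AA G R ≤ normalizer ((G ⊓ normalizer (V : Set Γ) : Subgroup Γ) : Set Γ) :=
  le_normalizer_inf h.nG (le_normalizer_normalizer hV.nA)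

omit h in
theorem le_core (hV : Inv p G R V) : V ≤ pCoreOf p (G ⊓ normalizer (V : Set Γ)) :=
  le_pCoreOf (le_inf hV.le Subgroup.le_normalizer) inf_le_right hV.pg

theorem factF (hV : Inv p G R V) :
    pPrimeCoreOf p (fittingOf (G ⊓ normalizer (V : Set Γ))) ≤ centralizer (R : Set Γ) := by
  set D := pPrimeCoreOf p (fittingOf (G ⊓ normalizer (V : Set Γ))) with hD
  have nD : normalizer ((G ⊓ normalizer (V : Set Γ) : Subgroup Γ) : Set Γ) ≤
      normalizer (D : Set Γ) :=
    normalizer_le_normalizer_fittingOf.trans normalizer_le_normalizer_pPrimeCoreOf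
  have hDH : D ≤ G ⊓ normalizer (V : Set Γ) := pPrimeCoreOf_le.trans fittingOf_le
  have hDG := hDH.trans inf_le_left
  have hRD : R ≤ normalizer (D : Set Γ) := le_sup_left.trans ((h.nH hV).trans nD)
  have cD : (Nat.card D).Coprime p := coprime_card_pPrimeCoreOf
  refine CfsgH2.le_of_noncyclic h.ab h.nc hRD (h.cp hDG) fun b hb hb1 => ?_
  have hRY : R ≤ normalizer ((D ⊓ centralizer {b} : Subgroup Γ) : Set Γ) :=
    le_normalizer_inf hRD (le_sup_left.trans (h.nb hb))
  have hY : ⁅D ⊓ centralizer {b}, R⁆ ≤ D ⊓ centralizer {b} :=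
    commutator_le_left_of_le_normalizer hRY
  have hYD := hY.trans inf_le_left
  have cY : (Nat.card (⁅D ⊓ centralizer {b}, R⁆ : Subgroup Γ)).Coprime p :=
    cD.coprime_dvd_left (Subgroup.card_dvd_of_le hYD)
  have hS := h.sup (h.invT hb) hV
  have hVY : V ≤ centralizer (D : Set Γ) := le_centralizer_of_coprime hV.pg cD
    ((le_inf hV.le Subgroup.le_normalizer).trans (Subgroup.le_normalizer.trans nD))
    (hDH.trans inf_le_right)
  have hYS : ⁅D ⊓ centralizer {b}, R⁆ ≤
      normalizer ((pCoreOf p (G ⊓ centralizer {b}) ⊔ V : Subgroup Γ) : Set Γ) :=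
    le_normalizer_sup ((hY.trans (inf_le_inf_right _ hDG)).trans le_normalizer_pCoreOf)
      (hYD.trans (hDH.trans inf_le_right))
  have k1 := CfsgH2.thompson_PxQ hV.pg hS.pg ((Nat.Prime.coprime_iff_not_dvd hp.out).1 cY.symm)
    (le_sup_right.trans Subgroup.le_normalizer) hYS (hVY.trans (centralizer_anti hYD)) (by
      rw [← Subgroup.commutator_eq_bot_iff_le_centralizer, eq_bot_iff]
      refine le_trans (le_inf ?_ ?_) (CfsgH2.disjoint_of_coprime_card
        (CfsgH2.coprime_card_of_isPGroup hS.pg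
          ((Nat.Prime.coprime_iff_not_dvd hp.out).1 cD.symm))).eq_bot.le
      · exact (Subgroup.commutator_mono inf_le_left le_rfl).trans
          (commutator_le_left_of_le_normalizer hYS)
      · exact (Subgroup.commutator_mono le_rfl hYD).trans (commutator_le_right_of_le_normalizer
          ((inf_le_inf hS.le (Subgroup.centralizer_le_normalizer _)).trans
            (Subgroup.le_normalizer.trans nD))))
  have k2 := h.key0 hb hb1 (inf_le_inf_right _ hDG) hRY
    (le_centralizer_symm (le_sup_left.trans k1))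
  rw [← Subgroup.commutator_eq_bot_iff_le_centralizer, eq_bot_iff]
  exact le_trans (le_inf k2 hYD) (CfsgH2.disjoint_of_coprime_card
    (CfsgH2.coprime_card_of_isPGroup isPGroup_pCoreOf
      ((Nat.Prime.coprime_iff_not_dvd hp.out).1 cD.symm))).eq_bot.le

omit h in
/-- The `P × Q` lemma for a single element, combined with `mem_LL`. -/
theorem mem_LL_of {y : Γ} (hy : (orderOf y).Coprime p) (hyH : y ∈ H) (hW : W ≤ pCoreOf p H)
    (h1 : y ∈ centralizer (W : Set Γ))
    (h2 : y ∈ centralizer ((pCoreOf p H ⊓ centralizer (W : Set Γ) : Subgroup Γ) : Set Γ))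
    (h3 : y ∈ centralizer (LL p H : Set Γ)) : y ∈ LL p H := by
  refine mem_LL hy hyH (le_centralizer_symm (CfsgH2.thompson_PxQ (Q := zpowers y)
    (isPGroup_pCoreOf.to_le hW) isPGroup_pCoreOf ?_ (hW.trans Subgroup.le_normalizer)
    ((Subgroup.zpowers_le.2 hyH).trans le_normalizer_pCoreOf)
    (le_centralizer_symm (Subgroup.zpowers_le.2 h1))
    (le_centralizer_symm (Subgroup.zpowers_le.2 h2))) (Subgroup.mem_zpowers y)) h3
  rw [Nat.card_zpowers]
  exact (Nat.Prime.coprime_iff_not_dvd hp.out).1 hy.symm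

theorem claimA (hW : Inv p G R W) (hV : Inv p G R V) (hWV : W ≤ V)
    (hVE : V ≤ centralizer (layerOf (G ⊓ normalizer (W : Set Γ)) : Set Γ))
    (hL : layerOf (G ⊓ normalizer (V : Set Γ)) ≤ centralizer (R : Set Γ)) :
    layerOf (G ⊓ normalizer (W : Set Γ)) ≤ centralizer (R : Set Γ) := by
  set E := layerOf (G ⊓ normalizer (W : Set Γ)) with hE
  have hL' : LL p (G ⊓ normalizer (V : Set Γ)) ≤ centralizer (R : Set Γ) := sup_le hL (h.factF hV)
  have hEV : E ≤ G ⊓ normalizer (V : Set Γ) := le_inf (layerOf_le.trans inf_le_left)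
    (le_normalizer_of_le_centralizer (le_centralizer_symm hVE))
  have hRH := le_sup_left.trans (h.nH hW)
  refine layerOf_le_centralizer (p := p) hRH fun y hy hc => hL' ?_
  have hyE : y ∈ E := commutator_le_left_of_le_normalizer
    (hRH.trans normalizer_le_normalizer_layerOf) hy
  refine mem_LL_of hc (hEV hyE) (hWV.trans (le_core hV))
    (le_centralizer_symm (hWV.trans hVE) hyE) (le_centralizer_symm
      (le_centralizer_layerOf_of_solvable (inf_le_inf (pCoreOf_le.trans inf_le_left)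
        (Subgroup.centralizer_le_normalizer _)) (le_normalizer_inf (hEV.trans le_normalizer_pCoreOf)
          (le_normalizer_centralizer (layerOf_le.trans inf_le_right)))
        (CfsgH2.isSolvable_of_isPGroup (isPGroup_pCoreOf.to_le inf_le_left))) hyE)
    (commutator_le_centralizer hL' (hEV.trans (Subgroup.le_normalizer.trans normalizer_le_LL)) hy)

theorem caseB (hW : Inv p G R W) {b : Γ} (hb : b ∈ R) (hb1 : b ≠ 1)
    (hY : Y ≤ G ⊓ centralizer {b}) (hRY : R ≤ normalizer (Y : Set Γ))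
    (hYW : Y ≤ centralizer (W : Set Γ))
    (hB : ∀ V, Inv p G R V → W ≤ V → V ≤ normalizer (W : Set Γ) → Y ≤ normalizer (V : Set Γ) →
      V ≤ W) : ⁅Y, R⁆ ≤ W := by
  have hS := h.sup (h.invT hb) hW
  have k1 : W = pCoreOf p (G ⊓ centralizer {b}) ⊔ W :=
    CfsgH2.normalizer_inf_ne_of_nilpotent hS.pg.isNilpotent le_sup_right
      (hB _ (hS.inf' (le_normalizer_normalizer hW.nA)) (le_inf le_sup_right Subgroup.le_normalizer)
        inf_le_right (le_normalizer_inf (le_normalizer_sup (hY.trans le_normalizer_pCoreOf)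
          (le_normalizer_of_le_centralizer hYW))
          (le_normalizer_normalizer (le_normalizer_of_le_centralizer hYW))))
  have k2 : pCoreOf p (G ⊓ centralizer {b}) ≤ W := le_sup_left.trans k1.ge
  exact (h.key0 hb hb1 hY hRY ((commutator_le_left_of_le_normalizer hRY).trans
    (hYW.trans (centralizer_anti k2)))).trans k2

theorem caseA1 (hp3 : 3 < p) (hP : Inv p G R P) (hm : ∀ V, Inv p G R V → V ≤ P) (hW : Inv p G R W)
    (hV : Inv p G R V) (hWV : W ≤ V)
    (hL : layerOf (G ⊓ normalizer (V : Set Γ)) ≤ centralizer (R : Set Γ))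
    (hY : Y ≤ layerOf (G ⊓ normalizer (W : Set Γ))) (hRY : R ≤ normalizer (Y : Set Γ))
    (hYV : Y ≤ normalizer (V : Set Γ)) :
    Y ≤ normalizer (Kmod W (P ⊓ normalizer (W : Set Γ) ⊓ normalizer (V : Set Γ)) : Set Γ) := by
  set E := layerOf (G ⊓ normalizer (W : Set Γ)) with hE
  set Q := P ⊓ normalizer (W : Set Γ) with hQd
  set L := LL p (G ⊓ normalizer (V : Set Γ)) with hLd
  set X := (E ⊔ Q) ⊓ normalizer (V : Set Γ) ⊓ centralizer (L : Set Γ) with hX
  have hL' : L ≤ centralizer (R : Set Γ) := sup_le hL (h.factF hV)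
  have hQ : Inv p G R Q := hP.inf' (le_normalizer_normalizer hW.nA)
  have hP' : Inv p G R (Q ⊓ normalizer (V : Set Γ)) := hQ.inf' (le_normalizer_normalizer hV.nA)
  have hEQ : E ⊔ Q ≤ G ⊓ normalizer (W : Set Γ) := sup_le layerOf_le (inf_le_inf_right _ hP.le)
  have hXW : X ≤ G ⊓ normalizer (W : Set Γ) := inf_le_left.trans (inf_le_left.trans hEQ)
  have hXG := hXW.trans inf_le_left
  have hXV : X ≤ G ⊓ normalizer (V : Set Γ) := le_inf hXG (inf_le_left.trans inf_le_right)
  have nX : AA G R ≤ normalizer (X : Set Γ) := le_normalizer_inf (le_normalizer_inf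
    (le_normalizer_sup ((h.nH hW).trans normalizer_le_normalizer_layerOf) hQ.nA)
    (le_normalizer_normalizer hV.nA)) (le_normalizer_centralizer ((h.nH hV).trans normalizer_le_LL))
  have cL : ∀ S, Inv p G R S → S ≤ normalizer (V : Set Γ) → S ≤ centralizer (L : Set Γ) :=
    fun S hS hSV => le_centralizer_LL hS.pg (le_inf hS.le hSV)
      ((le_inf (LL_le.trans inf_le_left) hL').trans hS.nC)
  have hPX : Q ⊓ normalizer (V : Set Γ) ≤ X :=
    le_inf (inf_le_inf_right _ le_sup_right) (cL _ hP' inf_le_right)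
  have hWP : W ≤ Q ⊓ normalizer (V : Set Γ) :=
    le_inf (le_inf (hm W hW) Subgroup.le_normalizer) (hWV.trans Subgroup.le_normalizer)
  have hEW : E ≤ centralizer (W : Set Γ) := le_centralizer_symm (le_centralizer_layerOf_of_solvable
    (le_inf hW.le Subgroup.le_normalizer) (layerOf_le.trans inf_le_right)
    (CfsgH2.isSolvable_of_isPGroup hW.pg))
  have key : X ≤ normalizer (Kmod W (Q ⊓ normalizer (V : Set Γ)) : Set Γ) := by
    refine le_normalizer_Kmod' (r := r) hp3 h.hR (h.cop.coprime_dvd_left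
      (Subgroup.card_dvd_of_le hXG)) (le_sup_left.trans nX)
      ⟨hPX, hP'.pg, hP'.nR, (inf_le_inf_right _ hXG).trans hP'.nC⟩
      (le_inf (le_inf (hm _ (Inv.pCoreOf hXG nX)) (pCoreOf_le.trans (hXW.trans inf_le_right)))
        (pCoreOf_le.trans (hXV.trans inf_le_right))) hWP (hXW.trans inf_le_right) hW.nR
      fun y hy hc h1 => ?_
    have hyE : y ∈ E := mem_of_mem_sup hQ.pg ((inf_le_inf_right _ hP.le).trans
      le_normalizer_layerOf) hc hy.1.1
    have h2 := mem_centralizer_of_commutator_le hW.pg hc (hEW hyE) h1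
    have hT : Inv p G R (pCoreOf p (G ⊓ normalizer (V : Set Γ)) ⊓ centralizer (W : Set Γ)) :=
      (Inv.pCoreOf inf_le_left (h.nH hV)).inf' (le_normalizer_centralizer hW.nA)
    have hTV := inf_le_left.trans (pCoreOf_le.trans inf_le_right : pCoreOf p (G ⊓
      normalizer (V : Set Γ)) ≤ _) (a := _ ⊓ centralizer (W : Set Γ))
    have h3 : y ∈ L := mem_LL_of hc (hXV hy) (hWV.trans (le_core hV)) (hEW hyE)
      (centralizer_anti (le_pCoreOf (le_inf (le_inf ((le_inf (hm _ hT) (inf_le_right.trans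
        (Subgroup.centralizer_le_normalizer _))).trans le_sup_right) hTV) (cL _ hT hTV))
        (le_normalizer_inf (hXV.trans le_normalizer_pCoreOf)
          (le_normalizer_centralizer (hXW.trans inf_le_right))) hT.pg) h2) hy.2
    exact le_centralizer_symm (inf_le_right : X ≤ _) h3
  have hYG : Y ≤ G := hY.trans (layerOf_le.trans inf_le_left)
  rw [← CfsgH2.commutator_sup_centralizer hRY (h.cp hYG) h.sv]
  refine sup_le (le_trans (le_inf ((commutator_le_left_of_le_normalizer hRY).trans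
    (le_inf (hY.trans le_sup_left) hYV)) (commutator_le_centralizer hL' ((le_inf hYG hYV).trans
      (Subgroup.le_normalizer.trans normalizer_le_LL)))) key) ?_
  exact (inf_le_inf_right _ hYG).trans (le_normalizer_Kmod hW.nC hP'.nC)

omit h in
theorem invK (hW : Inv p G R W) (hQ : Inv p G R Q) (hWQ : W ≤ Q) : Inv p G R (Kmod W Q) :=
  Inv.mk' ((Kmod_le hWQ).trans hQ.le) (hQ.pg.to_le (Kmod_le hWQ)) (le_normalizer_Kmod hW.nA hQ.nA)

theorem caseA (hp3 : 3 < p) (hP : Inv p G R P) (hm : ∀ V, Inv p G R V → V ≤ P) (hW : Inv p G R W)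
    (hmax : ∀ V, Inv p G R V → W < V →
      layerOf (G ⊓ normalizer (V : Set Γ)) ≤ centralizer (R : Set Γ))
    (hY : Y ≤ layerOf (G ⊓ normalizer (W : Set Γ))) (hRY : R ≤ normalizer (Y : Set Γ))
    (hV : Inv p G R V) (hWV : W < V) (hVW : V ≤ normalizer (W : Set Γ))
    (hYV : Y ≤ normalizer (V : Set Γ)) :
    Y ≤ normalizer (Kmod W (P ⊓ normalizer (W : Set Γ)) : Set Γ) := by
  set Q := P ⊓ normalizer (W : Set Γ) with hQd
  have hQ : Inv p G R Q := hP.inf' (le_normalizer_normalizer hW.nA)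
  obtain ⟨_, ⟨V, hV, hWV, hVW, hYV, rfl⟩, -, hM⟩ := exists_max_member (fun S : Subgroup Γ =>
    ∃ V, Inv p G R V ∧ W < V ∧ V ≤ normalizer (W : Set Γ) ∧ Y ≤ normalizer (V : Set Γ) ∧
      S = Q ⊓ normalizer (V : Set Γ)) ⟨V, hV, hWV, hVW, hYV, rfl⟩
  have k1 := h.caseA1 hp3 hP hm hW hV hWV.le (hmax V hV hWV) hY hRY hYV
  have hP' : Inv p G R (Q ⊓ normalizer (V : Set Γ)) := hQ.inf' (le_normalizer_normalizer hV.nA)
  have hWP : W < Q ⊓ normalizer (V : Set Γ) :=
    hWV.trans_le (le_inf (le_inf (hm V hV) hVW) Subgroup.le_normalizer)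
  have hPW : Q ⊓ normalizer (V : Set Γ) ≤ normalizer (W : Set Γ) := inf_le_left.trans inf_le_right
  have k2 : Q ⊓ normalizer ((Q ⊓ normalizer (V : Set Γ) : Subgroup Γ) : Set Γ) ≤
      Q ⊓ normalizer (Kmod W (Q ⊓ normalizer (V : Set Γ)) : Set Γ) :=
    le_inf inf_le_left (le_normalizer_Kmod (inf_le_left.trans inf_le_right) inf_le_right)
  have k3 := hM _ ⟨_, invK hW hP' hWP.le, lt_Kmod hP'.pg hWP hPW, (Kmod_le hWP.le).trans hPW, k1,
    rfl⟩ ((le_inf inf_le_left Subgroup.le_normalizer).trans k2)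
  rwa [CfsgH2.normalizer_inf_ne_of_nilpotent hQ.pg.isNilpotent inf_le_left (k2.trans k3.le)] at k1

theorem main (hp3 : 3 < p) (hW : Inv p G R W) :
    layerOf (G ⊓ normalizer (W : Set Γ)) ≤ centralizer (R : Set Γ) := by
  obtain ⟨P, hP, hm⟩ := h.exists_max
  by_contra hc
  obtain ⟨W, ⟨hW, hc⟩, -, hM⟩ := exists_max_member (fun W : Subgroup Γ => Inv p G R W ∧
    ¬ layerOf (G ⊓ normalizer (W : Set Γ)) ≤ centralizer (R : Set Γ)) ⟨hW, hc⟩
  have hmax : ∀ V, Inv p G R V → W < V →
      layerOf (G ⊓ normalizer (V : Set Γ)) ≤ centralizer (R : Set Γ) := fun V hV hWV => by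
    by_contra hc'
    exact hWV.ne' (hM V ⟨hV, hc'⟩ hWV.le)
  set E := layerOf (G ⊓ normalizer (W : Set Γ)) with hE
  have hQ : Inv p G R (P ⊓ normalizer (W : Set Γ)) := hP.inf' (le_normalizer_normalizer hW.nA)
  have hWQ : W ≤ P ⊓ normalizer (W : Set Γ) := le_inf (hm W hW) Subgroup.le_normalizer
  have hRH := le_sup_left.trans (h.nH hW)
  have hRE : R ≤ normalizer (E : Set Γ) := hRH.trans normalizer_le_normalizer_layerOf
  have hEG : E ≤ G := layerOf_le.trans inf_le_left
  have hEW : E ≤ centralizer (W : Set Γ) := le_centralizer_symm (le_centralizer_layerOf_of_solvable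
    (le_inf hW.le Subgroup.le_normalizer) (layerOf_le.trans inf_le_right)
    (CfsgH2.isSolvable_of_isPGroup hW.pg))
  have hRY : ∀ b ∈ R, R ≤ normalizer ((E ⊓ centralizer {b} : Subgroup Γ) : Set Γ) := fun b hb =>
    le_normalizer_inf hRE (le_sup_left.trans (h.nb hb))
  have hB : ∀ b ∈ R, b ≠ 1 → (∀ V, Inv p G R V → W ≤ V → V ≤ normalizer (W : Set Γ) →
      E ⊓ centralizer {b} ≤ normalizer (V : Set Γ) → V ≤ W) →
      E ⊓ centralizer {b} ≤ W ⊔ (G ⊓ centralizer (R : Set Γ)) := fun b hb hb1 hB => by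
    rw [← CfsgH2.commutator_sup_centralizer (hRY b hb) (h.cp (inf_le_left.trans hEG)) h.sv]
    exact sup_le_sup (h.caseB hW hb hb1 (inf_le_inf_right _ hEG) (hRY b hb)
      (inf_le_left.trans hEW) hB) (inf_le_inf_right _ (inf_le_left.trans hEG))
  rcases hWQ.eq_or_lt with e | hlt
  · have k1 := CfsgH2.le_of_noncyclic h.ab h.nc hRE (h.cp hEG) fun b hb hb1 =>
      hB b hb hb1 fun V hV _ hVW _ => (le_inf (hm V hV) hVW).trans e.ge
    have k2 : ⁅E, R⁆ ≤ W := (Subgroup.commutator_mono k1 le_rfl).trans (commutator_sup_left_le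
      Subgroup.le_normalizer hW.nC (commutator_le_left_of_le_normalizer hW.nR) (by
        rw [commutator_eq_bot_of_le_centralizer inf_le_right]; exact bot_le))
    exact hc (layerOf_le_centralizer (p := p) hRH fun y hy hc => by
      rw [CfsgH1.eq_one_of_mem_pgroup_of_coprime hW.pg (k2 hy) hc]; exact one_mem _)
  have hK := invK hW hQ hWQ
  have k1 : E ≤ normalizer (Kmod W (P ⊓ normalizer (W : Set Γ)) : Set Γ) := by
    refine CfsgH2.le_of_noncyclic h.ab h.nc hRE (h.cp hEG) fun b hb hb1 => ?_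
    by_cases hA : ∀ V, Inv p G R V → W ≤ V → V ≤ normalizer (W : Set Γ) →
      E ⊓ centralizer {b} ≤ normalizer (V : Set Γ) → V ≤ W
    · exact (hB b hb hb1 hA).trans (sup_le (le_normalizer_Kmod Subgroup.le_normalizer
        (hWQ.trans Subgroup.le_normalizer)) hK.nC)
    · push Not at hA
      obtain ⟨V, hV, h1, h2, h3, h4⟩ := hA
      exact h.caseA hp3 hP hm hW hmax inf_le_left (hRY b hb) hV (lt_of_le_not_ge h1 h4) h2 h3
  have hlt' := lt_Kmod hQ.pg hlt inf_le_right
  exact hc (h.claimA hW hK hlt'.le (le_centralizer_layerOf_of_solvable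
    ((Kmod_le hWQ).trans (inf_le_inf_right _ hP.le)) k1 (CfsgH2.isSolvable_of_isPGroup hK.pg))
    (hmax _ hK hlt'))

theorem final (hp3 : 3 < p) : R ≤ centralizer (pResidualOf p (gfOf G) : Set Γ) := by
  have hb : Inv p G R ⊥ := Inv.mk' bot_le IsPGroup.of_bot (le_normalizer_of_normal _)
  have k : LL p (G ⊓ normalizer ((⊥ : Subgroup Γ) : Set Γ)) ≤ centralizer (R : Set Γ) :=
    sup_le (h.main hp3 hb) (h.factF hb)
  rw [inf_eq_left.2 (le_normalizer_of_normal _)] at k
  refine le_centralizer_symm ?_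
  rw [pResidualOf_eq_piResidualOf, piResidualOf_eq_closure, Subgroup.closure_le]
  exact fun y hy => k (mem_LL_of_mem_gfOf (((Nat.Prime.coprime_iff_not_dvd hp.out).2 fun hd =>
      hy.2 p hp.out hd rfl).symm) hy.1)

end Hyp

end CfsgH3.FQ
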