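import Cfsg.Agent.H9.QFinal
import Cfsg.Agent.H3.FFRep
import Cfsg.Agent.H3.NonStable

/-! Ring identities for standard pairs, counting lemmas, unipotent groups. -/

set_option autoImplicit false
set_option linter.unusedSectionVars false
set_option linter.style.haveILetI false
set_option maxHeartbeats 400000

namespace CfsgH3.FQ

open CfsgH9 Subgroup

section Ring
variable {A : Type*} [Ring A] {s t : A}

/-- conjugation of a ring element by a unit -/
abbrev cn (g : Aˣ) (x : A) : A := g * x * (g⁻¹ : Aˣ)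

theorem cn_mul (g h : Aˣ) (x : A) : cn (g * h) x = cn g (cn h x) := by
  simp only [cn, Units.val_mul, mul_inv_rev, mul_assoc]

theorem cn_one (x : A) : cn 1 x = x := by simp [cn]

theorem cn_inv_cn (g : Aˣ) (x : A) : cn g⁻¹ (cn g x) = x := by
  rw [← cn_mul, inv_mul_cancel, cn_one]

theorem cn_cn_inv (g : Aˣ) (x : A) : cn g (cn g⁻¹ x) = x := by
  rw [← cn_mul, mul_inv_cancel, cn_one]

theorem cn_mul' (g : Aˣ) (x y : A) : cn g (x * y) = cn g x * cn g y := by
  simp [cn, mul_assoc]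

theorem cn_add (g : Aˣ) (x y : A) : cn g (x + y) = cn g x + cn g y := by
  simp [cn, mul_add, add_mul]

theorem cn_sub (g : Aˣ) (x y : A) : cn g (x - y) = cn g x - cn g y := by
  simp [cn, mul_sub, sub_mul]

theorem cn_neg (g : Aˣ) (x : A) : cn g (-x) = -cn g x := by simp [cn]

theorem cn_zero (g : Aˣ) : cn g (0 : A) = 0 := by simp [cn]

theorem cn_one' (g : Aˣ) : cn g (1 : A) = 1 := by simp [cn]

theorem cn_eq_zero {g : Aˣ} {x : A} : cn g x = 0 ↔ x = 0 :=
  ⟨fun h => by rw [← cn_inv_cn g x, h, cn_zero], fun h => by rw [h, cn_zero]⟩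

theorem cn_inj {g : Aˣ} {x y : A} (h : cn g x = cn g y) : x = y := by
  rw [← cn_inv_cn g x, h, cn_inv_cn]

theorem cn_eq_iff {g : Aˣ} {x : A} : cn g x = x ↔ g * x = x * g := by
  rw [cn, Units.mul_inv_eq_iff_eq_mul]

theorem cn_val (g h : Aˣ) : ((g * h * g⁻¹ : Aˣ) : A) = cn g h := by simp [cn]

theorem cn_val_sub (g h : Aˣ) : ((g * h * g⁻¹ : Aˣ) : A) - 1 = cn g (h - 1) := by
  rw [cn_sub, cn_one', cn_val]

theorem _root_.CfsgH9.Std.cn (h : Std s t) (g : Aˣ) : Std (cn g s) (cn g t) :=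
  ⟨by rw [← cn_mul', h.ss, cn_zero], by rw [← cn_mul', h.tt, cn_zero],
    by rw [← cn_mul', ← cn_mul', h.sts], by rw [← cn_mul', ← cn_mul', h.tst],
    fun e => h.ne (cn_eq_zero.1 e)⟩

theorem _root_.CfsgH9.Std.ss' (h : Std s t) (x : A) : s * (s * x) = 0 := by
  rw [← mul_assoc, h.ss, zero_mul]
theorem _root_.CfsgH9.Std.tt' (h : Std s t) (x : A) : t * (t * x) = 0 := h.symm.ss' x
theorem _root_.CfsgH9.Std.sts1 (h : Std s t) : s * (t * s) = s := by rw [← mul_assoc, h.sts]
theorem _root_.CfsgH9.Std.tst1 (h : Std s t) : t * (s * t) = t := h.symm.sts1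
theorem _root_.CfsgH9.Std.sts2 (h : Std s t) (x : A) : s * (t * (s * x)) = s * x := by
  rw [← mul_assoc, ← mul_assoc, h.sts]
theorem _root_.CfsgH9.Std.tst2 (h : Std s t) (x : A) : t * (s * (t * x)) = t * x := h.symm.sts2 x

/-- the Weyl element -/
def nS (h : Std s t) : Aˣ := uS s h.ss * (uS t h.tt)⁻¹ * uS s h.ss

theorem nS_val (h : Std s t) : (nS h : A) = 1 - (s * t + t * s) + s - t := by
  simp only [nS, Units.val_mul, uS_val, uS_inv, mul_add, add_mul, mul_sub, sub_mul, mul_assoc,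
    one_mul, mul_one, h.ss, h.sts1]
  abel

theorem nS_inv (h : Std s t) : (((nS h)⁻¹ : Aˣ) : A) = 1 - (s * t + t * s) - s + t := by
  simp only [nS, mul_inv_rev, inv_inv, Units.val_mul, uS_val, uS_inv, mul_add, add_mul, mul_sub,
    sub_mul, mul_assoc, one_mul, mul_one, h.ss, h.sts1]
  abel

/-- the central involution -/
def zS (h : Std s t) : Aˣ := nS h * nS h

theorem zS_val (h : Std s t) : (zS h : A) = 1 - (s * t + t * s) - (s * t + t * s) := by
  simp only [zS, Units.val_mul, nS_val, mul_add, add_mul, mul_sub, sub_mul, mul_assoc,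
    one_mul, mul_one, h.ss, h.tt, h.ss', h.tt', h.sts1, h.tst1, h.sts2, h.tst2, mul_zero]
  abel

theorem zS_mul_zS (h : Std s t) : zS h * zS h = 1 := by
  apply Units.ext
  simp only [Units.val_mul, zS_val, mul_add, add_mul, mul_sub, sub_mul, mul_assoc, Units.val_one,
    one_mul, mul_one, h.ss', h.tt', h.sts2, h.tst2, mul_zero]
  abel

theorem zS_inv (h : Std s t) : (zS h)⁻¹ = zS h := inv_eq_of_mul_eq_one_right (zS_mul_zS h)

theorem zS_symm (h : Std s t) : zS h.symm = zS h := by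
  apply Units.ext; rw [zS_val, zS_val, add_comm (t * s)]

theorem nS_mem {G : Subgroup Aˣ} (h : Std s t) (hs : uS s h.ss ∈ G) (ht : uS t h.tt ∈ G) :
    nS h ∈ G := mul_mem (mul_mem hs (inv_mem ht)) hs

theorem zS_mem {G : Subgroup Aˣ} (h : Std s t) (hs : uS s h.ss ∈ G) (ht : uS t h.tt ∈ G) :
    zS h ∈ G := mul_mem (nS_mem h hs ht) (nS_mem h hs ht)

/-- degree two -/
structure D2 (s t a : A) : Prop where
  l : s * (t * a) = a
  r : a * (t * s) = a

theorem D2.sa {a : A} (h : Std s t) (ha : D2 s t a) : s * a = 0 := by rw [← ha.l, h.ss']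
theorem D2.as {a : A} (h : Std s t) (ha : D2 s t a) : a * s = 0 := by
  rw [← ha.r, mul_assoc, mul_assoc, h.ss, mul_zero, mul_zero]
theorem D2.l' {a : A} (ha : D2 s t a) (x : A) : s * (t * (a * x)) = a * x := by
  rw [← mul_assoc t, ← mul_assoc s, ha.l]
theorem D2.r' {a : A} (ha : D2 s t a) (x : A) : a * (t * (s * x)) = a * x := by
  rw [← mul_assoc t, ← mul_assoc a, ha.r]
theorem D2.sa' {a : A} (h : Std s t) (ha : D2 s t a) (x : A) : s * (a * x) = 0 := by
  rw [← mul_assoc, ha.sa h, zero_mul]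
theorem D2.as' {a : A} (h : Std s t) (ha : D2 s t a) (x : A) : a * (s * x) = 0 := by
  rw [← mul_assoc, ha.as h, zero_mul]

theorem cn_nS_D2 (h : Std s t) {b : A} (hb : D2 t s b) : cn (nS h) b = -(s * b * s) := by
  simp only [cn, nS_val, nS_inv, mul_add, add_mul, mul_sub, sub_mul, mul_assoc,
    one_mul, mul_one, hb.l, hb.r, hb.l', hb.r', hb.sa h.symm, hb.as h.symm, hb.sa' h.symm,
    hb.as' h.symm, mul_zero, zero_mul]
  abel

theorem cn_nS_D2' (h : Std s t) {a : A} (ha : D2 s t a) : cn (nS h) a = -(t * a * t) := by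
  simp only [cn, nS_val, nS_inv, mul_add, add_mul, mul_sub, sub_mul, mul_assoc,
    one_mul, mul_one, ha.l, ha.r, ha.l', ha.r', ha.sa h, ha.as h, ha.sa' h,
    ha.as' h, mul_zero, zero_mul]
  abel

theorem _root_.CfsgH9.Std.d2 (h : Std s t) : D2 s t s := ⟨h.sts1, h.sts1⟩

theorem cn_nS_s (h : Std s t) : cn (nS h) s = -t := by rw [cn_nS_D2' h h.d2, h.tst]
theorem cn_nS_t (h : Std s t) : cn (nS h) t = -s := by rw [cn_nS_D2 h h.symm.d2, h.sts]

theorem cn_zS_D2 (h : Std s t) {a : A} (ha : D2 s t a) : cn (zS h) a = a := by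
  simp only [cn, zS_inv, zS_val, mul_add, add_mul, mul_sub, sub_mul, mul_assoc,
    one_mul, mul_one, ha.l, ha.r, ha.l', ha.r', ha.sa h, ha.as h, ha.sa' h,
    ha.as' h, mul_zero, zero_mul]
  abel

theorem cn_zS_s (h : Std s t) : cn (zS h) s = s := cn_zS_D2 h h.d2
theorem cn_zS_t (h : Std s t) : cn (zS h) t = t := by
  rw [← zS_symm]; exact cn_zS_s h.symm

theorem cn_zS_zS (h : Std s t) (x : A) : cn (zS h) (cn (zS h) x) = x := by
  rw [← cn_mul, zS_mul_zS, cn_one]

/-- degree one -/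
structure D1 (s t η : A) : Prop where
  sη : s * η = 0
  ηs : η * s = 0
  eq : s * (t * η) + η * (t * s) = η

namespace D1
variable {η : A} (h : Std s t) (hη : D1 s t η)
include hη

theorem sη' (x : A) : s * (η * x) = 0 := by rw [← mul_assoc, hη.sη, zero_mul]
theorem ηs' (x : A) : η * (s * x) = 0 := by rw [← mul_assoc, hη.ηs, zero_mul]

include h in
theorem tηt : t * (η * t) = 0 := by
  have := congrArg (fun x => t * (x * t)) hη.eq
  simp only [mul_add, add_mul, mul_assoc, h.tst1, h.tst2] at this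
  exact add_eq_left.1 this

include h in
theorem tηt' (x : A) : t * (η * (t * x)) = 0 := by
  rw [← mul_assoc η, ← mul_assoc t, hη.tηt h, zero_mul]

theorem stηη : s * (t * (η * η)) = η * η := by
  have := congrArg (fun x => x * η) hη.eq
  simpa only [add_mul, mul_assoc, hη.sη, mul_zero, add_zero] using this

theorem ηηts : η * (η * (t * s)) = η * η := by
  have := congrArg (fun x => η * x) hη.eq
  simpa only [mul_add, mul_assoc, hη.ηs', zero_add] using this

theorem stηη' (x : A) : s * (t * (η * (η * x))) = η * (η * x) := by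
  have := congrArg (fun y => y * x) hη.stηη
  simpa only [mul_assoc] using this

theorem ηηts' (x : A) : η * (η * (t * (s * x))) = η * (η * x) := by
  have := congrArg (fun y => y * x) hη.ηηts
  simpa only [mul_assoc] using this

theorem cube : η * (η * η) = 0 := by rw [← hη.stηη, hη.ηs']

theorem cube' (x : A) : η * (η * (η * x)) = 0 := by
  have := congrArg (fun y => y * x) hη.cube
  simpa only [mul_assoc, zero_mul] using this

theorem d2_sq : D2 s t (η * η) := ⟨hη.stηη, by rw [mul_assoc, hη.ηηts]⟩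

include h in
theorem cn_nS : cn (nS h) η = η * t - t * η := by
  have e1 : (nS h : A) * η = η * (t * s) - t * η := by
    simp only [nS_val, add_mul, sub_mul, mul_assoc, one_mul, hη.sη, mul_zero]
    nth_rewrite 1 [← hη.eq]
    abel
  rw [cn, e1]
  simp only [nS_inv, mul_add, mul_sub, sub_mul, mul_assoc, mul_one, h.ss, h.ss',
    h.tst1, h.tst2, hη.tηt h, hη.tηt' h, hη.ηs, hη.ηs', mul_zero]
  abel

include h in
theorem cn_zS : cn (zS h) η = -η := by
  simp only [cn, zS_inv, zS_val, mul_add, add_mul, mul_sub, sub_mul, mul_assoc,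
    one_mul, mul_one, hη.tηt' h, hη.sη, hη.sη', hη.ηs', mul_zero, zero_mul]
  linear_combination (norm := abel) -hη.eq - hη.eq

theorem neg : D1 s t (-η) :=
  ⟨by rw [mul_neg, hη.sη, neg_zero], by rw [neg_mul, hη.ηs, neg_zero],
    by rw [mul_neg, mul_neg, neg_mul, ← neg_add, hη.eq]⟩

theorem add {θ : A} (hθ : D1 s t θ) : D1 s t (η + θ) :=
  ⟨by rw [mul_add, hη.sη, hθ.sη, add_zero], by rw [add_mul, hη.ηs, hθ.ηs, add_zero],
    by rw [mul_add, mul_add, add_mul, add_add_add_comm, hη.eq, hθ.eq]⟩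

theorem sub {θ : A} (hθ : D1 s t θ) : D1 s t (η - θ) := by
  rw [sub_eq_add_neg]; exact hη.add hθ.neg

include h in
/-- `ζ = η t - t η` satisfies `[ζ, s] = η`. -/
theorem comm_s : (η * t - t * η) * s - s * (η * t - t * η) = η := by
  simp only [mul_sub, sub_mul, mul_assoc, hη.ηs, hη.sη', mul_zero]
  nth_rewrite 3 [← hη.eq]
  abel

include h in
theorem eq_zero_of_comm (hc : η * t = t * η) : η = 0 := by
  rw [← hη.comm_s h, hc, sub_self]; simp

end D1

/-- the radical condition -/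
structure N3 (s t θ : A) : Prop where
  sη : s * θ = 0
  ηs : θ * s = 0
  eq : s * (t * θ) + θ * (t * s) - s * (t * (θ * (t * s))) = θ

theorem N3.d2 {θ : A} (h : Std s t) : D2 s t (s * (t * (θ * (t * s)))) :=
  ⟨h.sts2 _, by simp only [mul_assoc, h.sts1]⟩

theorem N3.d1 {θ : A} (h : Std s t) (hθ : N3 s t θ) : D1 s t (θ - s * (t * (θ * (t * s)))) := by
  refine ⟨?_, ?_, ?_⟩
  · rw [mul_sub, hθ.sη, h.ss', sub_zero]
  · simp only [sub_mul, mul_assoc, hθ.ηs, h.ss, mul_zero, sub_zero]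
  · simp only [mul_sub, sub_mul, mul_assoc, h.sts1, h.sts2]
    nth_rewrite 5 [← hθ.eq]
    abel

theorem N3.cn_zS {θ : A} (h : Std s t) (hθ : N3 s t θ) :
    cn (zS h) θ = -θ + s * (t * (θ * (t * s))) + s * (t * (θ * (t * s))) := by
  have := cn_add (zS h) (θ - s * (t * (θ * (t * s)))) (s * (t * (θ * (t * s))))
  rw [sub_add_cancel, (hθ.d1 h).cn_zS h, cn_zS_D2 h (N3.d2 h)] at this
  rw [this]; abel

/-- Two partners with the same idempotent differ by a translation. -/
theorem same_e {t' : A} (h : Std s t) (h' : Std s t') (he : s * t' + t' * s = s * t + t * s) :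
    D2 s t (t' * s - t * s) ∧
    (t' * s - t * s) * t * (t' * s - t * s) = -(s * (t * t' * t) * s) ∧
    (1 + (t' * s - t * s)) * t * (1 - (t' * s - t * s)) = t' := by
  obtain ⟨δ, rfl⟩ : ∃ δ, t' = t + δ := ⟨t' - t, by abel⟩
  have e1 : δ * s = -(s * δ) := by
    rw [mul_add, add_mul] at he
    rw [eq_neg_iff_add_eq_zero, ← sub_eq_zero.2 he]; abel
  have e1' : ∀ x, δ * (s * x) = -(s * (δ * x)) := fun x => by
    rw [← mul_assoc, e1, neg_mul, mul_assoc]
  have e2 : s * (δ * (t * s)) = s * δ := by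
    have : (t + δ) * (s * t + t * s) = t + δ := by
      rw [← he, mul_add, ← mul_assoc, h'.tst, ← mul_assoc, h'.tt, zero_mul, add_zero]
    have := congrArg (fun x => s * x) this
    simp only [mul_add, add_mul, mul_assoc, h.tt', h.tst1, e1', mul_neg, h.ss'] at this
    simpa using this
  have e2' : ∀ x, s * (δ * (t * (s * x))) = s * (δ * x) := fun x => by
    have := congrArg (fun y => y * x) e2
    simpa only [mul_assoc] using this
  have e3 : δ * δ = -(t * δ) - δ * t := by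
    have := h'.tt
    rw [mul_add, add_mul, add_mul, h.tt] at this
    rw [← sub_eq_zero, ← this]; abel
  have e4 : s * (t * δ) + t * (s * δ) = δ := by
    have := h'.et
    rw [he] at this
    simp only [mul_add, add_mul, mul_assoc, h.tt, h.tst1, mul_zero] at this
    rw [← sub_eq_zero, ← sub_eq_zero.2 this]; abel
  have e0 : (t + δ) * s - t * s = -(s * δ) := by rw [add_mul, e1]; abel
  have e5 : s * (t * (δ * (t * s))) = s * (t * δ) + s * (δ * t) := by
    have : t * s = (s * t + t * s) - s * t := by abel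
    have e6 : δ * (s * t + t * s) = δ := by
      have h1 : (t + δ) * (s * t + t * s) = t + δ := by
        rw [← he, mul_add, ← mul_assoc, h'.tst, ← mul_assoc, h'.tt, zero_mul, add_zero]
      rw [add_mul, mul_add t, h.tst1, h.tt', add_zero] at h1
      exact add_left_cancel h1
    rw [this, mul_sub δ, e6, e1', mul_sub, mul_sub, mul_neg, mul_neg, h.sts2]
    abel
  rw [e0]
  refine ⟨⟨by rw [mul_neg, mul_neg, h.sts2], by rw [neg_mul, mul_assoc, e2]⟩, ?_, ?_⟩
  · simp only [mul_neg, neg_mul, neg_neg, mul_assoc, mul_add, add_mul, h.tt', e2', e3, e5, mul_sub,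
      mul_zero, zero_add]
    abel
  · simp only [mul_neg, neg_mul, neg_neg, mul_assoc, mul_add, add_mul, e2', e3, mul_sub,
      sub_neg_eq_add, one_mul, mul_one]
    linear_combination (norm := abel) e4

end Ring

section Count

theorem card_dvd_of_trans {Γ X : Type*} [Group Γ] [MulAction Γ X] (H : Subgroup Γ) (S : Set X)
    {x₀ : X} (hH : ∀ h ∈ H, h • x₀ ∈ S) (htr : ∀ x ∈ S, ∃ h ∈ H, h • x₀ = x) :
    Nat.card S ∣ Nat.card H := by
  have : S = MulAction.orbit H x₀ := by
    ext x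
    exact ⟨fun hx => let ⟨h, hh, e⟩ := htr x hx; ⟨⟨h, hh⟩, e⟩, by rintro ⟨h, rfl⟩; exact hH h h.2⟩
  rw [this, Nat.card_congr (MulAction.orbitEquivQuotientStabilizer H x₀)]
  exact Subgroup.card_quotient_dvd_card _

theorem fix_of_card {Γ X : Type*} [Group Γ] [MulAction Γ X] {r : ℕ} [Fact r.Prime] {R : Subgroup Γ}
    (hR : IsPGroup r R) (S : Set X) (hS : ∀ ρ ∈ R, ∀ x ∈ S, ρ • x ∈ S) (hc : ¬ r ∣ Nat.card S) :
    ∃ x ∈ S, ∀ ρ ∈ R, ρ • x = x := by
  letI : MulAction R S :=
    { smul := fun ρ x => ⟨(ρ : Γ) • (x : X), hS _ ρ.2 _ x.2⟩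
      one_smul := fun x => Subtype.ext (one_smul Γ (x : X))
      mul_smul := fun a b x => Subtype.ext (mul_smul (a : Γ) (b : Γ) (x : X)) }
  obtain ⟨x, hx⟩ := hR.nonempty_fixed_point_of_prime_not_dvd_card S hc
  exact ⟨x, x.2, fun ρ hρ => congrArg Subtype.val (hx ⟨ρ, hρ⟩)⟩

theorem fix_of_trans {Γ X : Type*} [Group Γ] [MulAction Γ X] {r : ℕ} [hr : Fact r.Prime]
    {R : Subgroup Γ} (hR : IsPGroup r R) (H : Subgroup Γ) (S : Set X) {x₀ : X}
    (hH : ∀ h ∈ H, h • x₀ ∈ S) (htr : ∀ x ∈ S, ∃ h ∈ H, h • x₀ = x)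
    (hS : ∀ ρ ∈ R, ∀ x ∈ S, ρ • x ∈ S) (hc : (Nat.card H).Coprime r) :
    ∃ x ∈ S, ∀ ρ ∈ R, ρ • x = x :=
  fix_of_card hR S hS fun hd =>
    (Nat.Prime.coprime_iff_not_dvd hr.out).1 hc.symm (hd.trans (card_dvd_of_trans H S hH htr))

/-- conjugation action of the units on a ring -/
@[reducible] def cnAct (A : Type*) [Ring A] : MulAction Aˣ A where
  smul := cn
  one_smul := cn_one
  mul_smul := cn_mul

/-- conjugation action on subgroups -/
@[reducible] def cjAct (Γ : Type*) [Group Γ] : MulAction Γ (Subgroup Γ) where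
  smul := cj
  one_smul := cj_one
  mul_smul := fun a b x => (cj_cj a b x).symm

end Count

section Unip
variable {p : ℕ} [hp : Fact p.Prime]

theorem isPGroup_of_unip {A : Type*} [Ring A] [Algebra (ZMod p) A] {H : Subgroup Aˣ}
    (h : Unip (ZMod p) H) : IsPGroup p H := by
  obtain ⟨N, ⟨-, n, hn⟩, hN⟩ := h
  intro g
  obtain ⟨j, hj⟩ := exists_pow_eq_one_of_isNilpotent (p := p) (r := ((g : Aˣ) : A))
    ⟨n, by
      have := Submodule.pow_mem_pow N (hN g g.2) n
      rwa [hn, Submodule.mem_bot] at this⟩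
  exact ⟨j, Subtype.ext (Units.ext (by simpa using hj))⟩

variable {M : Type*} [AddCommGroup M] [Module (ZMod p) M] [Finite M]

theorem unip_of_isPGroup {H : Subgroup (M →ₗ[ZMod p] M)ˣ} (h : IsPGroup p H) :
    Unip (ZMod p) H := by
  obtain ⟨W, hW0, hW⟩ : ∃ W : ℕ → Submodule (ZMod p) M, W 0 = ⊥ ∧
      ∀ n v, v ∈ W (n + 1) ↔ ∀ g ∈ H, (g : M →ₗ[ZMod p] M) v - v ∈ W n :=
    ⟨fun n => Nat.rec ⊥
      (fun _ U => ⨅ g ∈ H, U.comap (((g : (M →ₗ[ZMod p] M)ˣ) : M →ₗ[ZMod p] M) - 1)) n, rfl,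
      fun n v => by simp [Submodule.mem_iInf]⟩
  have hmono : ∀ n, W n ≤ W (n + 1) := by
    intro n
    induction n with
    | zero => rw [hW0]; exact bot_le
    | succ n ih => exact fun v hv => (hW _ v).2 fun g hg => ih ((hW _ v).1 hv g hg)
  have hinv : ∀ n, ∀ g ∈ H, ∀ v ∈ W n, (g : M →ₗ[ZMod p] M) v ∈ W n := by
    intro n g hg v hv
    cases n with
    | zero => rw [hW0] at hv; rw [show v = 0 from hv, map_zero]; exact zero_mem _
    | succ n => simpa using add_mem (hmono n ((hW n v).1 hv g hg)) hv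
  have hlt : ∀ n, W n ≠ ⊤ → W n < W (n + 1) := by
    intro n hn
    obtain ⟨v, hv, hv'⟩ := exists_fixed_mod (p := p) (V := M) (H := (M →ₗ[ZMod p] M)ˣ)
      (fun v => ZModModule.char_nsmul_eq_zero p v) h (U := (W n).toAddSubgroup)
      (fun a ha v hv => hinv n a ha v hv) (fun e => hn (Submodule.toAddSubgroup_injective e))
    exact lt_of_le_of_ne (hmono n) fun e => hv (by
      have := (hW n v).2 hv'
      rwa [← e] at this)
  obtain ⟨n, hn⟩ : ∃ n, W n = ⊤ := by
    by_contra hc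
    push Not at hc
    exact not_strictMono_of_wellFoundedGT W (strictMono_nat_of_lt_succ fun n => hlt n (hc n))
  let N : Submodule (ZMod p) (M →ₗ[ZMod p] M) :=
    { carrier := {f | ∀ i, ∀ v ∈ W (i + 1), f v ∈ W i}
      zero_mem' := fun i v _ => zero_mem _
      add_mem' := fun ha hb i v hv => add_mem (ha i v hv) (hb i v hv)
      smul_mem' := fun c _ ha i v hv => Submodule.smul_mem _ c (ha i v hv) }
  have hpow : ∀ j, ∀ f ∈ N ^ j, ∀ i, ∀ v ∈ W (i + j), f v ∈ W i := by
    intro j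
    induction j with
    | zero =>
      intro f hf i v hv
      rw [pow_zero, Submodule.mem_one] at hf
      obtain ⟨c, rfl⟩ := hf
      exact Submodule.smul_mem _ c hv
    | succ j ih =>
      intro f hf
      rw [pow_succ] at hf
      refine Submodule.mul_induction_on hf (fun a ha b hb i v hv => ih a ha i _ (hb _ v hv))
        fun a b ha hb i v hv => add_mem (ha i v hv) (hb i v hv)
  refine ⟨N, ⟨Submodule.mul_le.2 fun a ha b hb i v hv => ha i _ (hmono i (hb i v hv)), n, ?_⟩,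
    fun g hg i v hv => (hW i v).1 hv g hg⟩
  refine eq_bot_iff.2 fun f hf => LinearMap.ext fun v => ?_
  have := hpow n f hf 0 v (by rw [zero_add, hn]; trivial)
  rwa [hW0] at this

theorem pow_one_add {A : Type*} [Ring A] {θ : A} (h : θ * θ = 0) (n : ℕ) :
    (1 + θ) ^ n = 1 + n • θ := by
  induction n with
  | zero => simp
  | succ n ih =>
    rw [pow_succ, ih, succ_nsmul, mul_add, add_mul, add_mul, smul_mul_assoc, smul_mul_assoc, h]
    simp [add_assoc]

theorem qn_of_sq {A : Type*} [Ring A] [Algebra (ZMod p) A] {G : Subgroup Aˣ} {θ : A}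
    (h : θ * θ = 0) (hG : InG G (1 + θ)) : QN (ZMod p) G θ := by
  obtain ⟨g, hg, e⟩ := hG
  refine ⟨h, fun c => ⟨g ^ c.val, pow_mem hg _, ?_⟩⟩
  rw [Units.val_pow_eq_pow_val, e, pow_one_add h, ← Nat.cast_smul_eq_nsmul (ZMod p),
    ZMod.natCast_zmod_val]

theorem two_ne (h : 3 < p) : (2 : ZMod p) ≠ 0 := by
  intro e
  have := (ZMod.natCast_eq_zero_iff 2 p).1 (by exact_mod_cast e)
  exact absurd (Nat.le_of_dvd two_pos this) (by omega)

theorem three_lt (h : 3 < p) : 3 < ENat.card (ZMod p) := by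
  rw [ENat.card_eq_coe_natCard, Nat.card_zmod]; exact_mod_cast h

end Unip

end CfsgH3.FQ
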