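import Cfsg.Agent.H3.FQ1

/-! Root elements: radicals and transitivity on partners. -/

set_option autoImplicit false
set_option linter.unusedSectionVars false
set_option linter.style.haveILetI false
set_option maxHeartbeats 400000

namespace CfsgH3.FQ

open CfsgH9 LinearMap

section Gen
variable {k : Type*} [Field k] {M : Type*} [AddCommGroup M] [Module k M]
  {G : Subgroup (M →ₗ[k] M)ˣ}

theorem cn_smul {A : Type*} [Ring A] [Algebra k A] (g : Aˣ) (c : k) (x : A) :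
    cn g (c • x) = c • cn g x := by simp [cn]

theorem InG.cn {A : Type*} [Ring A] {G : Subgroup Aˣ} {x : A} (h : InG G x) {g : Aˣ}
    (hg : g ∈ Subgroup.normalizer (G : Set Aˣ)) : InG G (cn g x) := by
  obtain ⟨y, hy, rfl⟩ := h
  exact ⟨g * y * g⁻¹, conj_mem_of_mem_normalizer hg hy, cn_val g y⟩

theorem qn_cn {A : Type*} [Ring A] [Algebra k A] {G : Subgroup Aˣ} {s : A} (h : QN k G s) {g : Aˣ}
    (hg : g ∈ Subgroup.normalizer (G : Set Aˣ)) : QN k G (cn g s) :=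
  ⟨by rw [← cn_mul', h.sq, cn_zero], fun c => by
    have := InG.cn (h.fam c) hg
    rwa [cn_add, cn_one', cn_smul] at this⟩

theorem cn_mem_ES {s t : M →ₗ[k] M} {g : (M →ₗ[k] M)ˣ}
    (hg : g ∈ Subgroup.normalizer (G : Set (M →ₗ[k] M)ˣ)) (ht : t ∈ ES G s) :
    cn g t ∈ ES G (cn g s) :=
  ⟨qn_cn ht.1 hg, (conj_mem_ES (G := ⊤) (Subgroup.mem_top g) ⟨ht.1.mono le_top, ht.2⟩).2⟩

theorem cn_mem_ES_iff {s t : M →ₗ[k] M} {g : (M →ₗ[k] M)ˣ}
    (hg : g ∈ Subgroup.normalizer (G : Set (M →ₗ[k] M)ˣ)) :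
    cn g t ∈ ES G (cn g s) ↔ t ∈ ES G s :=
  ⟨fun h => by simpa only [cn_inv_cn] using cn_mem_ES (inv_mem hg) h, cn_mem_ES hg⟩

theorem cj_EG' {s : M →ₗ[k] M} {g : (M →ₗ[k] M)ˣ}
    (hg : g ∈ Subgroup.normalizer (G : Set (M →ₗ[k] M)ˣ)) : cj g (EG G s) = EG G (cn g s) := by
  ext x
  rw [mem_cj, mem_EG, mem_EG, ← cn_mem_ES_iff hg, ← cn_val_sub]
  simp [mul_assoc]

theorem mem_ES_std {s t a : M →ₗ[k] M} (h : Std s t) : a ∈ ES G s ↔ QN k G a ∧ D2 s t a := by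
  constructor
  · rintro ⟨h1, h2, h3, -⟩
    refine ⟨h1, ?_, ?_⟩
    · have := mul_eq_zero_of_range_le h3 (x := s * t - 1) (by rw [sub_mul, h.sts, one_mul, sub_self])
      rwa [sub_mul, one_mul, sub_eq_zero, mul_assoc] at this
    · have := mul_eq_zero_of_ker_le h2 (x := t * s - 1) (by rw [mul_sub, h.sts1, mul_one, sub_self])
      rwa [mul_sub, mul_one, sub_eq_zero] at this
  · rintro ⟨h1, h2⟩
    refine ⟨h1, ?_, ?_, mul_eq_zero_iff_le.1 (h2.sa h)⟩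
    · rw [← h2.r, ← mul_assoc]; exact ker_le_mul _ _
    · rw [← h2.l]; exact range_mul_le _ _

/-- the Lie algebra of the radical -/
def NS (s : M →ₗ[k] M) : Submodule k (M →ₗ[k] M) where
  carrier := {θ | s * θ = 0 ∧ θ * s = 0 ∧ ∀ v, s v = 0 → θ v ∈ range s}
  zero_mem' := ⟨by simp, by simp, by simp⟩
  add_mem' := fun ha hb => ⟨by rw [mul_add, ha.1, hb.1, add_zero],
    by rw [add_mul, ha.2.1, hb.2.1, add_zero], fun v hv => add_mem (ha.2.2 v hv) (hb.2.2 v hv)⟩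
  smul_mem' := fun c _ ha => ⟨by rw [mul_smul_comm, ha.1, smul_zero],
    by rw [smul_mul_assoc, ha.2.1, smul_zero], fun v hv => Submodule.smul_mem _ c (ha.2.2 v hv)⟩

theorem NS_mul {s a b : M →ₗ[k] M} (ha : a ∈ NS s) (hb : b ∈ NS s) {v : M} (hv : s v = 0) :
    a (b v) = 0 := by
  obtain ⟨w, hw⟩ := hb.2.2 v hv
  rw [← hw]; exact congrArg (fun f : M →ₗ[k] M => f w) ha.2.1

theorem isNil_NS (s : M →ₗ[k] M) : IsNil (NS s) := by
  refine ⟨Submodule.mul_le.2 fun a ha b hb => ⟨by rw [← mul_assoc, ha.1, zero_mul],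
    by rw [mul_assoc, hb.2.1, mul_zero], fun v hv => ?_⟩, 3, ?_⟩
  · rw [Module.End.mul_apply, NS_mul ha hb hv]; exact zero_mem _
  · rw [eq_bot_iff, pow_succ, pow_two]
    refine Submodule.mul_le.2 fun x hx c hc => ?_
    refine Submodule.mul_induction_on hx (fun a ha b hb => ?_) fun x y hx hy => by
      rw [add_mul]; exact add_mem hx hy
    refine LinearMap.ext fun v => ?_
    exact NS_mul ha hb (congrArg (fun f : M →ₗ[k] M => f v) hc.1)

variable (G) in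
/-- the radical -/
def US (s : M →ₗ[k] M) : Subgroup (M →ₗ[k] M)ˣ := G ⊓ UG (NS s) (isNil_NS s)

theorem mem_US {s : M →ₗ[k] M} {g : (M →ₗ[k] M)ˣ} :
    g ∈ US G s ↔ g ∈ G ∧ (g : M →ₗ[k] M) - 1 ∈ NS s := Iff.rfl

theorem US_le (s : M →ₗ[k] M) : US G s ≤ G := inf_le_left

theorem unip_US (s : M →ₗ[k] M) : Unip k (US G s) := (unip_UG _).mono inf_le_right

theorem cn_mem_NS {s θ : M →ₗ[k] M} (g : (M →ₗ[k] M)ˣ) (h : θ ∈ NS s) : cn g θ ∈ NS (cn g s) := by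
  refine ⟨by rw [← cn_mul', h.1, cn_zero], by rw [← cn_mul', h.2.1, cn_zero], fun v hv => ?_⟩
  have hinj : ∀ v, (g : M →ₗ[k] M) v = 0 → v = 0 := fun v hv => by
    have := congrArg ((g⁻¹ : (M →ₗ[k] M)ˣ) : M →ₗ[k] M) hv
    rwa [← Module.End.mul_apply, Units.inv_mul, map_zero] at this
  obtain ⟨w, hw⟩ := h.2.2 _ (hinj _ hv)
  refine ⟨(g : M →ₗ[k] M) w, ?_⟩
  simp only [Module.End.mul_apply, ← hw]
  rw [← Module.End.mul_apply _ _ w, Units.inv_mul]; rfl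

theorem conj_mem_US {s : M →ₗ[k] M} {g u : (M →ₗ[k] M)ˣ}
    (hg : g ∈ Subgroup.normalizer (G : Set (M →ₗ[k] M)ˣ)) (hu : u ∈ US G s) :
    g * u * g⁻¹ ∈ US G (cn g s) :=
  ⟨conj_mem_of_mem_normalizer hg hu.1, mem_UG.2 (by rw [cn_val_sub]; exact cn_mem_NS g hu.2)⟩

theorem mem_normalizer_US {s : M →ₗ[k] M} {g : (M →ₗ[k] M)ˣ}
    (hg : g ∈ Subgroup.normalizer (G : Set (M →ₗ[k] M)ˣ)) (h : cn g s = s) :
    g ∈ Subgroup.normalizer (US G s : Set (M →ₗ[k] M)ˣ) := by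
  rw [Subgroup.mem_normalizer_iff]
  intro u
  refine ⟨fun hu => h ▸ conj_mem_US hg hu, fun hu => ?_⟩
  have h' : cn g⁻¹ s = s := by conv_lhs => rw [← h, cn_inv_cn]
  have := conj_mem_US (inv_mem hg) hu
  rw [h'] at this
  simpa [mul_assoc] using this

theorem mem_NS_std {s t θ : M →ₗ[k] M} (h : Std s t) : θ ∈ NS s ↔ N3 s t θ := by
  constructor
  · rintro ⟨h1, h2, h3⟩
    refine ⟨h1, h2, ?_⟩
    have : (1 - s * t) * (θ * (1 - t * s)) = 0 := by
      ext v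
      obtain ⟨w, hw⟩ := h3 ((1 - t * s) v) (by
        rw [← Module.End.mul_apply, mul_sub, h.sts1, mul_one, sub_self]; rfl)
      rw [Module.End.mul_apply, Module.End.mul_apply, ← hw, ← Module.End.mul_apply, sub_mul, h.sts,
        one_mul, sub_self]
      rfl
    simp only [mul_sub, sub_mul, mul_assoc, one_mul, mul_one] at this
    linear_combination (norm := abel) -this
  · intro h1
    refine ⟨h1.sη, h1.ηs, fun v hv => ⟨t (θ v), ?_⟩⟩
    conv_rhs => rw [← h1.eq]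
    simp [hv]

theorem ES_le_NS {s a : M →ₗ[k] M} (hs : s * s = 0) (ha : a ∈ ES G s) : a ∈ NS s :=
  ⟨mul_eq_zero_iff_le.2 ha.2.2.2, mul_eq_zero_of_ker_le ha.2.1 hs, fun v hv => by
    rw [show a v = 0 from ha.2.1 hv]; exact zero_mem _⟩

theorem EG_le_US {s : M →ₗ[k] M} (hs : s * s = 0) : EG G s ≤ US G s :=
  fun _ hg => ⟨EG_le s hg, ES_le_NS hs hg⟩

theorem uS_mem_US {s : M →ₗ[k] M} (hs : QN k G s) : uS s hs.sq ∈ US G s :=
  EG_le_US hs.sq (uS_mem_EG hs.mem_ES)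

theorem comm_of_mem_US {s : M →ₗ[k] M} {u : (M →ₗ[k] M)ˣ} (hu : u ∈ US G s) : cn u s = s := by
  rw [cn_eq_iff]
  have h1 := hu.2.1
  have h2 := hu.2.2.1
  rw [mul_sub, mul_one, sub_eq_zero] at h1
  rw [sub_mul, one_mul, sub_eq_zero] at h2
  rw [h1, h2]

theorem D1.n3 {A : Type*} [Ring A] {s t η : A} (h : Std s t) (hη : D1 s t η) : N3 s t η :=
  ⟨hη.sη, hη.ηs, by rw [hη.tηt' h, mul_zero, sub_zero, hη.eq]⟩

theorem std_sandwich {s t b : M →ₗ[k] M} (h : Std s t) (hs : QN k G s) (ht : QN k G t)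
    (hb : b ∈ ES G t) : s * b * s ∈ ES G s := by
  have := cn_mem_ES (Subgroup.le_normalizer (nS_mem h hs.uS_mem ht.uS_mem)) hb
  rw [cn_nS_D2 h ((mem_ES_std h.symm).1 hb).2, cn_nS_t, ES_neg] at this
  simpa using neg_mem this

theorem rk_add_le (a b : M →ₗ[k] M) [FiniteDimensional k M] : rk (a + b) ≤ rk a + rk b :=
  (Submodule.finrank_mono (range_add_le a b)).trans
    (Submodule.finrank_add_le_finrank_add_finrank _ _)

theorem rk_neg (a : M →ₗ[k] M) : rk (-a) = rk a := by rw [rk, range_neg]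

theorem rk_smul_le (c : k) (a : M →ₗ[k] M) [FiniteDimensional k M] : rk (c • a) ≤ rk a :=
  rk_le_of_range_le (by rintro _ ⟨v, rfl⟩; exact ⟨c • v, by simp⟩)

variable [FiniteDimensional k M]

theorem minQ_cn {s : M →ₗ[k] M} (h : MinQ G s) {g : (M →ₗ[k] M)ˣ}
    (hg : g ∈ Subgroup.normalizer (G : Set (M →ₗ[k] M)ˣ)) : MinQ G (cn g s) :=
  h.of_le (qn_cn h.qn hg) (fun e => h.ne (cn_eq_zero.1 e)) (rk_conj g s).le

theorem minQ_neg {s : M →ₗ[k] M} (h : MinQ G s) : MinQ G (-s) :=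
  h.of_le h.qn.neg (neg_ne_zero.2 h.ne) (rk_neg s).le

theorem rk_comm_le {r s : M →ₗ[k] M} (h : r * s * r = 0) : rk (r * s - s * r) ≤ rk s := by
  have h1 := rk_mul_add r s
  have h2 : rk (s * r) ≤ Module.finrank k ↥(range s ⊓ ker r) :=
    Submodule.finrank_mono (le_inf (range_mul_le _ _) (mul_eq_zero_iff_le.1 (by rwa [← mul_assoc])))
  have h3 := rk_add_le (r * s) (-(s * r))
  rw [rk_neg, ← sub_eq_add_neg] at h3
  omega

/-- nonzero elements of a root subgroup are invertible in the Jordan sense -/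
theorem eq_zero_of_mul {s t a b : M →ₗ[k] M} (h : Std s t) (hs : MinQ G s) (ha : a ∈ ES G s)
    (hb : D2 s t b) (e : a * (t * b) = 0) : a = 0 ∨ b = 0 := by
  by_cases h0 : a = 0
  · exact Or.inl h0
  · exact Or.inr (hb.l ▸ mul_eq_zero_of_ker_le (hs.of_mem_ES ha h0).2.1.le e)

variable (h2 : (2 : k) ≠ 0)
include h2

omit [FiniteDimensional k M] in
theorem mem_of_add_self {N : Submodule k (M →ₗ[k] M)} {a : M →ₗ[k] M} (h : a + a ∈ N) : a ∈ N := by
  have := N.smul_mem (2⁻¹ : k) h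
  rwa [← two_smul k a, smul_smul, inv_mul_cancel₀ h2, one_smul] at this

omit [FiniteDimensional k M] in
theorem eq_zero_of_add_self {a : M →ₗ[k] M} (h : a + a = 0) : a = 0 :=
  mem_of_add_self h2 (N := ⊥) h

theorem comm_ES {s r a : M →ₗ[k] M} (hs : MinQ G s) (hr : QN k G r) (h : r * s = s * r)
    (ha : a ∈ ES G s) : r * a = a * r := by
  have key : ∀ r : M →ₗ[k] M, QN k G r → r * s = s * r → a + (r * a - a * r) - r * a * r ∈ ES G s := by
    intro r hr h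
    have := cn_mem_ES (Subgroup.le_normalizer hr.uS_mem) ha
    rwa [cn_eq_iff.2 (show (uS r hr.sq : M →ₗ[k] M) * s = s * uS r hr.sq by
      rw [uS_val, add_mul, mul_add, h, one_mul, mul_one]), cn, uS_conj] at this
  have k1 := key r hr h
  have k2 := key (-r) hr.neg (by rw [neg_mul, mul_neg, h])
  have hv : r * a * r ∈ ES G s := mem_of_add_self h2 (by
    convert sub_mem (sub_mem (add_mem ha ha) k1) k2 using 1
    simp only [neg_mul, mul_neg, neg_neg]; abel)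
  have hw : r * a - a * r ∈ ES G s := mem_of_add_self h2 (by
    convert sub_mem k1 k2 using 1
    simp only [neg_mul, mul_neg, neg_neg]; abel)
  have hv0 : r * a * r = 0 := by
    by_contra h0
    have := mul_eq_zero_of_range_le (hs.of_mem_ES hv h0).2.2.ge (x := r)
      (by rw [← mul_assoc, ← mul_assoc, hr.sq, zero_mul, zero_mul])
    exact h0 (by rw [mul_eq_zero_of_range_le ha.2.2.1 this, zero_mul])
  by_contra h0
  have h0' := sub_ne_zero.2 h0
  have e1 := mul_eq_zero_of_range_le (hs.of_mem_ES hw h0').2.2.ge (x := r)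
    (by rw [mul_sub, ← mul_assoc, ← mul_assoc, hr.sq, zero_mul, hv0, sub_zero])
  have e2 := mul_eq_zero_of_ker_le (hs.of_mem_ES hw h0').2.1.le (x := r)
    (by rw [sub_mul, hv0, mul_assoc, hr.sq, mul_zero, sub_zero])
  exact h0 (by rw [mul_eq_zero_of_range_le ha.2.2.1 e1, mul_eq_zero_of_ker_le ha.2.1 e2])

variable (h3 : 3 < ENat.card k)
include h3

theorem root_sandwich {a b : M →ₗ[k] M} (ha : MinQ G a) (hb : MinQ G b) : a * b * a ∈ ES G a := by
  by_cases h : Opp a b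
  · obtain ⟨b', hb', hst⟩ := exists_std h2 h3 ha hb h
    refine std_sandwich hst ha.qn hb'.1 ?_
    rw [hb.ES_eq hb' hst.symm.ne]; exact hb.qn.mem_ES
  · rw [sts_eq_zero h2 ha hb.qn h]; exact zero_mem _

theorem ES_sandwich {s a b : M →ₗ[k] M} (hs : MinQ G s) (ha : a ∈ ES G s) (hb : MinQ G b) :
    a * b * a ∈ ES G s := by
  by_cases h0 : a = 0
  · rw [h0, mul_zero]; exact zero_mem _
  · rw [← hs.ES_eq ha h0]; exact root_sandwich h2 h3 (hs.of_mem_ES ha h0).1 hb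

theorem exists_ES_of_same_e {s t t' : M →ₗ[k] M} (hs : MinQ G s) (ht : MinQ G t) (ht' : MinQ G t')
    (h : Std s t) (h' : Std s t') (he : s * t' + t' * s = s * t + t * s) :
    ∃ φ, ∃ hφ : φ ∈ ES G s, cn (uS φ hφ.1.sq) t = t' := by
  have key : ∀ t, MinQ G t → Std s t → s * t' + t' * s = s * t + t * s →
      (t' * s - t * s) * t * (t' * s - t * s) ∈ ES G s := fun t ht h he => by
    rw [(same_e h h' he).2.1]
    exact neg_mem (std_sandwich h hs.qn ht.qn (root_sandwich h2 h3 ht ht'))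
  obtain ⟨d, -, e⟩ := same_e h h' he
  have hss : cn (uS s h.ss) s = s := by rw [cn, uS_conj, h.ss]; simp
  have k1 := key t ht h he
  have k2 := key _ (minQ_cn ht (Subgroup.le_normalizer hs.qn.uS_mem)) (by simpa only [hss] using h.cn (uS s h.ss)) (by
    rw [he, cn, uS_conj]
    simp only [mul_add, add_mul, mul_sub, sub_mul, mul_assoc, h.ss, h.ss', h.sts1, mul_zero]
    abel)
  have e1 : cn (uS s h.ss) t * s = t * s + s := by
    rw [cn, uS_conj]
    simp only [add_mul, sub_mul, mul_assoc, h.ss, h.sts1, mul_zero]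
    abel
  rw [e1, ← sub_sub] at k2
  generalize t' * s - t * s = φ at *
  have dd : φ * φ = 0 := by nth_rewrite 2 [← d.l]; rw [d.as' h]
  have hφ : φ ∈ ES G s := mem_of_add_self h2 (by
    convert sub_mem (add_mem k1 hs.qn.mem_ES) k2 using 1
    rw [cn, uS_conj]
    simp only [mul_add, add_mul, mul_sub, sub_mul, mul_assoc, h.ss, h.ss', h.sts1, h.sts2, mul_zero,
      d.l, d.r, d.r', d.sa h, d.as h, d.as' h, zero_mul, dd]
    abel)
  exact ⟨φ, hφ, e⟩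

end Gen

section Grp
variable {Γ : Type*} [Group Γ] {p : ℕ} [hp : Fact p.Prime]

theorem exists_half (hp2 : p ≠ 2) {H : Subgroup Γ} (hH : IsPGroup p H) {w : Γ} (hw : w ∈ H) :
    ∃ m : ℕ, w ^ m * w ^ m = w := by
  obtain ⟨j, hj⟩ := hH ⟨w, hw⟩
  obtain ⟨m, hm⟩ : Odd (p ^ j) := (hp.out.odd_of_ne_two hp2).pow
  refine ⟨m + 1, ?_⟩
  have : w ^ p ^ j = 1 := congrArg Subtype.val hj
  rw [← pow_add, show m + 1 + (m + 1) = p ^ j + 1 by omega, pow_succ, this, one_mul]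

theorem exists_decomp (hp2 : p ≠ 2) {H : Subgroup Γ} (hH : IsPGroup p H) {z : Γ} (hz : z * z = 1)
    (hn : z ∈ Subgroup.normalizer (H : Set Γ)) {u : Γ} (hu : u ∈ H) :
    ∃ c ∈ H, ∃ y ∈ H, u = c * y ∧ z * c * z⁻¹ = c ∧ z * y * z⁻¹ = y⁻¹ := by
  have hzi : z⁻¹ = z := inv_eq_of_mul_eq_one_right hz
  have hw : z * u⁻¹ * z⁻¹ * u ∈ H := mul_mem (conj_mem_of_mem_normalizer hn (inv_mem hu)) hu
  obtain ⟨m, hm⟩ := exists_half hp2 hH hw
  set w := z * u⁻¹ * z⁻¹ * u with hwd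
  have e1 : z * w * z⁻¹ = w⁻¹ := by
    rw [hwd, hzi]
    simp only [mul_inv_rev, inv_inv, hzi, ← mul_assoc, hz, one_mul]
  have e2 : z * w ^ m * z⁻¹ = (w ^ m)⁻¹ := by rw [← conj_pow, e1, inv_pow]
  refine ⟨u * (w ^ m)⁻¹, mul_mem hu (inv_mem (pow_mem hw m)), w ^ m, pow_mem hw m, by simp, ?_, e2⟩
  have e3 : z * (w ^ m)⁻¹ * z⁻¹ = w ^ m := by
    have := congrArg Inv.inv e2
    simpa [mul_assoc] using this
  calc z * (u * (w ^ m)⁻¹) * z⁻¹ = z * u * z⁻¹ * (z * (w ^ m)⁻¹ * z⁻¹) := by group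
    _ = z * u * z⁻¹ * (w ^ m * w ^ m) * (w ^ m)⁻¹ := by rw [e3]; group
    _ = u * (w ^ m)⁻¹ := by rw [hm, hwd]; group

theorem exists_conj_inv (hp2 : p ≠ 2) {H : Subgroup Γ} (hH : IsPGroup p H) {z z' : Γ}
    (hz : z * z = 1) (hz' : z' * z' = 1) (hw : z' * z ∈ H) : ∃ u ∈ H, u * z * u⁻¹ = z' := by
  obtain ⟨m, hm⟩ := exists_half hp2 hH hw
  have hzi : z⁻¹ = z := inv_eq_of_mul_eq_one_right hz
  have hzi' : z'⁻¹ = z' := inv_eq_of_mul_eq_one_right hz'
  have e1 : z * (z' * z) * z⁻¹ = (z' * z)⁻¹ := by rw [mul_inv_rev, hzi', hzi, mul_assoc, mul_assoc, hz, mul_one]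
  have e2 : z * (z' * z) ^ m * z⁻¹ = ((z' * z) ^ m)⁻¹ := by rw [← conj_pow, e1, inv_pow]
  refine ⟨_, pow_mem hw m, ?_⟩
  rw [← e2]
  calc (z' * z) ^ m * z * (z * (z' * z) ^ m * z⁻¹)
      = (z' * z) ^ m * (z * z) * (z' * z) ^ m * z⁻¹ := by group
    _ = z' := by rw [hz, mul_one, hm]; group

end Grp

end CfsgH3.FQ
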