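import Cfsg.Agent.H3.FQ2

/-! Fixed roots and fixed partners under coprime action. -/

set_option autoImplicit false
set_option linter.unusedSectionVars false
set_option linter.style.haveILetI false
set_option maxHeartbeats 400000

namespace CfsgH3.FQ

open CfsgH9 LinearMap Polynomial
open scoped IsMulCommutative

theorem exists_quad {B : Type*} [CommRing B] [Finite B] (I : Ideal B) [I.IsPrime]
    (h2 : (2 : B) ∉ I) (c w : B) (hc : c ∉ I) : ∃ α γ, c * α ^ 2 + w * α + c - γ ^ 2 ∈ I := by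
  classical
  haveI : Finite (B ⧸ I) := Finite.of_surjective _ Ideal.Quotient.mk_surjective
  letI : Fintype (B ⧸ I) := Fintype.ofFinite _
  letI : Field (B ⧸ I) := Fintype.fieldOfDomain _
  have hc' : Ideal.Quotient.mk I c ≠ 0 := fun e => hc (Ideal.Quotient.eq_zero_iff_mem.1 e)
  obtain ⟨a, b, h⟩ := FiniteField.exists_root_sum_quadratic
    (degree_quadratic (b := Ideal.Quotient.mk I w) (c := Ideal.Quotient.mk I c) hc')
    (degree_quadratic (a := (-1 : B ⧸ I)) (b := 0) (c := 0) (neg_ne_zero.2 one_ne_zero))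
    (FiniteField.odd_card_of_char_ne_two fun e => h2 (Ideal.Quotient.eq_zero_iff_mem.1 (by
      have := (ringChar.spec (B ⧸ I) 2).2 (e ▸ dvd_rfl)
      exact_mod_cast this)))
  obtain ⟨a, rfl⟩ := Ideal.Quotient.mk_surjective a
  obtain ⟨b, rfl⟩ := Ideal.Quotient.mk_surjective b
  refine ⟨a, b, Ideal.Quotient.eq_zero_iff_mem.1 ?_⟩
  simp only [eval_add, eval_mul, eval_C, eval_pow, eval_X] at h
  simp only [map_sub, map_add, map_mul, map_pow]
  linear_combination h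

variable {p : ℕ} [hp : Fact p.Prime] {M : Type*} [AddCommGroup M] [Module (ZMod p) M] [Finite M]
  {G : Subgroup (M →ₗ[ZMod p] M)ˣ}

instance finite_end : Finite (M →ₗ[ZMod p] M) := Finite.of_injective _ DFunLike.coe_injective

variable (hp3 : 3 < p)
include hp3

theorem jordan_sq {s t a a' : M →ₗ[ZMod p] M} (hs : MinQ G s) (ht : MinQ G t) (h : Std s t)
    (ha : a ∈ ES G s) (ha' : a' ∈ ES G s) (e : a * t * a = a' * t * a') : a = a' ∨ a = -a' := by
  have h2 := two_ne hp3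
  have h3 := three_lt hp3
  have d : ∀ {x}, x ∈ ES G s → D2 s t x := fun hx => ((mem_ES_std h).1 hx).2
  have pol : ∀ {x y}, x ∈ ES G s → y ∈ ES G s → x * t * y + y * t * x ∈ ES G s := by
    intro x y hx hy
    convert sub_mem (sub_mem (ES_sandwich h2 h3 hs (add_mem hx hy) ht) (ES_sandwich h2 h3 hs hx ht))
      (ES_sandwich h2 h3 hs hy ht) using 1
    simp only [mul_add, add_mul]; abel
  suffices hc : a * t * a' = a' * t * a by
    rcases eq_zero_of_mul h hs (sub_mem ha ha') (d (add_mem ha ha')) (by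
      simp only [mul_add, sub_mul, ← mul_assoc, e, hc]; abel) with h0 | h0
    · exact Or.inl (sub_eq_zero.1 h0)
    · exact Or.inr (eq_neg_of_add_eq_zero_left h0)
  by_cases ha0 : a = 0
  · simp [ha0]
  obtain ⟨c, hcd⟩ : ∃ c, c = a * t * a := ⟨_, rfl⟩
  obtain ⟨w, hwd⟩ : ∃ w, w = a * t * a' + a' * t * a := ⟨_, rfl⟩
  have hc : c ∈ ES G s := hcd ▸ ES_sandwich h2 h3 hs ha ht
  have hw : w ∈ ES G s := hwd ▸ pol ha ha'
  have hc0 : c ≠ 0 := fun e0 => ha0 (by
    rw [hcd, mul_assoc] at e0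
    simpa using eq_zero_of_mul h hs ha (d ha) e0)
  have ca : c * t * a = a * t * c := by simp only [hcd, mul_assoc]
  have ca' : c * t * a' = a' * t * c := by rw [hcd, e]; simp only [mul_assoc]
  have wa : w * t * a = a * t * w := by
    have := ca'
    simp only [hcd, hwd, mul_add, add_mul, mul_assoc] at this ⊢
    rw [this, add_comm]
  have wa' : w * t * a' = a' * t * w := by
    have := ca
    rw [hcd, e] at this
    simp only [hwd, mul_add, add_mul, mul_assoc] at this ⊢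
    rw [this, add_comm]
  have cw : c * t * w = w * t * c := by
    calc c * t * w = a * t * (a * t * w) := by simp only [hcd, mul_assoc]
      _ = (a * t * w) * t * a := by
        conv_lhs => rw [← wa]
        simp only [mul_assoc]
      _ = w * t * c := by rw [← wa]; simp only [hcd, mul_assoc]
  let B := Algebra.adjoin (ZMod p) ({c * t, w * t} : Set (M →ₗ[ZMod p] M))
  haveI : IsMulCommutative B := Algebra.isMulCommutative_adjoin _ (by
    rintro _ (rfl | rfl) _ (rfl | rfl)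
    · rfl
    · rw [← mul_assoc, cw, mul_assoc]
    · rw [← mul_assoc, ← cw, mul_assoc]
    · rfl)
  have hB : ∀ β ∈ B, ∀ y, y ∈ ES G s ∧ c * t * y = y * t * c ∧ w * t * y = y * t * w →
      β * y ∈ ES G s ∧ c * t * (β * y) = β * y * t * c ∧ w * t * (β * y) = β * y * t * w := by
    intro β hβ
    induction hβ using Algebra.adjoin_induction with
    | mem x hx =>
      rintro y ⟨y1, y2, y3⟩
      rcases hx with rfl | rfl
      · refine ⟨mem_of_add_self h2 (by simpa only [← y2] using pol hc y1), ?_, ?_⟩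
        · conv_lhs => rw [y2]
          simp only [mul_assoc]
        · calc w * t * (c * t * y) = (w * t * c) * t * y := by simp only [mul_assoc]
            _ = c * t * (w * t * y) := by rw [← cw]; simp only [mul_assoc]
            _ = _ := by rw [y3]; simp only [mul_assoc]
      · refine ⟨mem_of_add_self h2 (by simpa only [← y3] using pol hw y1), ?_, ?_⟩
        · calc c * t * (w * t * y) = (c * t * w) * t * y := by simp only [mul_assoc]
            _ = w * t * (c * t * y) := by rw [cw]; simp only [mul_assoc]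
            _ = _ := by rw [y2]; simp only [mul_assoc]
        · conv_lhs => rw [y3]
          simp only [mul_assoc]
    | algebraMap r =>
      rintro y ⟨y1, y2, y3⟩
      rw [← Algebra.smul_def]
      refine ⟨Submodule.smul_mem _ r y1, ?_, ?_⟩
      · rw [mul_smul_comm, y2, smul_mul_assoc, smul_mul_assoc]
      · rw [mul_smul_comm, y3, smul_mul_assoc, smul_mul_assoc]
    | add x y _ _ hx hy =>
      intro z hz
      refine ⟨by rw [add_mul]; exact add_mem (hx z hz).1 (hy z hz).1, ?_, ?_⟩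
      · rw [add_mul, mul_add, (hx z hz).2.1, (hy z hz).2.1, add_mul, add_mul]
      · rw [add_mul, mul_add, (hx z hz).2.2, (hy z hz).2.2, add_mul, add_mul]
    | mul x y _ _ hx hy =>
      intro z hz
      rw [mul_assoc x]
      exact hx _ (hy z hz)
  have hBs : ∀ β ∈ B, β * s ∈ ES G s := fun β hβ => (hB β hβ s ⟨hs.qn.mem_ES,
    by rw [mul_assoc, mul_assoc, (d hc).r, (d hc).l], by rw [mul_assoc, mul_assoc, (d hw).r, (d hw).l]⟩).1
  have hBa : ∀ β ∈ B, β * a ∈ ES G s := fun β hβ => (hB β hβ a ⟨ha, ca, wa⟩).1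
  have cB : ∀ {y}, c * t * y = y * t * c → w * t * y = y * t * w → ∀ β ∈ B, ∀ x,
      y * (t * (β * x)) = β * (y * (t * x)) := by
    intro y y1 y2 β hβ x
    have := Algebra.commute_of_mem_adjoin_of_forall_mem_commute (a := y * t) hβ (by
      rintro _ (rfl | rfl)
      · show _ = _
        rw [← mul_assoc, ← y1, mul_assoc]
      · show _ = _
        rw [← mul_assoc, ← y2, mul_assoc])
    rw [← mul_assoc, ← mul_assoc, this.eq]; simp only [mul_assoc]
  let I : Ideal B :=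
    { carrier := {β | (β : M →ₗ[ZMod p] M) * s = 0}
      zero_mem' := by simp
      add_mem' := fun {x y} hx hy => by
        simp only [Set.mem_setOf_eq] at *
        rw [Subalgebra.coe_add, add_mul, hx, hy, add_zero]
      smul_mem' := fun x y hy => by
        simp only [Set.mem_setOf_eq] at *
        rw [smul_eq_mul, Subalgebra.coe_mul, mul_assoc, hy, mul_zero] }
  have hI : ∀ β : B, β ∈ I ↔ (β : M →ₗ[ZMod p] M) * s = 0 := fun _ => Iff.rfl
  haveI : I.IsPrime := ⟨fun e => h.ne (by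
      have := (hI 1).1 (e ▸ Submodule.mem_top)
      simpa using this), fun {x y} hxy => by
    rw [hI, hI]
    refine eq_zero_of_mul h hs (hBs _ x.2) (d (hBs _ y.2)) ?_
    rw [mul_assoc, (d (hBs _ y.2)).l, ← mul_assoc]
    exact hxy⟩
  obtain ⟨⟨α, hα⟩, ⟨γ, hγ⟩, hq⟩ := exists_quad I (fun e => h.ne (eq_zero_of_add_self h2 (by
      have := (hI 2).1 e
      rwa [show ((2 : B) : M →ₗ[ZMod p] M) = 2 from rfl, two_mul] at this)))
    ⟨c * t, Algebra.subset_adjoin (Or.inl rfl)⟩ ⟨w * t, Algebra.subset_adjoin (Or.inr rfl)⟩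
    (fun e => hc0 (by
      have := (hI _).1 e
      rwa [mul_assoc, (d hc).r] at this))
  rw [hI] at hq
  have c1 : c * t * α = α * (c * t) :=
    congrArg Subtype.val (mul_comm (⟨c * t, Algebra.subset_adjoin (Or.inl rfl)⟩ : B) ⟨α, hα⟩)
  have c2 : w * t * α = α * (w * t) :=
    congrArg Subtype.val (mul_comm (⟨w * t, Algebra.subset_adjoin (Or.inr rfl)⟩ : B) ⟨α, hα⟩)
  have hq' : α * (α * c) + α * w + c = γ * (γ * s) := by
    have : (c * t * (α * α) + w * t * α + c * t - γ * γ) * s = 0 := by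
      rw [pow_two, pow_two] at hq; exact hq
    rw [← mul_assoc (c * t), c1, mul_assoc α, c1, c2] at this
    simp only [add_mul, sub_mul, mul_assoc, (d hc).r, (d hw).r] at this
    exact sub_eq_zero.1 this
  have hy : α * a + a' ∈ ES G s := add_mem (hBa α hα) ha'
  have ka := cB ca wa
  have ka' := cB ca' wa'
  have ks := cB (y := s) (by rw [mul_assoc, mul_assoc, (d hc).r, (d hc).l])
    (by rw [mul_assoc, mul_assoc, (d hw).r, (d hw).l])
  have hcd' : a * (t * a) = c := by rw [hcd, mul_assoc]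
  have hcd'' : a' * (t * a') = c := by rw [hcd, e, mul_assoc]
  have αγ : ∀ x, α * (γ * x) = γ * (α * x) := fun x => by
    rw [← mul_assoc, ← mul_assoc,
      show α * γ = γ * α from congrArg Subtype.val (mul_comm (⟨α, hα⟩ : B) ⟨γ, hγ⟩)]
  have fin : ∀ γ ∈ B, α * a + a' = γ * s → a * t * a' = a' * t * a := by
    intro γ hγ e0
    rw [show a' = γ * s - α * a by rw [← e0]; abel]
    simp only [mul_sub, sub_mul, mul_assoc, ka γ hγ, ka α hα, (d ha).r, (d ha).l]
  rcases eq_zero_of_mul h hs (sub_mem hy (hBs γ hγ)) (d (add_mem hy (hBs γ hγ))) (by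
    simp only [mul_add, add_mul, sub_mul, mul_assoc, ka γ hγ, ka α hα, ka' γ hγ, ka' α hα, ks γ hγ,
      ks α hα, (d ha).r, (d ha).l, (d ha').r, (d ha').l, h.sts1, hcd', hcd'', αγ, ← hq']
    simp only [hwd, mul_add, mul_assoc]
    abel) with h0 | h0
  · exact fin γ hγ (sub_eq_zero.1 h0)
  · exact fin (-γ) (neg_mem hγ) (by rw [neg_mul]; exact eq_neg_of_add_eq_zero_left h0)

theorem exists_US_cn {s t t' : M →ₗ[ZMod p] M} (hs : MinQ G s) (ht : MinQ G t) (ht' : MinQ G t')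
    (h : Std s t) (h' : Std s t') : ∃ u ∈ US G s, cn u t = t' := by
  have h2 := two_ne hp3
  have h3 := three_lt hp3
  have hw : zS h' * zS h ∈ US G s := by
    refine ⟨mul_mem (zS_mem h' hs.qn.uS_mem ht'.qn.uS_mem) (zS_mem h hs.qn.uS_mem ht.qn.uS_mem),
      mem_UG.2 ((mem_NS_std h).2 ⟨?_, ?_, ?_⟩)⟩ <;>
    simp only [Units.val_mul, zS_val, mul_add, add_mul, mul_sub, sub_mul, mul_assoc, one_mul,
      mul_one, h.ss, h.tt, h.ss', h.tt', h.sts1, h.tst1, h.sts2, h.tst2, h'.sts1, h'.sts2,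
      mul_zero, zero_mul] <;> abel
  obtain ⟨u, hu, e⟩ := exists_conj_inv (by omega) (isPGroup_of_unip (unip_US s)) (zS_mul_zS h)
    (zS_mul_zS h') hw
  have hus := comm_of_mem_US hu
  have hst : Std s (cn u t) := by simpa only [hus] using h.cn u
  obtain ⟨φ, hφ, e'⟩ := exists_ES_of_same_e h2 h3 hs
    (minQ_cn ht (Subgroup.le_normalizer hu.1)) ht' hst h' (by
      have := congrArg Units.val e
      rw [cn_val, zS_val, zS_val, cn_sub, cn_sub, cn_one', cn_add, cn_mul', cn_mul', hus] at this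
      rw [← sub_eq_zero]
      refine eq_zero_of_add_self h2 ?_
      linear_combination (norm := abel) this)
  exact ⟨_, mul_mem (EG_le_US h.ss (uS_mem_EG hφ)) hu, by rw [cn_mul, e']⟩

theorem exists_partner (hU : NoUnip G) {s : M →ₗ[ZMod p] M} (hs : MinQ G s) :
    ∃ t, MinQ G t ∧ Std s t := by
  obtain ⟨t, ht, ho⟩ := exists_opp' hU hs
  obtain ⟨t', ht', h⟩ := exists_std (two_ne hp3) (three_lt hp3) hs ht ho
  exact ⟨t', (ht.of_mem_ES ht' h.symm.ne).1, h⟩

theorem exists_fixed_partner (hU : NoUnip G) {r : ℕ} [Fact r.Prime]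
    {R : Subgroup (M →ₗ[ZMod p] M)ˣ} (hR : IsPGroup r R)
    (hn : R ≤ Subgroup.normalizer (G : Set (M →ₗ[ZMod p] M)ˣ)) {s : M →ₗ[ZMod p] M}
    (hs : MinQ G s) (hc : (Nat.card (US G s)).Coprime r) (hf : ∀ ρ ∈ R, cn ρ s = s) :
    ∃ t, MinQ G t ∧ Std s t ∧ ∀ ρ ∈ R, cn ρ t = t := by
  obtain ⟨t, ht, h⟩ := exists_partner hp3 hU hs
  letI := cnAct (M →ₗ[ZMod p] M)
  obtain ⟨t', ⟨h1, h2⟩, h3⟩ := fix_of_trans hR (US G s) {t | MinQ G t ∧ Std s t} (x₀ := t)
    (fun u hu => ⟨minQ_cn ht (Subgroup.le_normalizer hu.1),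
      show Std s (cn u t) by simpa only [comm_of_mem_US hu] using h.cn u⟩)
    (fun t' ht' => exists_US_cn hp3 hs ht ht'.1 h ht'.2)
    (fun ρ hρ x hx => ⟨minQ_cn hx.1 (hn hρ), 
      show Std s (cn ρ x) by simpa only [hf ρ hρ] using hx.2.cn ρ⟩) hc
  exact ⟨t', h1, h2, h3⟩

theorem exists_fixed_root (hU : NoUnip G) {r : ℕ} [hr : Fact r.Prime] (hr2 : r ≠ 2)
    {R : Subgroup (M →ₗ[ZMod p] M)ˣ} (hR : IsPGroup r R)
    (hn : R ≤ Subgroup.normalizer (G : Set (M →ₗ[ZMod p] M)ˣ)) {s : M →ₗ[ZMod p] M}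
    (hs : MinQ G s) (hc : (Nat.card G).Coprime r) (hf : ∀ ρ ∈ R, cj ρ (EG G s) = EG G s) :
    ∃ a ∈ ES G s, a ≠ 0 ∧ ∀ ρ ∈ R, cn ρ a = a := by
  classical
  have h2 := two_ne hp3
  have h3 := three_lt hp3
  letI := cnAct (M →ₗ[ZMod p] M)
  letI : Fintype (M →ₗ[ZMod p] M) := Fintype.ofFinite _
  let Y : Finset (M →ₗ[ZMod p] M) := Finset.univ.filter fun a => a ∈ ES G s ∧ a ≠ 0
  let O : (M →ₗ[ZMod p] M) → Finset (M →ₗ[ZMod p] M) := fun a =>
    Y.filter fun x => ∃ g ∈ G, cn g a = x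
  have hX : ∀ a, a ∈ Y ↔ a ∈ ES G s ∧ a ≠ 0 := fun a => by simp [Y]
  have hO : ∀ a x, x ∈ O a ↔ (x ∈ ES G s ∧ x ≠ 0) ∧ ∃ g ∈ G, cn g a = x := fun a x => by
    simp [O, hX]
  have k1 : ∀ a ∈ Y, Y.card ≤ 2 * (O a).card := by
    intro a ha
    obtain ⟨ha, ha0⟩ := (hX a).1 ha
    have ha' := (hs.of_mem_ES ha ha0).1
    obtain ⟨t, ht, h⟩ := exists_partner hp3 hU ha'
    refine Finset.card_le_mul_card_image_of_maps_to (f := fun x => x * t * x) (fun x hx => ?_) 2 ?_
    · obtain ⟨hx, hx0⟩ := (hX x).1 hx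
      have hx' := (hs.of_mem_ES hx hx0).1
      obtain ⟨b, hb, hxb⟩ := exists_std' h2 h3 ha' ht h.opp (hs.ES_eq ha ha0 ▸ hx) hx0
      have e : cn (nS hxb * nS h) a = x * t * x := by
        rw [cn_mul, cn_nS_s, cn_neg, cn_nS_D2 hxb, neg_neg]
        refine ((mem_ES_std (G := G) hxb.symm).1 ?_).2
        rw [ht.ES_eq hb hxb.symm.ne]; exact ht.qn.mem_ES
      exact (hO _ _).2 ⟨⟨ES_sandwich h2 h3 hs hx ht, fun e0 => ha0 (cn_eq_zero.1 (e.trans e0))⟩,
        _, mul_mem (nS_mem hxb hx.1.uS_mem hb.1.uS_mem) (nS_mem h ha.1.uS_mem ht.qn.uS_mem), e⟩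
    · intro b _
      rcases (Y.filter fun x => x * t * x = b).eq_empty_or_nonempty with e | ⟨x, hx⟩
      · rw [e]; simp
      · refine (Finset.card_le_card (t := {x, -x}) fun y hy => ?_).trans Finset.card_le_two
        rw [Finset.mem_filter, hX] at hx hy
        rw [Finset.mem_insert, Finset.mem_singleton]
        exact jordan_sq hp3 ha' ht h (hs.ES_eq ha ha0 ▸ hy.1.1) (hs.ES_eq ha ha0 ▸ hx.1.1)
          (hy.2.trans hx.2.symm)
  have hsX : s ∈ Y := (hX s).2 ⟨hs.qn.mem_ES, hs.ne⟩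
  have k2 : (O s).card ∣ Nat.card G := by
    have := card_dvd_of_trans (G ⊓ Subgroup.normalizer (EG G s : Set (M →ₗ[ZMod p] M)ˣ))
      (O s : Set (M →ₗ[ZMod p] M)) (x₀ := s) (fun g hg => (hO _ _).2 ⟨⟨by
        have := cj_eq_self_iff.2 hg.2
        rw [cj_EG' (Subgroup.le_normalizer hg.1)] at this
        rw [← ES_eq_of_EG_eq this]
        exact (qn_cn hs.qn (Subgroup.le_normalizer hg.1)).mem_ES,
        fun e => hs.ne (cn_eq_zero.1 e)⟩, g, hg.1, rfl⟩)
      (fun x hx => by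
        obtain ⟨⟨h1, h2⟩, g, hg, rfl⟩ := (hO _ _).1 hx
        exact ⟨g, ⟨hg, cj_eq_self_iff.1 (by
          rw [cj_EG' (Subgroup.le_normalizer hg), hs.EG_eq h1 h2])⟩, rfl⟩)
    rw [Nat.card_coe_set_eq, Set.ncard_coe_finset] at this
    exact this.trans (Subgroup.card_dvd_of_le inf_le_left)
  have k3 : Y.card ∣ 2 * (O s).card := by
    by_cases hc : Y ⊆ O s
    · rw [Finset.Subset.antisymm hc (Finset.filter_subset _ _)]; exact dvd_mul_left _ _
    obtain ⟨x, hx, hx'⟩ := Finset.not_subset.1 hc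
    have hd : Disjoint (O s) (O x) := Finset.disjoint_left.2 fun y h1 h2 => hx' (by
      obtain ⟨-, g, hg, e⟩ := (hO _ _).1 h1
      obtain ⟨-, g', hg', e'⟩ := (hO _ _).1 h2
      exact (hO _ _).2 ⟨(hX x).1 hx, g'⁻¹ * g, mul_mem (inv_mem hg') hg, by
        rw [cn_mul, e, ← e', cn_inv_cn]⟩)
    have := Finset.card_le_card (Finset.union_subset (Finset.filter_subset _ Y)
      (Finset.filter_subset _ Y) : O s ∪ O x ⊆ Y)
    rw [Finset.card_union_of_disjoint hd] at this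
    have := k1 s hsX
    have := k1 x hx
    exact ⟨1, by omega⟩
  obtain ⟨a, ha, ha'⟩ := fix_of_card hR (Y : Set (M →ₗ[ZMod p] M)) (fun ρ hρ x hx => by
      obtain ⟨h1, h2⟩ := (hX x).1 hx
      have := hf ρ hρ
      rw [cj_EG' (hn hρ)] at this
      exact (hX _).2 ⟨ES_eq_of_EG_eq this ▸ cn_mem_ES (hn hρ) h1, fun e => h2 (cn_eq_zero.1 e)⟩)
    (fun hd => by
      rw [Nat.card_coe_set_eq, Set.ncard_coe_finset] at hd
      rcases (Nat.Prime.dvd_mul hr.out).1 (hd.trans k3) with h | h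
      · exact hr2 ((Nat.prime_dvd_prime_iff_eq hr.out Nat.prime_two).1 h)
      · exact (Nat.Prime.coprime_iff_not_dvd hr.out).1 hc.symm (h.trans k2))
  exact ⟨a, ((hX a).1 ha).1, ((hX a).1 ha).2, ha'⟩

/-- Connectivity: the two radicals generate a group transitive on the component. -/
theorem exists_cj_of_qcomp (hU : NoUnip G) {s t : M →ₗ[ZMod p] M} (hs : MinQ G s) (ht : MinQ G t)
    (h : Std s t) {H : Subgroup (M →ₗ[ZMod p] M)ˣ} (hH : H ≤ G) (h1 : US G s ≤ H) (h1' : US G t ≤ H)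
    {B : Subgroup (M →ₗ[ZMod p] M)ˣ} (hB : B ∈ qcomp G (EG G s)) : ∃ g ∈ H, cj g (EG G s) = B := by
  have h2 := two_ne hp3
  have h3 := three_lt hp3
  have hnH : nS h ∈ H := nS_mem h (h1 (uS_mem_US hs.qn)) (h1' (uS_mem_US ht.qn))
  obtain ⟨-, hB⟩ := hB
  induction hB with
  | refl => exact ⟨1, one_mem _, cj_one _⟩
  | tail _ hBC ih =>
    obtain ⟨g, hg, rfl⟩ := ih
    obtain ⟨-, hC, hr⟩ := hBC
    obtain ⟨c, hc, rfl⟩ := mem_quadraticRootSubgroups.1 hC
    have hgn := Subgroup.le_normalizer (hH hg)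
    rw [cj_EG' hgn] at hr
    obtain ⟨c', hc', hst⟩ := exists_std h2 h3 (minQ_cn hs hgn) hc
      (opp_of_r1 h2 h3 hU (minQ_cn hs hgn) hc hr)
    obtain ⟨u, hu, e⟩ := exists_US_cn hp3 (minQ_cn hs hgn) (minQ_cn ht hgn)
      (hc.of_mem_ES hc' hst.symm.ne).1 (h.cn g) hst
    have huH : u ∈ H := by
      have := conj_mem_US (inv_mem hgn) hu
      rw [cn_inv_cn] at this
      simpa [mul_assoc] using mul_mem (mul_mem hg (h1 this)) (inv_mem hg)
    have hm := mul_mem (mul_mem huH hg) hnH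
    refine ⟨_, hm, ?_⟩
    rw [cj_EG' (Subgroup.le_normalizer (hH hm)), cn_mul, cn_mul, cn_nS_s, cn_neg, cn_neg, e,
      EG_congr (ES_neg c'), hc.EG_eq hc' hst.symm.ne]

/-- elements of the radical inverted by the involution -/
theorem exists_D1 {s t : M →ₗ[ZMod p] M} (h : Std s t) {y : (M →ₗ[ZMod p] M)ˣ} (hy : y ∈ US G s)
    (hz : zS h * y * (zS h)⁻¹ = y⁻¹) :
    ∃ η β, D1 s t η ∧ D2 s t β ∧ β + β = η * η ∧ (y : M →ₗ[ZMod p] M) = 1 + η + β ∧
      ((y⁻¹ : (M →ₗ[ZMod p] M)ˣ) : M →ₗ[ZMod p] M) = 1 - η + β := by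
  have hθ := (mem_NS_std h).1 hy.2
  have d1 := hθ.d1 h
  have d2 := N3.d2 (θ := (y : M →ₗ[ZMod p] M) - 1) h
  have e1 := congrArg (fun g : (M →ₗ[ZMod p] M)ˣ => (g : M →ₗ[ZMod p] M) - 1) hz
  simp only [cn_val_sub, hθ.cn_zS h] at e1
  generalize s * (t * (((y : M →ₗ[ZMod p] M) - 1) * (t * s))) = β at *
  obtain ⟨η, hη⟩ : ∃ η, η = (y : M →ₗ[ZMod p] M) - 1 - β := ⟨_, rfl⟩
  rw [← hη] at d1
  have e2 : (y : M →ₗ[ZMod p] M) = 1 + η + β := by rw [hη]; abel
  have e3 : ((y⁻¹ : (M →ₗ[ZMod p] M)ˣ) : M →ₗ[ZMod p] M) = 1 - η + β := by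
    rw [hη]; linear_combination (norm := abel) -e1
  refine ⟨η, β, d1, d2, ?_, e2, e3⟩
  have := y.mul_inv
  rw [e2, e3] at this
  have k1 : η * β = 0 := by rw [← d2.l, d1.ηs']
  have k2 : β * η = 0 := by rw [← d2.r, mul_assoc, mul_assoc, d1.sη, mul_zero, mul_zero]
  have k3 : β * β = 0 := by nth_rewrite 2 [← d2.l]; rw [d2.as' h]
  simp only [mul_add, add_mul, mul_sub, one_mul, mul_one, k1, k2, k3] at this
  linear_combination (norm := abel) this

theorem mem_EG_of_comm {s t : M →ₗ[ZMod p] M} (h : Std s t) {c : (M →ₗ[ZMod p] M)ˣ}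
    (hc : c ∈ US G s) (hz : zS h * c * (zS h)⁻¹ = c) : c ∈ EG G s := by
  have hθ := (mem_NS_std h).1 hc.2
  have d2 := N3.d2 (θ := (c : M →ₗ[ZMod p] M) - 1) h
  have e1 := congrArg (fun g : (M →ₗ[ZMod p] M)ˣ => (g : M →ₗ[ZMod p] M) - 1) hz
  simp only [cn_val_sub, hθ.cn_zS h] at e1
  generalize s * (t * (((c : M →ₗ[ZMod p] M) - 1) * (t * s))) = β at *
  have e2 : β = (c : M →ₗ[ZMod p] M) - 1 := by
    rw [← sub_eq_zero]
    refine eq_zero_of_add_self (two_ne hp3) ?_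
    linear_combination (norm := abel) e1
  rw [mem_EG, mem_ES_std h, ← e2]
  exact ⟨qn_of_sq (by nth_rewrite 2 [← d2.l]; rw [d2.as' h]) ⟨c, hc.1, by rw [e2]; abel⟩, d2⟩

end CfsgH3.FQ
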