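import Cfsg.Agent.H3.FQ3

/-! Rootless invariant subgroups and singular subspaces. -/

set_option autoImplicit false
set_option linter.unusedSectionVars false
set_option linter.style.haveILetI false
set_option maxHeartbeats 400000

namespace CfsgH3.FQ

open CfsgH9 LinearMap

section Ring
variable {A : Type*} [Ring A] {s t : A}

theorem D1.mul_d2 {η β : A} (hη : D1 s t η) (hβ : D2 s t β) : η * β = 0 := by
  rw [← hβ.l, hη.ηs']

theorem D2.mul_d1 {η β : A} (hβ : D2 s t β) (hη : D1 s t η) : β * η = 0 := by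
  rw [← hβ.r, mul_assoc, mul_assoc, hη.sη, mul_zero, mul_zero]

theorem D2.mul_d2 {α β : A} (h : Std s t) (hα : D2 s t α) (hβ : D2 s t β) : α * β = 0 := by
  rw [← hβ.l, hα.as' h]

theorem D1.mul {η θ : A} (hη : D1 s t η) (hθ : D1 s t θ) : D2 s t (η * θ) := by
  constructor
  · have := congrArg (fun x => x * θ) hη.eq
    simpa only [add_mul, mul_assoc, hθ.sη, mul_zero, add_zero] using this
  · have := congrArg (fun x => η * x) hθ.eq
    simpa only [mul_add, mul_assoc, hη.ηs', zero_add] using this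

theorem D2.add {α β : A} (hα : D2 s t α) (hβ : D2 s t β) : D2 s t (α + β) :=
  ⟨by rw [mul_add, mul_add, hα.l, hβ.l], by rw [add_mul, hα.r, hβ.r]⟩

theorem D2.sub {α β : A} (hα : D2 s t α) (hβ : D2 s t β) : D2 s t (α - β) :=
  ⟨by rw [mul_sub, mul_sub, hα.l, hβ.l], by rw [sub_mul, hα.r, hβ.r]⟩

theorem D1.cn {η : A} (hη : D1 s t η) (g : Aˣ) : D1 (cn g s) (cn g t) (cn g η) :=
  ⟨by rw [← cn_mul', hη.sη, cn_zero], by rw [← cn_mul', hη.ηs, cn_zero],
    by simp only [← cn_mul', ← cn_add, hη.eq]⟩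

theorem D2.cn {β : A} (hβ : D2 s t β) (g : Aˣ) : D2 (cn g s) (cn g t) (cn g β) :=
  ⟨by simp only [← cn_mul', hβ.l], by simp only [← cn_mul', hβ.r]⟩

theorem cn_uS_eq {r x : A} (hr : r * r = 0) (h : r * x = x * r) : cn (uS r hr) x = x :=
  cn_eq_iff.2 (by rw [uS_val, add_mul, mul_add, h, one_mul, mul_one])

end Ring

variable {p : ℕ} [hp : Fact p.Prime] {M : Type*} [AddCommGroup M] [Module (ZMod p) M] [Finite M]
  {G : Subgroup (M →ₗ[ZMod p] M)ˣ}

theorem uS_mem_of_inG {A : Type*} [Ring A] {P : Subgroup Aˣ} {r : A} (hr : r * r = 0)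
    (h : InG P (1 + r)) : uS r hr ∈ P := inG_coe.1 h

theorem not_opp_of_norm {P : Subgroup (M →ₗ[ZMod p] M)ˣ} (hP : Unip (ZMod p) P)
    {c : M →ₗ[ZMod p] M} (hc : c * c = 0)
    (hn : uS c hc ∈ Subgroup.normalizer (P : Set (M →ₗ[ZMod p] M)ˣ)) {a b : M →ₗ[ZMod p] M}
    (ha : InG (P ⊔ Subgroup.zpowers (uS c hc)) (1 + a))
    (hb : InG (P ⊔ Subgroup.zpowers (uS c hc)) (1 + b)) : ¬ Opp a b := by
  have hq : QN (ZMod p) (⊤ : Subgroup (M →ₗ[ZMod p] M)ˣ) c :=
    ⟨hc, fun a => ⟨uS _ (smul_sq hc a), trivial, rfl⟩⟩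
  have hu := hP.sup ((unip_EG (G := ⊤) c).mono (Subgroup.zpowers_le.2 (uS_mem_EG hq.mem_ES)))
    fun h hh x hx => conj_mem_of_mem_normalizer (Subgroup.zpowers_le.2 hn hh) hx
  obtain ⟨x, hx, e⟩ := ha
  obtain ⟨y, hy, e'⟩ := hb
  simpa only [e, e', add_sub_cancel_left] using not_opp_of_unip hu hx hy

theorem not_opp_of_norm' {P : Subgroup (M →ₗ[ZMod p] M)ˣ} (hP : Unip (ZMod p) P)
    {c : M →ₗ[ZMod p] M} (hc : c * c = 0)
    (hn : uS c hc ∈ Subgroup.normalizer (P : Set (M →ₗ[ZMod p] M)ˣ)) {a : M →ₗ[ZMod p] M}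
    (ha : InG P (1 + a)) : ¬ Opp c a :=
  not_opp_of_norm hP hc hn ⟨_, Subgroup.mem_sup_right (Subgroup.mem_zpowers _), rfl⟩
    (ha.mono le_sup_left)

variable (G) in
/-- no root elements -/
def NoRoot (P : Subgroup (M →ₗ[ZMod p] M)ˣ) : Prop := ∀ c, MinQ G c → ¬ InG P (1 + c)

theorem NoRoot.eq_zero {P : Subgroup (M →ₗ[ZMod p] M)ˣ} (h : NoRoot G P) (hPG : P ≤ G)
    {s c : M →ₗ[ZMod p] M} (hs : MinQ G s) (hc : c * c = 0) (hP : InG P (1 + c))
    (hrk : rk c ≤ rk s) : c = 0 :=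
  by_contra fun h0 => h c (hs.of_le (qn_of_sq hc (hP.mono hPG)) h0 hrk) hP

variable (hp3 : 3 < p)
include hp3

theorem D1.of_cn_zS {s t a : M →ₗ[ZMod p] M} (h : Std s t) (h1 : s * a = 0) (h2 : a * s = 0)
    (hz : FQ.cn (zS h) a = -a) : D1 s t a := by
  have h1' : ∀ x, s * (a * x) = 0 := fun x => by rw [← mul_assoc, h1, zero_mul]
  have h2' : ∀ x, a * (s * x) = 0 := fun x => by rw [← mul_assoc, h2, zero_mul]
  simp only [FQ.cn, zS_inv, zS_val, mul_add, add_mul, mul_sub, sub_mul, mul_assoc,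
    one_mul, mul_one, h1, h1', h2', mul_zero, zero_mul] at hz
  have e : s * (t * a) + a * (t * s) - s * (t * (a * (t * s))) - s * (t * (a * (t * s))) - a = 0 :=
    eq_zero_of_add_self (two_ne hp3) (by linear_combination (norm := abel) -hz)
  have e' := congrArg (fun x => s * (t * (x * (t * s)))) e
  simp only [mul_add, add_mul, mul_sub, sub_mul, mul_assoc, h.sts1, h.sts2, mul_zero, zero_mul] at e'
  have e2 : s * (t * (a * (t * s))) = 0 := by linear_combination (norm := abel) -e'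
  refine ⟨h1, h2, ?_⟩
  rw [e2] at e
  linear_combination (norm := abel) e

theorem D1.unique {s t η η' β β' : M →ₗ[ZMod p] M} (h : Std s t) (h1 : D1 s t η) (h1' : D1 s t η')
    (h2 : D2 s t β) (h2' : D2 s t β') (e : η + β = η' + β') : η = η' := by
  have := congrArg (FQ.cn (zS h)) e
  rw [cn_add, cn_add, h1.cn_zS h, h1'.cn_zS h, cn_zS_D2 h h2, cn_zS_D2 h h2'] at this
  rw [← sub_eq_zero]
  exact eq_zero_of_add_self (two_ne hp3) (by linear_combination (norm := abel) e - this)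

theorem comm_of_noRoot {P : Subgroup (M →ₗ[ZMod p] M)ˣ} (hPG : P ≤ G) (hP : Unip (ZMod p) P)
    (hno : NoRoot G P) {s r : M →ₗ[ZMod p] M} (hs : MinQ G s)
    (hn : uS s hs.qn.sq ∈ Subgroup.normalizer (P : Set (M →ₗ[ZMod p] M)ˣ)) (hr : r * r = 0)
    (hx : InG P (1 + r)) : r * s = s * r := by
  have h2 := two_ne hp3
  have srs : s * r * s = 0 :=
    sts_eq_zero h2 hs (qn_of_sq hr (hx.mono hPG)) (not_opp_of_norm' hP _ hn hx)
  have key : ∀ r : M →ₗ[ZMod p] M, r * r = 0 → InG P (1 + r) → s * r * s = 0 →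
      InG P (1 + (r * s - s * r) - r * s * r) := by
    intro r hr hx srs
    have hx' := uS_mem_of_inG hr hx
    refine ⟨_, mul_mem hx' (conj_mem_of_mem_normalizer hn (inv_mem hx')), ?_⟩
    rw [mul_assoc] at srs
    have rr : ∀ x, r * (r * x) = 0 := fun x => by rw [← mul_assoc, hr, zero_mul]
    simp only [Units.val_mul, uS_val, uS_inv, mul_add, add_mul, mul_sub, sub_mul, mul_assoc, hr,
      hs.qn.sq, srs, rr, mul_zero, one_mul, mul_one]
    abel
  have k1 := key r hr hx srs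
  have k2 := key (-r) (by rw [neg_mul_neg, hr]) ⟨_, inv_mem (uS_mem_of_inG hr hx), by
    rw [uS_inv, sub_eq_add_neg]⟩ (by rw [mul_neg, neg_mul, srs, neg_zero])
  have rr : ∀ x, r * (r * x) = 0 := fun x => by rw [← mul_assoc, hr, zero_mul]
  have ss : ∀ x, s * (s * x) = 0 := fun x => by rw [← mul_assoc, hs.qn.sq, zero_mul]
  have srs1 : s * (r * s) = 0 := by rw [← mul_assoc, srs]
  have srs2 : ∀ x, s * (r * (s * x)) = 0 := fun x => by rw [← mul_assoc, ← mul_assoc, srs, zero_mul]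
  have hv : r * s * r = 0 := by
    have k3 : InG P (1 + -(r * s * r + r * s * r)) := by
      convert k1.mul k2 using 1
      simp only [mul_add, add_mul, mul_sub, sub_mul, mul_neg, neg_mul, neg_neg, mul_assoc, hr, rr,
        ss, srs1, srs2, mul_zero, one_mul, mul_one]
      abel
    have := hno.eq_zero hPG hs (by
      simp only [mul_add, add_mul, mul_neg, neg_mul, mul_assoc, rr, mul_zero]; simp) k3 (by
      rw [rk_neg, ← two_smul (ZMod p)]
      exact (rk_smul_le _ _).trans ((rk_mul_le_left _ _).trans (rk_mul_le_right _ _)))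
    exact eq_zero_of_add_self h2 (neg_eq_zero.1 this)
  rw [hv, sub_zero] at k1
  refine sub_eq_zero.1 (hno.eq_zero hPG hs ?_ k1 (rk_comm_le hv))
  simp only [mul_sub, sub_mul, mul_assoc, rr, ss, srs1, srs2, mul_zero]
  simp

theorem eq_zero_of_noRoot {P : Subgroup (M →ₗ[ZMod p] M)ˣ} (hPG : P ≤ G) (hP : Unip (ZMod p) P)
    (hno : NoRoot G P) {s t η β : M →ₗ[ZMod p] M} (ht : MinQ G t) (h : Std s t)
    (hns : uS s h.ss ∈ Subgroup.normalizer (P : Set (M →ₗ[ZMod p] M)ˣ))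
    (hnt : uS t h.tt ∈ Subgroup.normalizer (P : Set (M →ₗ[ZMod p] M)ˣ))
    (d1 : D1 s t η) (d2 : D2 s t β) (hβ : β + β = η * η) {y : (M →ₗ[ZMod p] M)ˣ} (hy : y ∈ P)
    (e1 : (y : M →ₗ[ZMod p] M) = 1 + η + β)
    (e2 : ((y⁻¹ : (M →ₗ[ZMod p] M)ˣ) : M →ₗ[ZMod p] M) = 1 - η + β) : η = 0 := by
  have h2 := two_ne hp3
  have h3 := three_lt hp3
  have ht' := minQ_cn ht (Subgroup.le_normalizer (hPG hy))
  have hu : uS _ ht'.qn.sq = y * uS t h.tt * y⁻¹ := (conj_uS_eq y _ _).symm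
  have hw : uS _ ht'.qn.sq * (uS t h.tt)⁻¹ ∈ P := by
    rw [hu]
    simpa only [mul_assoc] using mul_mem hy (conj_mem_of_mem_normalizer hnt (inv_mem hy))
  have ho : ¬ Opp t (cn y t) :=
    not_opp_of_norm hP h.tt hnt ⟨_, Subgroup.mem_sup_right (Subgroup.mem_zpowers _), rfl⟩
      ⟨_, mul_mem (Subgroup.mem_sup_left hw) (Subgroup.mem_sup_right (Subgroup.mem_zpowers _)),
        by rw [inv_mul_cancel_right]; rfl⟩
  have o1 := sts_eq_zero h2 ht ht'.qn ho
  have o2 := sts_eq_zero h2 ht' ht.qn fun h => ho h.symm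
  have hc : t * cn y t - cn y t * t = 0 := by
    by_contra hne
    refine hno _ (comm_case ht ht' o1 o2 hne).1 ⟨_, ?_, uS_comm h.tt ht'.qn.sq o1 o2⟩
    have := mul_mem (conj_mem_of_mem_normalizer hnt hw) (inv_mem hw)
    convert this using 1
    group
  have ηη : ∀ x, η * (η * x) = β * x + β * x := fun x => by rw [← mul_assoc, ← hβ, add_mul]
  have ηβ := d1.mul_d2 d2
  have βη := d2.mul_d1 d1
  have ββ := d2.mul_d2 h d2
  have ηβ' : ∀ x, η * (β * x) = 0 := fun x => by rw [← mul_assoc, ηβ, zero_mul]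
  have βη' : ∀ x, β * (η * x) = 0 := fun x => by rw [← mul_assoc, βη, zero_mul]
  have ββ' : ∀ x, β * (β * x) = 0 := fun x => by rw [← mul_assoc, ββ, zero_mul]
  have c1 := congrArg (fun x => s * x) hc
  have c2 := congrArg (fun x => x * s) hc
  simp only [cn, e1, e2, mul_add, add_mul, mul_sub, sub_mul, mul_assoc, h.tt, h.tt', d1.tηt h,
    d1.tηt' h, d1.sη', d1.ηs, d2.l', d2.r, d2.sa' h, d2.as h, d2.l, mul_zero, one_mul, mul_one,
    zero_mul, h.sts2, h.tst1] at c1 c2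
  have c3 := congrArg (fun x => x * (t * s)) c1
  simp only [mul_add, add_mul, mul_sub, sub_mul, mul_assoc, h.tt', d1.tηt' h, d2.r, mul_zero,
    zero_mul] at c3
  have βtβ : β * (t * β) = 0 := by linear_combination (norm := abel) c3
  have βtη : β * (t * η) = 0 := by linear_combination (norm := abel) βtβ - c1
  have ηtβ : η * (t * β) = 0 := by linear_combination (norm := abel) -βtβ - c2
  have βtβ' : ∀ x, β * (t * (β * x)) = 0 := fun x => by
    rw [← mul_assoc t, ← mul_assoc, βtβ, zero_mul]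
  have βtη' : ∀ x, β * (t * (η * x)) = 0 := fun x => by
    rw [← mul_assoc t, ← mul_assoc, βtη, zero_mul]
  have ηtβ' : ∀ x, η * (t * (β * x)) = 0 := fun x => by
    rw [← mul_assoc t, ← mul_assoc, ηtβ, zero_mul]
  have hκ : InG P (1 + (β * t + -(η * (t * η)) + t * β)) := by
    refine ⟨_, mul_mem hw (conj_mem_of_mem_normalizer (nS_mem h hns hnt) (inv_mem hy)), ?_⟩
    rw [Units.val_mul, cn_val, e2, cn_add, cn_sub, cn_one', d1.cn_nS h, cn_nS_D2' h d2]
    simp only [Units.val_mul, uS_val, uS_inv, cn, e1, e2, mul_add, add_mul, mul_sub, sub_mul,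
      mul_neg, mul_assoc, h.tt, h.tt', d1.tηt h, d1.tηt' h, ηη, βη', ββ', βtβ, βtη, ηtβ, βtβ',
      βtη', ηtβ', mul_zero, one_mul, mul_one, zero_mul]
    abel
  have hκ0 := hno.eq_zero hPG ht (by
    simp only [mul_add, add_mul, mul_neg, neg_mul, mul_assoc, h.tt', d1.tηt' h, ηη, ηβ', βη', ββ',
      βtβ, βtβ', βtη', ηtβ', mul_zero]
    simp) hκ (by
    have r1 := rk_mul_add β t
    have r2 := rk_mul_add η (t * η)
    have r3 : rk (t * η) ≤ Module.finrank (ZMod p) ↥(range t ⊓ ker β) :=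
      Submodule.finrank_mono (le_inf (range_mul_le _ _) (mul_eq_zero_iff_le.1 βtη))
    have r4 : rk (t * β) ≤ Module.finrank (ZMod p) ↥(range (t * η) ⊓ ker η) := by
      refine Submodule.finrank_mono (le_inf ?_ (mul_eq_zero_iff_le.1 ηtβ))
      have : t * β = t * η * ((2⁻¹ : ZMod p) • η) := by
        rw [mul_smul_comm, mul_assoc, ← hβ, ← two_smul (ZMod p) β, mul_smul_comm, smul_smul,
          inv_mul_cancel₀ h2, one_smul]
      rw [this]; exact range_mul_le _ _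
    have r5 := rk_add_le (β * t + -(η * (t * η))) (t * β)
    have r6 := rk_add_le (β * t) (-(η * (t * η)))
    rw [rk_neg] at r6
    omega)
  have c4 := congrArg (fun x => s * (t * (x * s))) hκ0
  simp only [mul_add, add_mul, mul_neg, neg_mul, mul_assoc, d2.r, d2.l, d1.ηs, d2.as h, mul_zero,
    zero_mul, neg_zero, add_zero] at c4
  rw [c4, add_zero] at hβ e1
  exact d1.eq_zero_of_comm h (comm_of_noRoot hp3 hPG hP hno ht hnt hβ.symm ⟨y, hy, e1⟩)

section Sing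
variable {N : Submodule (ZMod p) (M →ₗ[ZMod p] M)} (hN0 : ∀ a ∈ N, ∀ b ∈ N, a * b = 0)
  (hNr : ∀ a ∈ N, a ≠ 0 → MinQ G a ∧ ES G a ≤ N)
include hN0 hNr

theorem sing_D1 {θ t η : M →ₗ[ZMod p] M} (hθ : θ ∈ N) (ht : MinQ G t) (h : Std θ t) (hη : η ∈ N)
    (e : t * η * t = 0) : D1 θ t η ∧ η * t * η = 0 := by
  have h2 := two_ne hp3
  have h3 := three_lt hp3
  have k1 : η * t * η = 0 := by
    by_cases h0 : η = 0
    · simp [h0]
    · exact sts_eq_zero h2 (hNr η hη h0).1 ht.qn fun ho =>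
        (opp_iff h2 h3 ht (hNr η hη h0).1).1 ho.symm e
  refine ⟨⟨hN0 _ hθ _ hη, hN0 _ hη _ hθ, ?_⟩, k1⟩
  have e1 : t * (η + θ) * t = t := by rw [mul_add, add_mul, e, h.tst, zero_add]
  have hρ := (hNr _ (add_mem hη hθ) fun e0 => h.symm.ne (by rw [← e1, e0]; simp)).1
  have hm := sub_mem (root_sandwich h2 h3 hρ ht) hρ.qn.mem_ES
  have k2 : (η + θ) * t * (η + θ) - (η + θ) = 0 := by
    by_contra h0
    have := (opp_congr h2 h3 ht hρ ht.qn.mem_ES ht.ne hm h0).2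
      ((opp_iff h2 h3 ht hρ).2 (by rw [e1]; exact ht.ne))
    refine (opp_iff h2 h3 ht (hρ.of_mem_ES hm h0).1).1 this ?_
    rw [mul_sub, sub_mul, ← mul_assoc, ← mul_assoc, e1, e1, sub_self]
  simp only [mul_add, add_mul, k1, h.sts] at k2
  simp only [← mul_assoc]
  linear_combination (norm := abel) k2

theorem sing_step {θ t θ' : M →ₗ[ZMod p] M} (hθ : θ ∈ N) (ht : MinQ G t) (h : Std θ t)
    (hθ' : θ' ∈ N) (e : t * θ' * t ≠ 0) :
    ∃ g ∈ G, (∀ x ∈ N, cn g x ∈ N) ∧ cj g (EG G θ) = EG G θ' := by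
  have h2 := two_ne hp3
  have h3 := three_lt hp3
  have m := (hNr θ hθ h.ne).1
  obtain ⟨m', l'⟩ := hNr θ' hθ' fun e0 => e (by rw [e0]; simp)
  obtain ⟨b, hb, hst⟩ := exists_std h2 h3 ht m' ((opp_iff h2 h3 ht m').2 e)
  have hη : b - θ ∈ N := sub_mem (l' hb) hθ
  obtain ⟨d, dd⟩ := sing_D1 hp3 hN0 hNr hθ ht h hη (by rw [mul_sub, sub_mul, hst.sts, h.tst, sub_self])
  have hq : QN (ZMod p) G (b - θ) := by
    by_cases h0 : b - θ = 0
    · rw [h0]; exact QN.zero G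
    · exact (hNr _ hη h0).1.qn
  have hτ := qn_cn hq (Subgroup.le_normalizer (nS_mem h m.qn.uS_mem ht.qn.uS_mem))
  rw [d.cn_nS h] at hτ
  have e1 : cn (uS _ hτ.sq) θ = b := by
    have : ((b - θ) * t - t * (b - θ)) * θ * ((b - θ) * t - t * (b - θ)) = 0 := by
      generalize b - θ = η at d dd
      rw [mul_assoc] at dd
      simp only [mul_sub, sub_mul, mul_assoc, d.ηs', d.sη', h.tst2, dd, mul_zero, sub_zero]
    rw [cn, uS_conj, d.comm_s h, this]
    abel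
  have hg := Subgroup.le_normalizer hτ.uS_mem
  refine ⟨_, hτ.uS_mem, fun x hx => ?_, by rw [cj_EG' hg, e1, m'.EG_eq hb hst.symm.ne]⟩
  have hj : θ * (t * x * t) * θ ∈ ES G θ := by
    by_cases h0 : x = 0
    · simp [h0]
    · exact std_sandwich h m.qn ht.qn (root_sandwich h2 h3 ht (hNr x hx h0).1)
  have hx' := sub_mem hx ((hNr θ hθ h.ne).2 hj)
  have e2 : t * (x - θ * (t * x * t) * θ) * t = 0 := by
    simp only [mul_sub, sub_mul, mul_assoc, h.tst1, h.tst2, sub_self]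
  have k1 := (sing_D1 hp3 hN0 hNr hθ ht h hx' e2).2
  have k2 := (sing_D1 hp3 hN0 hNr hθ ht h (add_mem hη hx') (by
    rw [mul_add, add_mul, e2, mul_assoc, d.tηt h, add_zero])).2
  have k3 := cn_mem_ES hg hj
  rw [e1] at k3
  have k4 := add_mem ((hNr b (l' hb) hst.symm.ne).2 k3) hx'
  rw [← cn_uS_eq hτ.sq (x := x - θ * (t * x * t) * θ), ← cn_add, add_sub_cancel] at k4
  · exact k4
  have k5 := hN0 _ hη _ hx'
  have k6 := hN0 _ hx' _ hη
  generalize x - θ * (t * x * t) * θ = x' at *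
  generalize b - θ = η at *
  simp only [mul_add, add_mul, dd, k1] at k2
  simp only [mul_sub, sub_mul, mul_assoc t, k5, ← mul_assoc x', k6, mul_zero, zero_mul]
  linear_combination (norm := abel) k2

theorem sing_trans (hU : NoUnip G) {θ θ' : M →ₗ[ZMod p] M} (hθ : θ ∈ N) (h0 : θ ≠ 0)
    (hθ' : θ' ∈ N) (h0' : θ' ≠ 0) :
    ∃ g ∈ G, (∀ x ∈ N, cn g x ∈ N) ∧ cj g (EG G θ) = EG G θ' := by
  have inv : ∀ g : (M →ₗ[ZMod p] M)ˣ, (∀ x ∈ N, cn g x ∈ N) → ∀ x ∈ N, cn g⁻¹ x ∈ N := by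
    intro g hg x hx
    obtain ⟨y, hy⟩ := (Finite.injective_iff_surjective (f := fun y : N => (⟨cn g y, hg _ y.2⟩ : N))).1
      (fun a b e => Subtype.ext (cn_inj (congrArg Subtype.val e))) ⟨x, hx⟩
    rw [← show cn g y = x from congrArg Subtype.val hy, cn_inv_cn]
    exact y.2
  obtain ⟨t, ht, h⟩ := exists_partner hp3 hU (hNr θ hθ h0).1
  obtain ⟨t', ht', h'⟩ := exists_partner hp3 hU (hNr θ' hθ' h0').1
  by_cases e : t * θ' * t = 0
  swap
  · exact sing_step hp3 hN0 hNr hθ ht h hθ' e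
  by_cases e' : t' * θ * t' = 0
  swap
  · obtain ⟨g, hg, k1, k2⟩ := sing_step hp3 hN0 hNr hθ' ht' h' hθ e'
    exact ⟨g⁻¹, inv_mem hg, inv g k1, by rw [← k2, cj_inv_cj]⟩
  obtain ⟨g, hg, k1, k2⟩ := sing_step hp3 hN0 hNr hθ ht h (add_mem hθ hθ') (by
    rw [mul_add, add_mul, e, h.tst, add_zero]; exact ht.ne)
  obtain ⟨g', hg', k1', k2'⟩ := sing_step hp3 hN0 hNr hθ' ht' h' (add_mem hθ hθ') (by
    rw [mul_add, add_mul, e', h'.tst, zero_add]; exact ht'.ne)
  exact ⟨g'⁻¹ * g, mul_mem (inv_mem hg') hg, fun x hx => by rw [cn_mul]; exact inv g' k1' _ (k1 x hx),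
    by rw [← cj_cj, k2, ← k2', cj_inv_cj]⟩

end Sing

end CfsgH3.FQ
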