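import Cfsg.Agent.H3.FQ4
import Cfsg.Agent.L0.CoresOf

/-! The core case: invariant `p`-subgroups contain no quadratic elements. -/

set_option autoImplicit false
set_option linter.unusedSectionVars false
set_option linter.style.haveILetI false
set_option maxHeartbeats 400000

namespace CfsgH3.FQ

open CfsgH9 LinearMap
open Subgroup (normalizer centralizer)
open scoped commutatorElement

/-- `Q` is a `p`-subgroup of `G` invariant under `R` and `C_G(R)`. -/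
structure Inv (p : ℕ) {Γ : Type*} [Group Γ] (G R Q : Subgroup Γ) : Prop where
  le : Q ≤ G
  pg : IsPGroup p Q
  nR : R ≤ normalizer (Q : Set Γ)
  nC : G ⊓ centralizer (R : Set Γ) ≤ normalizer (Q : Set Γ)

theorem Inv.inf {p : ℕ} {Γ : Type*} [Group Γ] {G R Q H : Subgroup Γ} (h : Inv p G R Q) (hH : H ≤ G)
    (hR : R ≤ normalizer (H : Set Γ)) : Inv p H R (Q ⊓ H) :=
  ⟨inf_le_right, h.pg.to_le inf_le_left, CfsgH2.le_normalizer_inf h.nR hR,
    CfsgH2.le_normalizer_inf ((inf_le_inf_right _ hH).trans h.nC)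
      (inf_le_left.trans Subgroup.le_normalizer)⟩

variable {p : ℕ} [hp : Fact p.Prime] {M : Type*} [AddCommGroup M] [Module (ZMod p) M] [Finite M]
  {G R : Subgroup (M →ₗ[ZMod p] M)ˣ} {r : ℕ} [hr : Fact r.Prime]

variable (p r G) in
/-- the inductive hypothesis -/
def IH : Prop := ∀ H R Q : Subgroup (M →ₗ[ZMod p] M)ˣ, Nat.card H < Nat.card G → IsPGroup r R →
  (Nat.card H).Coprime r → R ≤ normalizer (H : Set (M →ₗ[ZMod p] M)ˣ) → Inv p H R Q →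
  ∀ a : M →ₗ[ZMod p] M, ∀ ha : a * a = 0, uS a ha ∈ Q → uS a ha ∈ CfsgL0.pCoreOf p H

variable (r G R) in
structure Ctx : Prop where
  hR : IsPGroup r R
  cop : (Nat.card G).Coprime r
  norm : R ≤ normalizer (G : Set (M →ₗ[ZMod p] M)ˣ)
  hU : NoUnip G
  r2 : r ≠ 2
  ih : IH p G r

variable (G R) in
structure FP (s t : M →ₗ[ZMod p] M) : Prop where
  hs : MinQ G s
  ht : MinQ G t
  std : Std s t
  fs : ∀ ρ ∈ R, cn ρ s = s
  ft : ∀ ρ ∈ R, cn ρ t = t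

theorem uS_mem_centralizer {a : M →ₗ[ZMod p] M} (ha : a * a = 0) {S : Set (M →ₗ[ZMod p] M)ˣ}
    (h : ∀ ρ ∈ S, cn ρ a = a) : uS a ha ∈ centralizer S := fun ρ hρ =>
  Units.ext (by simp [mul_add, add_mul, cn_eq_iff.1 (h ρ hρ)])

theorem cn_eq_of_comm {a : M →ₗ[ZMod p] M} (ha : a * a = 0) {g : (M →ₗ[ZMod p] M)ˣ}
    (h : g * uS a ha = uS a ha * g) : cn g a = a := by
  have := congrArg Units.val h
  rw [cn_eq_iff]
  simpa [mul_add, add_mul] using this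

namespace FP
variable {s t : M →ₗ[ZMod p] M} (f : FP G R s t)
include f

theorem symm : FP G R t s := ⟨f.ht, f.hs, f.std.symm, f.ft, f.fs⟩

theorem ms : uS s f.std.ss ∈ G ⊓ centralizer (R : Set (M →ₗ[ZMod p] M)ˣ) :=
  ⟨f.hs.qn.uS_mem, uS_mem_centralizer _ f.fs⟩

theorem mt : uS t f.std.tt ∈ G ⊓ centralizer (R : Set (M →ₗ[ZMod p] M)ˣ) := f.symm.ms

theorem mn : nS f.std ∈ G ⊓ centralizer (R : Set (M →ₗ[ZMod p] M)ˣ) := nS_mem f.std f.ms f.mt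

theorem mz : zS f.std ∈ G ⊓ centralizer (R : Set (M →ₗ[ZMod p] M)ˣ) := zS_mem f.std f.ms f.mt

end FP

variable (hp3 : 3 < p)
include hp3

theorem Ctx.exists_fp (c : Ctx G R r) {a : M →ₗ[ZMod p] M} (ha : MinQ G a)
    (hf : ∀ ρ ∈ R, cj ρ (EG G a) = EG G a) : ∃ s ∈ ES G a, ∃ t, FP G R s t := by
  obtain ⟨s, hs, h0, hfs⟩ := exists_fixed_root hp3 c.hU c.r2 c.hR c.norm ha c.cop hf
  have hs' := (ha.of_mem_ES hs h0).1
  obtain ⟨t, ht, h, hft⟩ := exists_fixed_partner hp3 c.hU c.hR c.norm hs'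
    (c.cop.coprime_dvd_left (Subgroup.card_dvd_of_le (US_le s))) hfs
  exact ⟨s, hs, t, hs', ht, h, hfs, hft⟩

theorem FP.factA {s t : M →ₗ[ZMod p] M} (f : FP G R s t) {Q : Subgroup (M →ₗ[ZMod p] M)ˣ}
    (hQ : Inv p G R Q) {b : M →ₗ[ZMod p] M} (hb : b ∈ ES G s) (hbQ : InG Q (1 + b)) : b = 0 := by
  by_contra h0
  have h1 := InG.cn hbQ (hQ.nC f.mn)
  rw [cn_add, cn_one'] at h1
  have h2 := cn_mem_ES (Subgroup.le_normalizer f.mn.1) hb
  rw [cn_nS_s, ES_neg] at h2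
  obtain ⟨x, hx, e⟩ := hbQ
  obtain ⟨y, hy, e'⟩ := h1
  have := not_opp_of_unip (unip_of_isPGroup hQ.pg) hx hy
  rw [e, e', add_sub_cancel_left, add_sub_cancel_left] at this
  exact this ((opp_congr (two_ne hp3) (three_lt hp3) f.hs f.ht hb h0 h2
    fun e => h0 (cn_eq_zero.1 e)).2 f.std.opp)

theorem Ctx.factA (c : Ctx G R r) {a : M →ₗ[ZMod p] M} (ha : MinQ G a)
    (hf : ∀ ρ ∈ R, cj ρ (EG G a) = EG G a) {Q : Subgroup (M →ₗ[ZMod p] M)ˣ} (hQ : Inv p G R Q) :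
    ¬ InG Q (1 + a) := fun h => by
  obtain ⟨s, hs, t, f⟩ := c.exists_fp hp3 ha hf
  exact ha.ne (f.factA hp3 hQ (ha.ES_eq hs f.hs.ne ▸ ha.qn.mem_ES) h)

theorem FP.comm_of_cn_z {s t : M →ₗ[ZMod p] M} (f : FP G R s t) {Q : Subgroup (M →ₗ[ZMod p] M)ˣ}
    (hQ : Inv p G R Q) {c : M →ₗ[ZMod p] M} (hc : MinQ G c) (hcQ : InG Q (1 + c))
    (hz : cn (zS f.std) c = c) : s * c = c * s := by
  have h2 := two_ne hp3
  have h := f.std
  have ho := not_opp_of_norm' (unip_of_isPGroup hQ.pg) _ (hQ.nC f.ms) hcQ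
  have o1 := sts_eq_zero h2 f.hs hc.qn ho
  have o2 := sts_eq_zero h2 hc f.hs.qn fun h => ho h.symm
  have hx := uS_mem_of_inG hc.qn.sq hcQ
  refine sub_eq_zero.1 (f.factA hp3 hQ ((mem_ES_std h).2 ⟨QN.comm f.hs.qn hc.qn o1 o2, ?_⟩)
    ⟨_, mul_mem (conj_mem_of_mem_normalizer (hQ.nC f.ms) hx) (inv_mem hx),
      uS_comm h.ss hc.qn.sq o1 o2⟩)
  rw [cn_eq_iff, zS_val] at hz
  have e : (s * t + t * s) * c = c * (s * t + t * s) := by
    rw [← sub_eq_zero]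
    refine eq_zero_of_add_self h2 ?_
    simp only [sub_mul, mul_sub, one_mul, mul_one] at hz
    linear_combination (norm := abel) -hz
  have e1 := congrArg (fun x => x * s) e
  have e2 := congrArg (fun x => s * x) e
  rw [mul_assoc] at o1
  have o1' : ∀ x, s * (c * (s * x)) = 0 := fun x => by rw [← mul_assoc c, ← mul_assoc, o1, zero_mul]
  simp only [mul_add, add_mul, mul_assoc, h.sts1, h.ss, h.ss', h.sts2, o1, o1', mul_zero, add_zero,
    zero_add] at e1 e2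
  exact ⟨by rw [mul_sub, mul_sub, h.sts2, e1], by
    simp only [sub_mul, mul_assoc, h.sts1, ← e2]⟩

/-- the generation property -/
def Gen (G : Subgroup (M →ₗ[ZMod p] M)ˣ) (s t : M →ₗ[ZMod p] M) : Prop :=
  ∀ H : Subgroup (M →ₗ[ZMod p] M)ˣ, US G s ≤ H → US G t ≤ H → G ≤ H

theorem Ctx.caseIb (c : Ctx G R r) {s t : M →ₗ[ZMod p] M} (f : FP G R s t) (gen : Gen G s t)
    {Q : Subgroup (M →ₗ[ZMod p] M)ˣ} (hQ : Inv p G R Q) {a : M →ₗ[ZMod p] M} (ha : MinQ G a)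
    (haQ : InG Q (1 + a)) : cn (zS f.std) a ≠ a := by
  intro hz
  by_cases hc : G ≤ centralizer {zS f.std}
  · have key : ∀ s t, ∀ f : FP G R s t, cn (zS f.std) a = a → G ≤ centralizer {zS f.std} →
        US G s ≤ centralizer {uS a ha.qn.sq} := by
      intro s t f hz hc u hu
      obtain ⟨b, hb, rfl⟩ := exists_of_mem_EG (mem_EG_of_comm hp3 f.std hu
        (by rw [hc hu.1 _ rfl, mul_inv_cancel_right]))
      rw [Subgroup.mem_centralizer_singleton_iff, uS_commute_iff]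
      exact (comm_ES (two_ne hp3) f.hs ha.qn (f.comm_of_cn_z hp3 hQ ha haQ hz).symm hb).symm
    have := gen _ (key s t f hz hc) (key t s f.symm (zS_symm f.std ▸ hz) (zS_symm f.std ▸ hc))
    obtain ⟨b, hb, h⟩ := exists_partner hp3 c.hU ha
    have e := uS_commute_iff.1 (Subgroup.mem_centralizer_singleton_iff.1 (this hb.qn.uS_mem))
    exact h.ne (by rw [← h.sts, ← e, mul_assoc, h.ss, mul_zero])
  set H := G ⊓ centralizer {zS f.std} with hH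
  have hRH : R ≤ normalizer (H : Set (M →ₗ[ZMod p] M)ˣ) :=
    CfsgH2.le_normalizer_inf c.norm fun ρ hρ => CfsgL0.mem_normalizer_of_conj_mem fun x hx => by
      rw [Subgroup.mem_centralizer_singleton_iff] at hx ⊢
      have e := f.mz.2 ρ hρ
      calc ρ * x * ρ⁻¹ * zS f.std = ρ * x * ρ⁻¹ * (zS f.std * ρ) * ρ⁻¹ := by group
        _ = ρ * (x * zS f.std) * ρ⁻¹ := by rw [← e]; group
        _ = _ := by rw [hx, ← mul_assoc, e]; group
  have key : ∀ {b : M →ₗ[ZMod p] M} (hb : MinQ G b), cn (zS f.std) b = b → uS b hb.qn.sq ∈ H :=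
    fun hb e => ⟨hb.qn.uS_mem, uS_mem_centralizer _ (by rintro _ rfl; exact e)⟩
  have h1 := c.ih H R (Q ⊓ H) (CfsgH1.card_lt_of_lt (lt_of_le_of_ne inf_le_left
      fun e => hc (e.ge.trans inf_le_right))) c.hR
    (c.cop.coprime_dvd_left (Subgroup.card_dvd_of_le inf_le_left)) hRH (hQ.inf inf_le_left hRH)
    a ha.qn.sq ⟨uS_mem_of_inG _ haQ, key ha hz⟩
  haveI : Fact (Nat.Prime 2) := ⟨Nat.prime_two⟩
  obtain ⟨b, hb, h, hfb⟩ := exists_fixed_partner hp3 c.hU (r := 2)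
    (R := Subgroup.zpowers (zS f.std)) (by
      rintro ⟨_, k, rfl⟩
      refine ⟨1, Subtype.ext ?_⟩
      show (zS f.std ^ k) ^ 2 ^ 1 = 1
      rw [pow_one, ← zpow_natCast, zpow_comm, zpow_natCast, pow_two, zS_mul_zS, one_zpow])
    (Subgroup.zpowers_le.2 (Subgroup.le_normalizer f.mz.1)) ha (by
      obtain ⟨n, hn⟩ := (isPGroup_of_unip (unip_US (G := G) a)).exists_card_eq
      rw [hn]
      exact ((Nat.coprime_primes hp.out Nat.prime_two).2 (by omega)).pow_left n)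
    (fun ρ hρ => cn_eq_of_comm ha.qn.sq ((Subgroup.zpowers_le (H := centralizer {uS a ha.qn.sq})).2
      (Subgroup.mem_centralizer_singleton_iff.2 ((key ha hz).2 _ rfl)) hρ _ rfl).symm)
  exact not_opp_of_norm' (unip_of_isPGroup CfsgL0.isPGroup_pCoreOf) _
    (CfsgL0.le_normalizer_pCoreOf (key hb (hfb _ (Subgroup.mem_zpowers _)))) ⟨_, h1, rfl⟩
    h.opp.symm

theorem FP.sing_elt {s t : M →ₗ[ZMod p] M} (f : FP G R s t) {Z : Subgroup (M →ₗ[ZMod p] M)ˣ}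
    (hZ : Inv p G R Z) (hc : Comm Z Z) {y : (M →ₗ[ZMod p] M)ˣ} (hy : y ∈ Z ⊓ US G s) :
    ∃ η, (y : M →ₗ[ZMod p] M) = 1 + η ∧ D1 s t η ∧ η * η = 0 ∧ (η ≠ 0 → MinQ G η) := by
  have h2 := two_ne hp3
  have h := f.std
  obtain ⟨c, hc', y', hy', e, e1, e2⟩ := exists_decomp (by omega) (hZ.pg.to_le inf_le_left)
    (zS_mul_zS h) (CfsgH2.le_normalizer_inf (A := Subgroup.zpowers (zS h))
      (Subgroup.zpowers_le.2 (hZ.nC f.mz)) (Subgroup.zpowers_le.2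
        (mem_normalizer_US (Subgroup.le_normalizer f.mz.1) (cn_zS_s h))) (Subgroup.mem_zpowers _)) hy
  obtain ⟨b, hb, rfl⟩ := exists_of_mem_EG (mem_EG_of_comm hp3 h hc'.2 e1)
  obtain rfl := f.factA hp3 hZ hb ⟨_, hc'.1, rfl⟩
  rw [uS_eq_one.2 rfl, one_mul] at e
  subst e
  obtain ⟨η, β, d1, d2, hβ, e3, e4⟩ := exists_D1 hp3 h hy.2 e2
  have k : ∀ a ∈ Z, ∀ b ∈ Z, (a : M →ₗ[ZMod p] M) * cn (nS h) b = cn (nS h) b * a := fun a ha b hb => by
    have := congrArg Units.val (hc a ha _ (conj_mem_of_mem_normalizer (hZ.nC f.mn) hb))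
    rwa [Units.val_mul a, Units.val_mul _ a, cn_val] at this
  have k1 := k _ hy.1 _ hy.1
  have k2 := k _ hy.1 _ (inv_mem hy.1)
  have k3 := k _ (inv_mem hy.1) _ hy.1
  have k4 := k _ (inv_mem hy.1) _ (inv_mem hy.1)
  simp only [e3, e4, cn_add, cn_sub, cn_one', d1.cn_nS h] at k1 k2 k3 k4
  have k5 : η * (η * t - t * η) - (η * t - t * η) * η = 0 := by
    refine eq_zero_of_add_self h2 (eq_zero_of_add_self h2 ?_)
    generalize η * t - t * η = ζ at *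
    generalize cn (nS h) β = γ at *
    simp only [mul_add, add_mul, mul_sub, sub_mul, one_mul, mul_one] at k1 k2 k3 k4
    linear_combination (norm := abel) k1 - k2 - k3 + k4
  have k6 := congrArg (fun x => s * (t * (x * s))) k5
  simp only [mul_sub, sub_mul, mul_assoc, d1.ηs, d1.ηηts, d1.stηη, mul_zero, zero_mul,
    sub_zero] at k6
  have k7 : η * t * η = 0 := by
    have k6' : ∀ x, η * (η * x) = 0 := fun x => by rw [← mul_assoc, k6, zero_mul]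
    simp only [mul_sub, sub_mul, mul_assoc, k6, k6', mul_zero] at k5
    refine eq_zero_of_add_self h2 ?_
    rw [mul_assoc]
    linear_combination (norm := abel) -k5
  rw [k6] at hβ
  rw [eq_zero_of_add_self h2 hβ, add_zero] at e3
  refine ⟨η, e3, d1, k6, fun h0 => f.ht.of_le (qn_of_sq k6 ⟨_, hy.2.1, e3⟩) h0 ?_⟩
  rw [← rk_conj (nS h) η]
  exact (congrArg rk (d1.cn_nS h)).le.trans (rk_comm_le k7)

theorem Ctx.caseIa (c : Ctx G R r) {s t : M →ₗ[ZMod p] M} (f : FP G R s t) (gen : Gen G s t)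
    {Q₀ : Subgroup (M →ₗ[ZMod p] M)ˣ} (hQ₀ : Inv p G R Q₀) : NoRoot G Q₀ := by
  have h2 := two_ne hp3
  have h3 := three_lt hp3
  have h := f.std
  obtain ⟨Q, hQ, hle, hmax⟩ := exists_max_member (Inv p G R) hQ₀
  intro c₀ hc₀ hc₀Q
  replace hc₀Q := hc₀Q.mono hle
  let Δ : Set (M →ₗ[ZMod p] M) :=
    {a | MinQ G a ∧ InG Q (1 + a) ∧ ∀ b, MinQ G b → InG Q (1 + b) → a * b = b * a}
  have hUQ := unip_of_isPGroup hQ.pg
  have no : ∀ {a b}, InG Q (1 + a) → InG Q (1 + b) → ¬ Opp a b := by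
    rintro a b ⟨x, hx, e⟩ ⟨y, hy, e'⟩
    simpa only [e, e', add_sub_cancel_left] using not_opp_of_unip hUQ hx hy
  obtain ⟨a₀, ha₀⟩ : Δ.Nonempty := by
    obtain ⟨N, hN, hNQ⟩ := hUQ
    have hNQ' : ∀ {a}, InG Q (1 + a) → a ∈ N := by
      rintro a ⟨x, hx, e⟩
      simpa only [e, add_sub_cancel_left] using hNQ x hx
    by_contra hne
    have : ∀ j, ∃ a, MinQ G a ∧ InG Q (1 + a) ∧ a ∈ N ^ (j + 1) := by
      intro j
      induction j with
      | zero => exact ⟨c₀, hc₀, hc₀Q, by simpa using hNQ' hc₀Q⟩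
      | succ j ih =>
        obtain ⟨a, ha, haQ, haN⟩ := ih
        obtain ⟨b, hb, hbQ, hab⟩ : ∃ b, MinQ G b ∧ InG Q (1 + b) ∧ a * b ≠ b * a := by
          by_contra hc
          push Not at hc
          exact hne ⟨a, ha, haQ, hc⟩
        have o1 := sts_eq_zero h2 ha hb.qn (no haQ hbQ)
        have o2 := sts_eq_zero h2 hb ha.qn (no hbQ haQ)
        have x1 := uS_mem_of_inG ha.qn.sq haQ
        have x2 := uS_mem_of_inG hb.qn.sq hbQ
        refine ⟨_, (comm_case ha hb o1 o2 (sub_ne_zero.2 hab)).1,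
          ⟨_, mul_mem (mul_mem (mul_mem x1 x2) (inv_mem x1)) (inv_mem x2),
            uS_comm ha.qn.sq hb.qn.sq o1 o2⟩, sub_mem ?_ ?_⟩
        · rw [pow_succ]; exact Submodule.mul_mem_mul haN (hNQ' hbQ)
        · rw [pow_succ' _ (j + 1)]; exact Submodule.mul_mem_mul (hNQ' hbQ) haN
    obtain ⟨n, hn⟩ := hN.nil
    obtain ⟨a, ha, -, haN⟩ := this n
    rw [pow_eq_bot_mono hn (Nat.le_succ n)] at haN
    exact ha.ne haN
  let Z : Subgroup (M →ₗ[ZMod p] M)ˣ := ⨆ A ∈ EG G '' Δ, A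
  have hΔZ : ∀ a ∈ Δ, EG G a ≤ Z := fun a ha => le_biSup_self (S := EG G '' Δ) ⟨a, ha, rfl⟩
  have hZc : ∀ b, MinQ G b → InG Q (1 + b) → Comm Z (EG G b) := fun b hb hbQ =>
    comm_iSup_left (by
      rintro _ ⟨a, ha, rfl⟩
      by_contra hc
      exact comm_ne_zero h2 h3 ha.1 hb (no ha.2.1 hbQ) hc ha.1.qn.mem_ES ha.1.ne hb.qn.mem_ES hb.ne
        (sub_eq_zero.2 (ha.2.2 b hb hbQ)))
  have hZZ : Comm Z Z := comm_iSup_left (by
    rintro _ ⟨a, ha, rfl⟩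
    exact (hZc a ha.1 ha.2.1).symm)
  have hΔ : ∀ g ∈ normalizer (G : Set (M →ₗ[ZMod p] M)ˣ), g ∈ normalizer (Q : Set (M →ₗ[ZMod p] M)ˣ) →
      ∀ a ∈ Δ, cn g a ∈ Δ := by
    intro g hg hg' a ha
    refine ⟨minQ_cn ha.1 hg, by simpa only [cn_add, cn_one'] using InG.cn ha.2.1 hg', fun b hb hbQ => ?_⟩
    have := congrArg (cn g) (ha.2.2 _ (minQ_cn hb (inv_mem hg))
      (by simpa only [cn_add, cn_one'] using InG.cn hbQ (inv_mem hg')))
    rwa [cn_mul' g a, cn_mul' g _ a, cn_cn_inv] at this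
  have hZn : ∀ g ∈ normalizer (G : Set (M →ₗ[ZMod p] M)ˣ), g ∈ normalizer (Q : Set (M →ₗ[ZMod p] M)ˣ) →
      g ∈ normalizer (Z : Set (M →ₗ[ZMod p] M)ˣ) := by
    intro g hg hg'
    refine CfsgL0.mem_normalizer_of_conj_mem fun x hx => ?_
    refine (show cj g Z ≤ Z from ?_) (conj_mem_cj hx)
    simp only [Z, cj_iSup]
    refine iSup₂_le ?_
    rintro _ ⟨a, ha, rfl⟩
    rw [cj_EG' hg]
    exact hΔZ _ (hΔ g hg hg' a ha)
  have hZ : Inv p G R Z := by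
    refine ⟨iSup₂_le (by rintro _ ⟨a, -, rfl⟩; exact EG_le a), ?_,
      fun g hg => hZn g (c.norm hg) (hQ.nR hg),
      fun g hg => hZn g (Subgroup.le_normalizer hg.1) (hQ.nC hg)⟩
    refine (CfsgL0.iSup_induction_finite (fun H => H ≤ Z ∧ IsPGroup p H) _ ⟨bot_le, IsPGroup.of_bot⟩
      (fun A => ?_) fun H K hH hK => ⟨sup_le hH.1 hK.1, hH.2.to_sup_of_normal_right' hK.2
        fun x hx => cj_eq_self_iff.1 ((hZZ.mono hH.1 hK.1).cj_eq hx)⟩).2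
    by_cases hA : A ∈ EG G '' Δ
    · rw [iSup_pos hA]
      obtain ⟨a, ha, rfl⟩ := hA
      exact ⟨hΔZ a ha, isPGroup_of_unip (unip_EG a)⟩
    · rw [iSup_neg hA]; exact ⟨bot_le, IsPGroup.of_bot⟩
  have hZQ : Z ≤ Q := by
    refine le_sup_right.trans (hmax (Q ⊔ Z) ⟨sup_le hQ.le hZ.le, hQ.pg.to_sup_of_normal_right' hZ.pg
      fun g hg => hZn g (Subgroup.le_normalizer (hQ.le hg)) (Subgroup.le_normalizer hg),
      CfsgH2.le_normalizer_sup hQ.nR hZ.nR, CfsgH2.le_normalizer_sup hQ.nC hZ.nC⟩ le_sup_left).le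
  have elt : ∀ η, InG (Z ⊓ US G s) (1 + η) → D1 s t η ∧ η * η = 0 ∧ (η ≠ 0 → MinQ G η) := by
    rintro η ⟨y, hy, e⟩
    obtain ⟨η', e', k⟩ := f.sing_elt hp3 hZ hZZ hy
    rwa [← add_left_cancel (e'.symm.trans e)]
  have prod : ∀ η θ, InG (Z ⊓ US G s) (1 + η) → InG (Z ⊓ US G s) (1 + θ) → η * θ = 0 := by
    intro η θ h1 h2
    have h3 := h1.mul h2
    rw [show (1 + η) * (1 + θ) = 1 + (η + θ + η * θ) by noncomm_ring] at h3
    have d := ((elt _ h3).1.sub ((elt _ h1).1.add (elt _ h2).1))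
    rw [add_sub_cancel_left] at d
    have d' := (elt _ h1).1.mul (elt _ h2).1
    have := d.eq
    rw [d'.l, d'.r] at this
    exact add_eq_left.1 this
  let N : Submodule (ZMod p) (M →ₗ[ZMod p] M) :=
    { carrier := {η | InG (Z ⊓ US G s) (1 + η)}
      zero_mem' := by simpa using InG.one _
      add_mem' := fun {η θ} h1 h2 => by
        have h3 := h1.mul h2
        rwa [show (1 + η) * (1 + θ) = 1 + (η + θ + η * θ) by noncomm_ring, prod _ _ h1 h2,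
          add_zero] at h3
      smul_mem' := fun a η h1 => (qn_of_sq (elt _ h1).2.1 h1).fam a }
  have hN : ∀ η, η ∈ N ↔ InG (Z ⊓ US G s) (1 + η) := fun _ => Iff.rfl
  have hNr : ∀ η ∈ N, η ≠ 0 → MinQ G η ∧ ES G η ≤ N := by
    intro η hη h0
    obtain ⟨d, sq, m⟩ := elt η hη
    have m := m h0
    have hηZ := uS_mem_of_inG sq (hη.mono inf_le_left)
    have hηΔ : η ∈ Δ := ⟨m, ⟨_, hZQ hηZ, rfl⟩, fun b hb hbQ =>
      uS_commute_iff.1 (hZc b hb hbQ _ hηZ _ (uS_mem_EG hb.qn.mem_ES))⟩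
    refine ⟨m, fun a ha => ⟨uS a ha.1.sq, ⟨hΔZ η hηΔ (uS_mem_EG ha), ha.1.uS_mem, ?_⟩, rfl⟩⟩
    have k1 := cn_mem_ES (Subgroup.le_normalizer f.mz.1) ha
    rw [d.cn_zS h, ES_neg] at k1
    have k2 : a + cn (zS h) a = 0 := by
      by_contra k0
      have k3 := add_mem ha k1
      exact c.caseIb hp3 f gen hZ (m.of_mem_ES k3 k0).1 ⟨_, hΔZ η hηΔ (uS_mem_EG k3), rfl⟩
        (by rw [cn_add, cn_zS_zS, add_comm])
    refine mem_UG.2 ((mem_NS_std h).2 (D1.n3 h ?_))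
    rw [uS_val, add_sub_cancel_left]
    exact D1.of_cn_zS hp3 h (mul_eq_zero_of_range_le ha.2.2.1 d.sη)
      (mul_eq_zero_of_ker_le ha.2.1 d.ηs) (eq_neg_of_add_eq_zero_right k2)
  obtain ⟨θ, hθ, hθ0⟩ : ∃ θ ∈ N, θ ≠ 0 := by
    obtain ⟨a, ha, hne⟩ : ∃ a ∈ Δ, s * a ≠ a * s := by
      by_contra hc
      push Not at hc
      have k1 := hc a₀ ha₀
      have k2 := congrArg (cn (nS h)) (hc _ (hΔ _ (inv_mem (Subgroup.le_normalizer f.mn.1))
        (inv_mem (hQ.nC f.mn)) a₀ ha₀))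
      rw [cn_mul' _ s, cn_mul' _ _ s, cn_cn_inv, cn_nS_s, neg_mul, mul_neg, neg_inj] at k2
      refine c.caseIb hp3 f gen hQ ha₀.1 ha₀.2.1 (cn_eq_iff.2 ?_)
      simp only [zS_val, mul_sub, sub_mul, mul_add, add_mul, mul_assoc, k1, k2, one_mul, mul_one]
      simp only [← mul_assoc, k1, k2]
    have ho := not_opp_of_norm' hUQ _ (hQ.nC f.ms) ha.2.1
    have o1 := sts_eq_zero h2 f.hs ha.1.qn ho
    have o2 := sts_eq_zero h2 ha.1 f.hs.qn fun h => ho h.symm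
    have hx := hΔZ a ha (uS_mem_EG ha.1.qn.mem_ES)
    have hm := mul_mem (conj_mem_of_mem_normalizer (hZ.nC f.ms) hx) (inv_mem hx)
    have e := uS_comm h.ss ha.1.qn.sq o1 o2
    refine ⟨_, ⟨_, ⟨hm, hZ.le hm, mem_UG.2 ?_⟩, e⟩, sub_ne_zero.2 hne⟩
    rw [e, add_sub_cancel_left]
    refine ⟨by rw [mul_sub, h.ss', ← mul_assoc, o1, sub_zero],
      by rw [sub_mul, o1, mul_assoc, h.ss, mul_zero, sub_zero], fun v hv => ⟨a v, by simp [hv]⟩⟩
  letI := cjAct (M →ₗ[ZMod p] M)ˣ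
  have hNn : ∀ g ∈ normalizer ((Z ⊓ US G s : Subgroup _) : Set (M →ₗ[ZMod p] M)ˣ), ∀ x ∈ N,
      cn g x ∈ N := fun g hg x hx => by
    simpa only [hN, cn_add, cn_one'] using InG.cn hx hg
  have hS : ∀ g ∈ normalizer (G : Set (M →ₗ[ZMod p] M)ˣ),
      g ∈ normalizer ((Z ⊓ US G s : Subgroup _) : Set (M →ₗ[ZMod p] M)ˣ) →
      ∀ B ∈ {B | ∃ x ∈ N, x ≠ 0 ∧ B = EG G x}, cj g B ∈ {B | ∃ x ∈ N, x ≠ 0 ∧ B = EG G x} := by
    rintro g hg hg' _ ⟨x, hx, hx0, rfl⟩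
    exact ⟨_, hNn g hg' x hx, fun e => hx0 (cn_eq_zero.1 e), cj_EG' hg⟩
  obtain ⟨_, ⟨x, hx, hx0, rfl⟩, hfix⟩ := fix_of_trans c.hR
    (G ⊓ normalizer ((Z ⊓ US G s : Subgroup _) : Set (M →ₗ[ZMod p] M)ˣ))
    {B | ∃ x ∈ N, x ≠ 0 ∧ B = EG G x} (x₀ := EG G θ)
    (fun g hg => hS g (Subgroup.le_normalizer hg.1) hg.2 _ ⟨θ, hθ, hθ0, rfl⟩)
    (by
      rintro _ ⟨x, hx, hx0, rfl⟩
      obtain ⟨g, hg, k1, k2⟩ := sing_trans hp3 (fun a ha b hb => prod a b ha hb) hNr c.hU hθ hθ0 hx hx0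
      refine ⟨g, ⟨hg, CfsgL0.mem_normalizer_of_conj_mem fun y hy => inG_coe.1 ?_⟩, k2⟩
      have := k1 (y - 1) ⟨y, hy, by abel⟩
      rwa [hN, ← cn_val_sub, add_sub_cancel] at this)
    (fun ρ hρ => hS ρ (c.norm hρ) (CfsgH2.le_normalizer_inf hZ.nR
      (fun ρ hρ => mem_normalizer_US (c.norm hρ) (f.fs ρ hρ)) hρ))
    (c.cop.coprime_dvd_left (Subgroup.card_dvd_of_le inf_le_left))
  exact c.factA hp3 (hNr x hx hx0).1 hfix hZ (hx.mono inf_le_left)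

end CfsgH3.FQ
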