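import Cfsg.Agent.H3.FQ5

/-! The rootless case, and reduction to one component. -/

set_option autoImplicit false
set_option linter.unusedSectionVars false
set_option linter.style.haveILetI false
set_option maxHeartbeats 400000

namespace CfsgH3.FQ

open CfsgH9 LinearMap Cfsg
open Subgroup (normalizer centralizer)
open scoped commutatorElement

section Grp
variable {Γ : Type*} [Group Γ] [Finite Γ] {p : ℕ} [hp : Fact p.Prime]

theorem exists_hat {G R L : Subgroup Γ} (hL : L ≤ G) (hR : R ≤ normalizer (G : Set Γ))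
    (hti : ∀ ρ ∈ R, ρ ∈ normalizer (L : Set Γ) ∨ Comm L (cj ρ L)) {c : Γ} (hc : c ∈ L)
    (hc' : c ∈ centralizer ((R ⊓ normalizer (L : Set Γ) : Subgroup Γ) : Set Γ)) :
    ∃ d ∈ centralizer (L : Set Γ), c * d ∈ G ⊓ centralizer (R : Set Γ) := by
  classical
  letI : Fintype Γ := Fintype.ofFinite Γ
  let O : Finset Γ := Finset.univ.filter fun x => ∃ ρ ∈ R, x = ρ * c * ρ⁻¹
  have hO : ∀ x, x ∈ O ↔ ∃ ρ ∈ R, x = ρ * c * ρ⁻¹ := fun x => by simp [O]
  have k1 : ∀ x ∈ O, x ≠ c → x ∈ centralizer (L : Set Γ) := by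
    intro x hx hne
    obtain ⟨ρ, hρ, rfl⟩ := (hO x).1 hx
    rcases hti ρ hρ with h | h
    · exact absurd (by rw [hc' ρ ⟨hρ, h⟩, mul_inv_cancel_right]) hne
    · exact fun y hy => h y hy _ (conj_mem_cj hc)
  have k2 : ∀ σ ∈ R, ∀ x ∈ O, σ * x * σ⁻¹ ∈ O := by
    intro σ hσ x hx
    obtain ⟨ρ, hρ, rfl⟩ := (hO x).1 hx
    exact (hO _).2 ⟨σ * ρ, mul_mem hσ hρ, by group⟩
  have comm : {x | x ∈ O.val}.Pairwise Commute := by
    intro x hx y hy hne
    obtain ⟨ρ, hρ, rfl⟩ := (hO x).1 hx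
    have := k1 _ (k2 _ (inv_mem hρ) y hy) (fun e => hne (by rw [← e]; group)) c hc
    calc ρ * c * ρ⁻¹ * y = ρ * (c * (ρ⁻¹ * y * ρ⁻¹⁻¹)) * ρ⁻¹ := by group
      _ = y * (ρ * c * ρ⁻¹) := by rw [this]; group
  have hcO : c ∈ O.val := (hO c).2 ⟨1, one_mem _, by simp⟩
  have cg : ∀ (s t : Multiset Γ) (_ : s = t) c1 c2, s.noncommProd c1 = t.noncommProd c2 := by
    rintro _ _ rfl _ _; rfl
  have em := Multiset.mul_noncommProd_erase O.val hcO comm
  refine ⟨_, ?_, em.symm ▸ (⟨?_, fun σ hσ => ?_⟩ :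
    O.val.noncommProd comm ∈ G ⊓ centralizer (R : Set Γ))⟩
  · refine Subgroup.multiset_noncommProd_mem _ _ _ fun x hx => ?_
    rw [O.nodup.mem_erase_iff] at hx
    exact k1 x hx.2 hx.1
  · refine Subgroup.multiset_noncommProd_mem _ _ _ fun x hx => ?_
    obtain ⟨ρ, hρ, rfl⟩ := (hO x).1 hx
    exact conj_mem_of_mem_normalizer (hR hρ) (hL hc)
  · have := Multiset.map_noncommProd O.val comm (MulAut.conj σ)
    rw [cg (O.val.map (MulAut.conj σ)) O.val ?_ _ comm, MulAut.conj_apply, mul_inv_eq_iff_eq_mul] at this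
    · exact this
    have : O.map ⟨MulAut.conj σ, (MulAut.conj σ).injective⟩ = O :=
      Finset.eq_of_subset_of_card_le (fun x hx => by
        obtain ⟨y, hy, rfl⟩ := Finset.mem_map.1 hx
        exact k2 σ hσ y hy) (by rw [Finset.card_map])
    exact congrArg Finset.val this

theorem exists_proj {G R L P : Subgroup Γ} (hL : L ≤ G) (hR : R ≤ normalizer (G : Set Γ))
    (hti : ∀ ρ ∈ R, ρ ∈ normalizer (L : Set Γ) ∨ Comm L (cj ρ L)) (hP : Inv p G R P) {x y : Γ}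
    (hx : x ∈ L) (hxp : x ^ p = 1) (hy : y ∈ P) (hxy : x⁻¹ * y ∈ centralizer (L : Set Γ)) :
    ∃ Q, Inv p L (R ⊓ normalizer (L : Set Γ)) Q ∧ x ∈ Q := by
  let K : Subgroup Γ :=
    { carrier := {g | g ∈ L ∧ ∃ e ∈ centralizer (L : Set Γ), g * e ∈ P}
      one_mem' := ⟨one_mem _, 1, one_mem _, by simp⟩
      mul_mem' := by
        rintro a b ⟨a1, e, he, a2⟩ ⟨b1, e', he', b2⟩
        refine ⟨mul_mem a1 b1, e * e', mul_mem he he', ?_⟩
        have := mul_mem a2 b2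
        rwa [mul_assoc, ← mul_assoc e, ← he b b1, mul_assoc, ← mul_assoc] at this
      inv_mem' := by
        rintro a ⟨a1, e, he, a2⟩
        refine ⟨inv_mem a1, e⁻¹, inv_mem he, ?_⟩
        rw [← mul_inv_rev, ← he a a1]; exact inv_mem a2 }
  have hxK : x ∈ K := ⟨hx, _, hxy, by simpa using hy⟩
  haveI : Group.IsNilpotent K := by
    refine Group.of_quotient_center_nilpotent (IsPGroup.isNilpotent (p := p) fun g => ?_)
    obtain ⟨⟨g, g1, e, he, g2⟩, rfl⟩ := QuotientGroup.mk_surjective g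
    obtain ⟨k, hk⟩ := hP.pg ⟨_, g2⟩
    refine ⟨k, ?_⟩
    rw [← QuotientGroup.mk_pow, QuotientGroup.eq_one_iff, Subgroup.mem_center_iff]
    intro h
    have e1 : (g * e) ^ p ^ k = 1 := congrArg Subtype.val hk
    rw [(show Commute g e from he g g1).mul_pow, mul_eq_one_iff_eq_inv] at e1
    refine Subtype.ext ?_
    show h * g ^ p ^ k = g ^ p ^ k * h
    rw [e1]
    exact inv_mem (pow_mem he _) _ h.2.1
  have hn : ∀ g, (∀ a ∈ K, g * a * g⁻¹ ∈ K) → g ∈ normalizer (CfsgL0.pCoreOf p K : Set Γ) :=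
    fun g hg => CfsgL0.normalizer_le_normalizer_pCoreOf (CfsgL0.mem_normalizer_of_conj_mem hg)
  refine ⟨CfsgL0.pCoreOf p K, ⟨CfsgL0.pCoreOf_le.trans fun _ h => h.1, CfsgL0.isPGroup_pCoreOf,
    fun ρ hρ => hn ρ ?_, fun c hc => hn c ?_⟩, ⟨x, hxK⟩, ?_, rfl⟩
  · rintro a ⟨a1, e, he, a2⟩
    refine ⟨conj_mem_of_mem_normalizer hρ.2 a1, ρ * e * ρ⁻¹, conj_mem_of_mem_normalizer
      (CfsgH2.le_normalizer_centralizer le_rfl hρ.2) he, ?_⟩
    simpa [mul_assoc] using conj_mem_of_mem_normalizer (hP.nR hρ.1) a2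
  · rintro a ⟨a1, e, he, a2⟩
    obtain ⟨d, hd, hcd⟩ := exists_hat hL hR hti hc.1 hc.2
    refine ⟨mul_mem (mul_mem hc.1 a1) (inv_mem hc.1), d * e * d⁻¹,
      mul_mem (mul_mem hd he) (inv_mem hd), ?_⟩
    have := conj_mem_of_mem_normalizer (hP.nC hcd) a2
    convert this using 1
    have e1 := mul_mem (mul_mem hd he) (inv_mem hd) _ (inv_mem hc.1)
    rw [mul_assoc (c * a), e1, mul_assoc c d, ← mul_assoc d, ← hd a a1]
    group
  · obtain ⟨S, hS⟩ := IsPGroup.exists_le_sylow (p := p) (P := Subgroup.zpowers (⟨x, hxK⟩ : K)) (by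
      rintro ⟨_, k, rfl⟩
      refine ⟨1, Subtype.ext (Subtype.ext ?_)⟩
      show (x ^ k) ^ p ^ 1 = 1
      rw [pow_one, ← zpow_natCast, zpow_comm, zpow_natCast, hxp, one_zpow])
    haveI := Sylow.normal_of_normalizerCondition Group.normalizerCondition_of_isNilpotent S
    exact CfsgL0.le_pCore S.isPGroup' (hS (Subgroup.mem_zpowers _))

end Grp

variable {p : ℕ} [hp : Fact p.Prime] {M : Type*} [AddCommGroup M] [Module (ZMod p) M] [Finite M]
  {G R : Subgroup (M →ₗ[ZMod p] M)ˣ} {r : ℕ} [hr : Fact r.Prime]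

/-- the subgroup generated by the quadratic elements -/
def QG (P : Subgroup (M →ₗ[ZMod p] M)ˣ) : Subgroup (M →ₗ[ZMod p] M)ˣ :=
  Subgroup.closure {x | x ∈ P ∧ ∃ a ha, x = uS a ha}

theorem QG_le (P : Subgroup (M →ₗ[ZMod p] M)ˣ) : QG P ≤ P :=
  (Subgroup.closure_le _).2 fun _ h => h.1

theorem normalizer_le_QG (P : Subgroup (M →ₗ[ZMod p] M)ˣ) :
    normalizer (P : Set (M →ₗ[ZMod p] M)ˣ) ≤ normalizer (QG P : Set (M →ₗ[ZMod p] M)ˣ) := by
  intro g hg
  refine CfsgL0.mem_normalizer_of_conj_mem fun x hx => (show cj g (QG P) ≤ QG P from ?_) (conj_mem_cj hx)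
  rw [QG, cj_closure]
  refine Subgroup.closure_mono ?_
  rintro _ ⟨_, ⟨hx, a, ha, rfl⟩, rfl⟩
  exact ⟨conj_mem_of_mem_normalizer hg hx, cn g a, by rw [← cn_mul', ha, cn_zero], conj_uS_eq _ _ _⟩

theorem mem_centralizer_QG {P : Subgroup (M →ₗ[ZMod p] M)ˣ} {g : (M →ₗ[ZMod p] M)ˣ} :
    g ∈ centralizer (QG P : Set (M →ₗ[ZMod p] M)ˣ) ↔
      ∀ a, ∀ ha : a * a = 0, uS a ha ∈ P → uS a ha * g = g * uS a ha := by
  rw [QG, Subgroup.centralizer_closure, Subgroup.mem_centralizer_iff]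
  exact ⟨fun h a ha hP => h _ ⟨hP, a, ha, rfl⟩, by rintro h _ ⟨hP, a, ha, rfl⟩; exact h a ha hP⟩

variable (hp3 : 3 < p)
include hp3

theorem FP.US_le (hRG : R ≤ normalizer (G : Set (M →ₗ[ZMod p] M)ˣ)) {s t : M →ₗ[ZMod p] M}
    (f : FP G R s t) (hno : ∀ Q, Inv p G R Q → NoRoot G Q) {P : Subgroup (M →ₗ[ZMod p] M)ˣ}
    (hP : Inv p G R P) : US G s ≤ centralizer (QG P : Set (M →ₗ[ZMod p] M)ˣ) := by
  have h2 := two_ne hp3
  have h := f.std
  have hp2 : p ≠ 2 := by omega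
  have hUP := unip_of_isPGroup hP.pg
  have cs : ∀ a, ∀ ha : a * a = 0, uS a ha ∈ P → a * s = s * a := fun a ha hx =>
    comm_of_noRoot hp3 hP.le hUP (hno P hP) f.hs (hP.nC f.ms) ha ⟨_, hx, rfl⟩
  have ct : ∀ a, ∀ ha : a * a = 0, uS a ha ∈ P → a * t = t * a := fun a ha hx =>
    comm_of_noRoot hp3 hP.le hUP (hno P hP) f.ht (hP.nC f.mt) ha ⟨_, hx, rfl⟩
  set C := centralizer (QG P : Set (M →ₗ[ZMod p] M)ˣ) with hC
  have hEC : EG G s ≤ C := fun g hg => mem_centralizer_QG.2 fun a ha hx => by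
    obtain ⟨b, hb, rfl⟩ := exists_of_mem_EG hg
    exact uS_commute_iff.2 (comm_ES h2 f.hs (qn_of_sq ha ⟨_, hP.le hx, rfl⟩) (cs a ha hx) hb)
  have hzC : zS h ∈ C := zS_mem h (hEC (uS_mem_EG f.hs.qn.mem_ES))
    (mem_centralizer_QG.2 fun a ha hx => uS_commute_iff.2 (ct a ha hx))
  have hnU : QG P ≤ normalizer (US G s : Set (M →ₗ[ZMod p] M)ˣ) := fun g hg =>
    mem_normalizer_US (Subgroup.le_normalizer (hP.le (QG_le P hg)))
      (cn_eq_of_comm h.ss (hEC (uS_mem_EG f.hs.qn.mem_ES) g hg))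
  have hUp : IsPGroup p (US G s) := isPGroup_of_unip (unip_US s)
  have hzU := mem_normalizer_US (Subgroup.le_normalizer f.mz.1) (cn_zS_s h)
  by_contra hle
  obtain ⟨u, hu, huC, hcm⟩ := exists_mem_not_mem_commutator_mem
    ((hP.pg.to_le (QG_le P)).to_sup_of_normal_right' hUp hnU).isNilpotent le_sup_right le_sup_left
    hnU hle
  obtain ⟨c, hc, y, hy, rfl, e1, e2⟩ := exists_decomp hp2 hUp (zS_mul_zS h) hzU hu
  have hcC := hEC (mem_EG_of_comm hp3 h hc e1)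
  refine huC (mul_mem hcC (mem_centralizer_QG.2 fun a ha hx => ?_))
  have hx' : uS a ha ∈ QG P := Subgroup.subset_closure ⟨hx, a, ha, rfl⟩
  have hv : y * uS a ha * y⁻¹ * (uS a ha)⁻¹ ∈ C ⊓ US G s := by
    refine Subgroup.mem_inf.2 ⟨?_, by
      simpa only [mul_assoc] using mul_mem hy (conj_mem_of_mem_normalizer (hnU hx') (inv_mem hy))⟩
    have := mul_mem (mul_mem (inv_mem hcC) (hcm _ hx')) hcC
    convert this using 1
    rw [commutatorElement_def, mul_assoc _ _ c, mul_assoc _ _ c, inv_mem hx' |> hcC _]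
    group
  obtain ⟨c', hc', y', hy', e3, e4, e5⟩ := exists_decomp hp2 (hUp.to_le inf_le_right) (zS_mul_zS h)
    (CfsgH2.le_normalizer_inf (A := Subgroup.zpowers (zS h))
      (Subgroup.zpowers_le.2 (Subgroup.le_normalizer hzC)) (Subgroup.zpowers_le.2 hzU)
      (Subgroup.mem_zpowers _)) hv
  obtain ⟨b, hb, rfl⟩ := exists_of_mem_EG (mem_EG_of_comm hp3 h hc'.2 e4)
  have db := ((mem_ES_std h).1 hb).2
  obtain ⟨θ, β, d1, d2, hβ, v1, v2⟩ := exists_D1 hp3 h hy e2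
  obtain ⟨η, γ, d1', d2', hγ, w1, w2⟩ := exists_D1 hp3 h hy'.2 e5
  have xs := cn_uS_eq ha (cs a ha hx)
  have xt := cn_uS_eq ha (ct a ha hx)
  have d3 : D1 s t (cn (uS a ha) θ) := by simpa only [xs, xt] using d1.cn (uS a ha)
  have d4 : D2 s t (cn (uS a ha) β) := by simpa only [xs, xt] using d2.cn (uS a ha)
  have e6 : θ - cn (uS a ha) θ = η := by
    refine D1.unique hp3 h (d1.sub d3) d1' ((d2.add d4).sub (d1.mul d3)) (db.add d2') ?_
    have := congrArg Units.val e3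
    rw [mul_assoc, mul_assoc, ← mul_assoc (uS a ha), Units.val_mul, cn_val, Units.val_mul, v1, v2, w1,
      uS_val, cn_add, cn_sub, cn_one'] at this
    simp only [mul_add, add_mul, mul_sub, one_mul, mul_one, d1.mul_d2 d4, d2.mul_d1 d3,
      d2.mul_d2 h d4, db.mul_d1 d1', db.mul_d2 h d2'] at this
    linear_combination (norm := abel) this
  have two : ∀ {x y : M →ₗ[ZMod p] M}, x + x = y + y → x = y := fun e =>
    sub_eq_zero.1 (eq_zero_of_add_self h2 (by linear_combination (norm := abel) e))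
  have e7 : a * η = η * a := by
    have k1 := congrArg Units.val (hy'.1 _ hx')
    have k2 := congrArg Units.val (inv_mem (Subgroup.mem_inf.1 hy').1 _ hx')
    simp only [Units.val_mul, w1, w2, uS_val, mul_add, add_mul, mul_sub, sub_mul, one_mul,
      mul_one] at k1 k2
    exact two (by linear_combination (norm := abel) k1 - k2)
  rw [cn, uS_conj] at e6
  have aa : ∀ x, a * (a * x) = 0 := fun x => by rw [← mul_assoc, ha, zero_mul]
  have e8 : a * (θ * a) = 0 := by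
    rw [← e6] at e7
    simp only [mul_add, add_mul, mul_sub, sub_mul, mul_assoc, ha, aa, mul_zero] at e7
    exact eq_zero_of_add_self h2 (by linear_combination (norm := abel) e7)
  have e9 : η = θ * a - a * θ := by rw [← e6, mul_assoc, e8]; abel
  have hηN : η ∈ NS a := by
    rw [e9]
    exact ⟨by rw [mul_sub, e8, aa, sub_zero], by
      rw [sub_mul, mul_assoc, ha, mul_assoc, e8, mul_zero, sub_zero],
      fun v hv => ⟨-θ v, by simp [hv]⟩⟩
  have hyU : y' ∈ US G a := ⟨hy'.2.1, mem_UG.2 (by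
    rw [w1, add_assoc, add_sub_cancel_left]
    exact add_mem hηN (mem_of_add_self h2
      (hγ ▸ (isNil_NS a).mul_le (Submodule.mul_mem_mul hηN hηN))))⟩
  have hn0 : ∀ g ∈ normalizer (G : Set (M →ₗ[ZMod p] M)ˣ), g ∈ normalizer (P : Set (M →ₗ[ZMod p] M)ˣ) →
      g ∈ normalizer (CfsgL0.pCoreOf p (G ⊓ C) : Set (M →ₗ[ZMod p] M)ˣ) := fun g hg hg' =>
    CfsgL0.normalizer_le_normalizer_pCoreOf (CfsgH2.le_normalizer_inf (A := Subgroup.zpowers g)
      (Subgroup.zpowers_le.2 hg) (CfsgH2.le_normalizer_centralizer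
        (Subgroup.zpowers_le.2 (normalizer_le_QG P hg'))) (Subgroup.mem_zpowers g))
  have hQ : Inv p G R (CfsgL0.pCoreOf p (G ⊓ C)) :=
    ⟨CfsgL0.pCoreOf_le.trans inf_le_left, CfsgL0.isPGroup_pCoreOf,
      fun g hg => hn0 g (hRG hg) (hP.nR hg),
      fun g hg => hn0 g (Subgroup.le_normalizer hg.1) (hP.nC hg)⟩
  have hyQ : y' ∈ CfsgL0.pCoreOf p (G ⊓ C) :=
    CfsgL0.le_pCoreOf (Q := (G ⊓ C) ⊓ US G a) inf_le_left
      (CfsgH2.le_normalizer_inf Subgroup.le_normalizer fun g hg =>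
        mem_normalizer_US (Subgroup.le_normalizer hg.1) (cn_eq_of_comm ha (hg.2 _ hx').symm))
      ((isPGroup_of_unip (unip_US a)).to_le inf_le_right) ⟨⟨hy'.2.1, hy'.1⟩, hyU⟩
  have e10 := eq_zero_of_noRoot hp3 hQ.le (unip_of_isPGroup hQ.pg) (hno _ hQ) f.ht h (hQ.nC f.ms)
    (hQ.nC f.mt) d1' d2' hγ hyQ w1 w2
  rw [e9, sub_eq_zero] at e10
  have e11 : β * a = a * β := two (by
    rw [← add_mul, ← mul_add, hβ, mul_assoc, e10, ← mul_assoc, e10, mul_assoc])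
  apply Units.ext
  simp only [Units.val_mul, v1, uS_val, mul_add, add_mul, one_mul, mul_one, e10, e11]
  abel

omit hp3 in
theorem noUnip_of_pCoreOf (h : CfsgL0.pCoreOf p G = ⊥) : NoUnip G := fun N hN hn hU =>
  eq_bot_iff.2 ((CfsgL0.le_pCoreOf hN (fun g hg => cj_eq_self_iff.1 (hn g hg))
    (isPGroup_of_unip hU)).trans h.le)

theorem core (hR : IsPGroup r R) (cop : (Nat.card G).Coprime r)
    (hRG : R ≤ normalizer (G : Set (M →ₗ[ZMod p] M)ˣ)) (hU : NoUnip G) (ih : IH p G r)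
    {s₀ : M →ₗ[ZMod p] M} (hs₀ : MinQ G s₀) (hgen : G ≤ ⨆ C ∈ qcomp G (EG G s₀), C)
    {P : Subgroup (M →ₗ[ZMod p] M)ˣ} (hP : Inv p G R P) {a : M →ₗ[ZMod p] M} (ha : a * a = 0)
    (hx : uS a ha ∈ P) : a = 0 := by
  have h2 := two_ne hp3
  have h3 := three_lt hp3
  obtain ⟨t₀, ht₀, h₀⟩ := exists_partner hp3 hU hs₀
  have hall : ∀ B ∈ quadraticRootSubgroups G, B ∈ qcomp G (EG G s₀) := by
    intro B hB
    by_contra hn
    have hc : Comm (⨆ C ∈ qcomp G (EG G s₀), C) B :=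
      comm_iSup_left fun C hC => qcomp_comm h2 h3 hU hC hB hn
    obtain ⟨b, hb, rfl⟩ := mem_quadraticRootSubgroups.1 hB
    obtain ⟨b', hb', h⟩ := exists_partner hp3 hU hb
    have e := uS_commute_iff.1 (hc _ (hgen hb'.qn.uS_mem) _ (uS_mem_EG hb.qn.mem_ES))
    exact h.ne (by rw [← h.sts, ← e, mul_assoc, h.ss, mul_zero])
  have r2 : r ≠ 2 := by
    rintro rfl
    refine (Nat.Prime.coprime_iff_not_dvd Nat.prime_two).1 cop.symm ?_
    have hz := zS_mem h₀ hs₀.qn.uS_mem ht₀.qn.uS_mem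
    have : orderOf (⟨_, hz⟩ : G) = 2 := by
      refine orderOf_eq_prime (Subtype.ext (by rw [pow_two]; exact zS_mul_zS h₀)) fun e => ?_
      have e1 := congrArg (fun g : G => ((g : (M →ₗ[ZMod p] M)ˣ) : M →ₗ[ZMod p] M) * s₀) e
      simp only [zS_val, sub_mul, h₀.es, OneMemClass.coe_one, Units.val_one] at e1
      exact h₀.ne (eq_zero_of_add_self h2 (by linear_combination (norm := abel) -e1))
    exact this ▸ orderOf_dvd_natCard _
  have c : Ctx G R r := ⟨hR, cop, hRG, hU, r2, ih⟩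
  letI := cjAct (M →ₗ[ZMod p] M)ˣ
  obtain ⟨B, hB, hfix⟩ := fix_of_trans hR G (quadraticRootSubgroups G) (x₀ := EG G s₀)
    (fun g hg => quad_cj_mem (EG_mem hs₀) hg)
    (fun B hB => exists_cj_of_qcomp hp3 hU hs₀ ht₀ h₀ le_rfl (US_le _) (US_le _) (hall B hB))
    (fun ρ hρ B hB => by
      obtain ⟨b, hb, rfl⟩ := mem_quadraticRootSubgroups.1 hB
      show cj ρ _ ∈ _
      rw [cj_EG' (hRG hρ)]
      exact EG_mem (minQ_cn hb (hRG hρ))) cop
  obtain ⟨b, hb, rfl⟩ := mem_quadraticRootSubgroups.1 hB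
  obtain ⟨s, -, t, f⟩ := c.exists_fp hp3 hb hfix
  have gen : Gen G s t := by
    intro H h1 h1'
    refine hgen.trans (iSup₂_le fun C hC => ?_)
    rw [← qcomp_eq (hall _ (EG_mem f.hs))] at hC
    obtain ⟨g, hg, rfl⟩ := exists_cj_of_qcomp hp3 hU f.hs f.ht f.std (H := H ⊓ G) inf_le_right
      (le_inf h1 (US_le _)) (le_inf h1' (US_le _)) hC
    exact cj_le_of_mem hg.1 ((EG_le_US f.std.ss).trans h1)
  have hno : ∀ Q, Inv p G R Q → NoRoot G Q := fun Q hQ => c.caseIa hp3 f gen hQ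
  have hc := gen _ (f.US_le hp3 hRG hno hP) (f.symm.US_le hp3 hRG hno hP)
  have := hU (QG P) ((QG_le P).trans hP.le)
    (fun g hg => cj_eq_of_centralizes fun b hb => (hc hg b hb).symm)
    (unip_of_isPGroup (hP.pg.to_le (QG_le P)))
  exact uS_eq_one.1 (Subgroup.mem_bot.1 (this.le (Subgroup.subset_closure ⟨hx, a, ha, rfl⟩)))

theorem exists_split_comp (hU : NoUnip G) (A : Subgroup (M →ₗ[ZMod p] M)ˣ) {x : M →ₗ[ZMod p] M}
    (hx : QN (ZMod p) G x) : ∃ a, ∃ ha : a ∈ ES G x, ∃ b, ∃ hb : b ∈ ES G x, x = a + b ∧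
      uS a ha.1.sq ∈ (⨆ C ∈ qcomp G A, C) ∧
      uS b hb.1.sq ∈ centralizer ((⨆ C ∈ qcomp G A, C : Subgroup _) : Set (M →ₗ[ZMod p] M)ˣ) := by
  have h2 := two_ne hp3
  have h3 := three_lt hp3
  induction hn : rk x using Nat.strong_induction_on generalizing x with
  | _ n ih =>
  by_cases h : ∀ t, MinQ G t → ¬ Opp t x
  · refine ⟨0, zero_mem _, x, hx.mem_ES, (zero_add x).symm, by rw [uS_eq_one.2 rfl]; exact one_mem _, ?_⟩
    refine Subgroup.zpowers_le.1 (comm_iff_le_centralizer.1 (comm_iSup_left fun C hC => ?_).symm)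
    refine comm_iff_le_centralizer.2 fun g hg => ?_
    obtain ⟨s, hs, rfl⟩ := mem_quadraticRootSubgroups.1 hC.1
    obtain ⟨b, hb, rfl⟩ := exists_of_mem_EG hg
    rw [Subgroup.zpowers_eq_closure, Subgroup.centralizer_closure,
      Subgroup.mem_centralizer_singleton_iff, uS_commute_iff]
    by_cases h0 : b = 0
    · simp [h0]
    · exact (comm_of_not_opp h2 h3 hU hx h (hs.of_mem_ES hb h0).1).symm
  push Not at h
  obtain ⟨t, ht, ho⟩ := h
  obtain ⟨e, u, hf⟩ := exists_fit (k := ZMod p) hx.sq ht.qn.sq ho.symm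
  obtain ⟨-, -, -, -, hs⟩ := fit_main h2 h3 hf hx ht
  have hsE : e * x ∈ ES G x := ⟨hs.qn, ker_le_mul _ _, by rw [hf.e_s.eq]; exact range_mul_le _ _,
    mul_eq_zero_iff_le.1 (by rw [← mul_assoc, ← hf.e_s.eq, mul_assoc, hx.sq, mul_zero])⟩
  have hyE := sub_mem hx.mem_ES hsE
  have hlt : rk (x - e * x) < rk x := by
    by_contra hle
    have e3 : x - e * x = (1 - e) * x := by rw [sub_mul, one_mul]
    rw [e3] at hle
    have := mul_eq_zero_of_ker_le (x := e) (ker_eq_of_rk_le (ker_le_mul (1 - e) x) (not_lt.1 hle)).le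
      (by rw [mul_assoc, ← hf.e_s.eq, ← mul_assoc, sub_mul, one_mul, hf.ee, sub_self, zero_mul])
    exact hs.ne (hf.e_s.eq.trans this)
  obtain ⟨a, ha, b, hb, e1, k1, k2⟩ := ih _ (hn ▸ hlt) hyE.1 rfl
  have sub : ∀ {c}, c ∈ ES G (x - e * x) → c ∈ ES G x := fun hc =>
    ⟨hc.1, hyE.2.1.trans hc.2.1, hc.2.2.1.trans hyE.2.2.1, hc.2.2.1.trans hyE.2.2.2⟩
  have ad : ∀ {c d} (hc : c ∈ ES G x) (hd : d ∈ ES G x),
      uS (c + d) (add_mem hc hd).1.sq = uS c hc.1.sq * uS d hd.1.sq := fun hc hd =>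
    Units.ext (by simp [mul_add, add_mul, ES_mul hc hd]; abel)
  by_cases hA : EG G (e * x) ∈ qcomp G A
  · refine ⟨_, add_mem hsE (sub ha), b, sub hb, by rw [add_assoc, ← e1]; abel, ?_, k2⟩
    rw [ad hsE (sub ha)]
    exact mul_mem (le_biSup_self hA (uS_mem_EG hs.qn.mem_ES)) k1
  · refine ⟨a, sub ha, _, add_mem hsE (sub hb), by rw [add_left_comm, ← e1]; abel, k1, ?_⟩
    rw [ad hsE (sub hb)]
    exact mul_mem (fun g hg => comm_iSup_left (fun C hC => qcomp_comm h2 h3 hU hC (EG_mem hs) hA)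
      g hg _ (uS_mem_EG hs.qn.mem_ES)) k2

theorem reduce (hR : IsPGroup r R) (cop : (Nat.card G).Coprime r)
    (hRG : R ≤ normalizer (G : Set (M →ₗ[ZMod p] M)ˣ)) (hO : CfsgL0.pCoreOf p G = ⊥)
    (ih : IH p G r) {P : Subgroup (M →ₗ[ZMod p] M)ˣ} (hP : Inv p G R P) {x : M →ₗ[ZMod p] M}
    (hx : x * x = 0) (hxP : uS x hx ∈ P) : x = 0 := by
  have h2 := two_ne hp3
  have h3 := three_lt hp3
  have hU := noUnip_of_pCoreOf hO
  have hq : QN (ZMod p) G x := qn_of_sq hx ⟨_, hP.le hxP, rfl⟩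
  by_contra hx0
  set G₀ := ⨆ C ∈ quadraticRootSubgroups G, C with hG₀
  have hG₀G : G₀ ≤ G := iSup₂_le fun _ => quad_le
  have cjm : ∀ g ∈ normalizer (G : Set (M →ₗ[ZMod p] M)ˣ), ∀ B ∈ quadraticRootSubgroups G,
      cj g B ∈ quadraticRootSubgroups G := fun g hg B hB => by
    obtain ⟨b, hb, rfl⟩ := mem_quadraticRootSubgroups.1 hB
    exact (cj_EG' hg).symm ▸ EG_mem (minQ_cn hb hg)
  have hn₀ : normalizer (G : Set (M →ₗ[ZMod p] M)ˣ) ≤ normalizer (G₀ : Set (M →ₗ[ZMod p] M)ˣ) := by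
    intro g hg
    refine CfsgL0.mem_normalizer_of_conj_mem fun y hy => (show cj g G₀ ≤ G₀ from ?_) (conj_mem_cj hy)
    simp only [hG₀, cj_iSup]
    exact iSup₂_le fun C hC => le_biSup_self (cjm g hg C hC)
  by_cases h : ∀ t, MinQ G t → ¬ Opp t x
  · obtain ⟨s, hs⟩ := exists_minQ hq hx0
    obtain ⟨t, ht, hst⟩ := exists_partner hp3 hU hs
    set H := G ⊓ centralizer (G₀ : Set (M →ₗ[ZMod p] M)ˣ) with hH
    have hnH : normalizer (G : Set (M →ₗ[ZMod p] M)ˣ) ≤ normalizer (H : Set (M →ₗ[ZMod p] M)ˣ) :=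
      CfsgH2.le_normalizer_inf le_rfl (CfsgH2.le_normalizer_centralizer hn₀)
    have := ih H R (P ⊓ H) (CfsgH1.card_lt_of_lt (lt_of_le_of_ne inf_le_left fun e => by
        have e1 := uS_commute_iff.1 ((e.ge hs.qn.uS_mem).2 _
          (le_biSup_self (EG_mem ht) (uS_mem_EG ht.qn.mem_ES)))
        exact hst.ne (by rw [← hst.sts, ← e1, mul_assoc, hst.ss, mul_zero]))) hR
      (cop.coprime_dvd_left (Subgroup.card_dvd_of_le inf_le_left)) (hRG.trans hnH)
      (hP.inf inf_le_left (hRG.trans hnH)) x hx ⟨hxP, hP.le hxP, by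
        refine Subgroup.zpowers_le.1 (comm_iff_le_centralizer.1 (comm_iSup_left fun C hC => ?_).symm)
        refine comm_iff_le_centralizer.2 fun g hg => ?_
        obtain ⟨s, hs, rfl⟩ := mem_quadraticRootSubgroups.1 hC
        obtain ⟨b, hb, rfl⟩ := exists_of_mem_EG hg
        rw [Subgroup.zpowers_eq_closure, Subgroup.centralizer_closure,
          Subgroup.mem_centralizer_singleton_iff, uS_commute_iff]
        by_cases h0 : b = 0
        · simp [h0]
        · exact (comm_of_not_opp h2 h3 hU hq h (hs.of_mem_ES hb h0).1).symm⟩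
    have := CfsgL0.pCoreOf_le_of_le_normalizer inf_le_left (Subgroup.le_normalizer.trans hnH) this
    rw [hO] at this
    exact hx0 (uS_eq_one.1 this)
  push Not at h
  obtain ⟨t, ht, ho⟩ := h
  set L := ⨆ C ∈ qcomp G (EG G t), C with hL
  by_cases hGL : G ≤ L
  · exact hx0 (core hp3 hR cop hRG hU ih ht hGL hP hx hxP)
  have hL₀ : L ≤ G₀ := iSup₂_le fun C hC => le_biSup_self hC.1
  have hLG := hL₀.trans hG₀G
  have hti : ∀ ρ ∈ R, ρ ∈ normalizer (L : Set (M →ₗ[ZMod p] M)ˣ) ∨ Comm L (cj ρ L) := by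
    intro ρ hρ
    have key : ∀ B ∈ qcomp G (EG G t), cj ρ B ∈ qcomp G (cj ρ (EG G t)) := by
      rintro B ⟨hB, hB'⟩
      refine ⟨cjm ρ (hRG hρ) B hB, ?_⟩
      clear hB
      induction hB' with
      | refl => exact Relation.ReflTransGen.refl
      | tail _ h ih => exact ih.tail ⟨cjm ρ (hRG hρ) _ h.1, cjm ρ (hRG hρ) _ h.2.1, r1_cj h.2.2 ρ⟩
    by_cases hA : cj ρ (EG G t) ∈ qcomp G (EG G t)
    · refine Or.inl (CfsgL0.mem_normalizer_of_conj_mem fun y hy =>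
        (show cj ρ L ≤ L from ?_) (conj_mem_cj hy))
      simp only [hL, cj_iSup]
      exact iSup₂_le fun C hC => le_biSup_self (qcomp_eq hA ▸ key C hC)
    · refine Or.inr (comm_iSup_left fun C hC => Comm.symm ?_)
      rw [comm_iff_le_centralizer]
      simp only [hL, cj_iSup]
      refine iSup₂_le fun D hD => comm_iff_le_centralizer.1 (qcomp_comm h2 h3 hU hC (key D hD).1
        fun hm => hA ?_).symm
      rw [← qcomp_eq hm, qcomp_eq (key D hD)]
      exact mem_qcomp_self (cjm ρ (hRG hρ) _ (EG_mem ht))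
  obtain ⟨a, ha, b, hb, e1, k1, k2⟩ := exists_split_comp hp3 hU (EG G t) hq
  have e2 : uS x hx = uS a ha.1.sq * uS b hb.1.sq :=
    Units.ext (by simp [e1, mul_add, add_mul, ES_mul ha hb]; abel)
  obtain ⟨Q, hQ, haQ⟩ := exists_proj hLG hRG hti hP k1 (Units.ext (by
      rw [Units.val_pow_eq_pow_val, uS_val, pow_one_add ha.1.sq, ← Nat.cast_smul_eq_nsmul (ZMod p)]
      simp)) hxP (by rw [e2, inv_mul_cancel_left]; exact k2)
  have k3 := ih L _ Q (CfsgH1.card_lt_of_lt (lt_of_le_of_ne hLG fun e => hGL e.ge))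
    (hR.to_le inf_le_left) (cop.coprime_dvd_left (Subgroup.card_dvd_of_le hLG)) inf_le_right hQ
    a ha.1.sq haQ
  have k4 := CfsgL0.pCoreOf_le_of_le_normalizer hG₀G (Subgroup.le_normalizer.trans hn₀)
    (CfsgL0.pCoreOf_le_of_le_normalizer hL₀ (fun g hg => CfsgL0.mem_normalizer_of_conj_mem
      fun y hy => (show cj g L ≤ L from by
        simp only [hL, cj_iSup]
        exact iSup₂_le fun C hC => le_biSup_self (qcomp_cj_mem h2 h3 hU hC hg)) (conj_mem_cj hy)) k3)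
  rw [hO] at k4
  obtain rfl := uS_eq_one.1 k4
  rw [zero_add] at e1
  subst e1
  have e3 := uS_commute_iff.1 (k2 _ (le_biSup_self (mem_qcomp_self (EG_mem ht))
    (uS_mem_EG ht.qn.mem_ES)))
  refine ho ⟨2, ?_⟩
  rw [← e3, pow_two]
  simp only [mul_add, add_mul, mul_assoc, ← mul_assoc x t, ← e3, ← mul_assoc t t, ht.qn.sq, zero_mul,
    add_zero]

end CfsgH3.FQ
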