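import Cfsg.Agent.H3.KNormal

/-! Failure of normality of the K-infinity subgroups of an arbitrary overgroup of a normal
`p`-subgroup. -/

set_option autoImplicit false
set_option linter.unusedSectionVars false
set_option linter.style.haveILetI false

namespace CfsgH3

open Subgroup Cfsg CfsgH1
open scoped commutatorElement

variable {G : Type*} [Group G] {p : ℕ} [hp : Fact p.Prime]

theorem kinf_gen [Finite G] (S T A : Subgroup G) [T.Normal] [A.Normal] (hTp : IsPGroup p T)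
    (hTS : T ≤ S) (hAT : A ≤ T) (hA3 : ⁅T, A⁆ ≤ Zc A) (hst : ∀ g ∈ S, g ∈ chiefStab A → g ∈ T)
    (hK : ¬ (kLow S).Normal ∨ ¬ (kUp S).Normal) :
    ∃ g ∈ S, ∃ U V : Subgroup G, IsChiefFactor U V ∧
        U ≤ A ∧ ⁅⁅U, zpowers g⁆, zpowers g⁆ ≤ V ∧ ¬ ⁅U, zpowers g⁆ ≤ V := by
  have hAp : IsPGroup p A := hTp.to_le hAT
  have hAS : A ≤ S := hAT.trans hTS
  have hAT' : ⁅A, T⁆ ≤ Zc A := by rw [commutator_comm]; exact hA3
  have hA2 : Cl2 A := ((commutator_mono hAT le_rfl).trans hA3).trans inf_le_right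
  have fin : ∀ g ∈ S, g ∉ T →
      (∀ U V : Subgroup G, IsChiefFactor U V → U ≤ A → ⁅⁅U, zpowers g⁆, zpowers g⁆ ≤ V) →
      ∃ g ∈ S, ∃ U V : Subgroup G, IsChiefFactor U V ∧
        U ≤ A ∧ ⁅⁅U, zpowers g⁆, zpowers g⁆ ≤ V ∧ ¬ ⁅U, zpowers g⁆ ≤ V := by
    intro g hgS hgT h3
    refine ⟨g, hgS, ?_⟩
    by_contra hc
    push Not at hc
    exact hgT (hst g hgS (mem_chiefStab.mpr fun U V h hU => hc U V h hU (h3 U V h hU)))
  have fin2 : ∀ g ∈ S, g ∉ T → ⁅⁅A, zpowers g⁆, zpowers g⁆ ≤ Zc A →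
      ⁅⁅Zc A, zpowers g⁆, zpowers g⁆ = ⊥ → _ := fun g hgS hgT h1 h2 =>
    fin g hgS hgT fun U V h hU => chief_quadratic_of_Zc h1 h2 h hU
  have fin3 : ∀ g ∈ S, g ∉ T → ⁅⁅A, zpowers g⁆, zpowers g⁆ = ⊥ → _ :=
    fun g hgS hgT h1 => fin2 g hgS hgT (h1.le.trans bot_le)
      (le_bot_iff.mp ((iter_mono inf_le_left le_rfl 2).trans h1.le))
  by_cases hlow : LowC S A
  swap
  · simp only [LowC, hA2, le_normalizer_of_normal, true_and] at hlow
    push Not at hlow
    obtain ⟨D, hD, hDS, hAD, h1, h2, h3⟩ := hlow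
    obtain ⟨g, hgD, hg⟩ : ∃ g ∈ D, ¬ ⁅A, zpowers g⁆ ≤ Zc A := by
      by_contra hc
      push Not at hc
      exact h3 (commutator_le.mpr fun a ha d hd =>
        hc d hd (commutator_mem_commutator ha (mem_zpowers d)))
    have hg' : zpowers g ≤ D := zpowers_le.mpr hgD
    refine fin2 g (hDS hgD) (fun hgT => hg ((commutator_mono le_rfl (zpowers_le.mpr hgT)).trans hAT'))
      (le_inf (iter_le (le_normalizer_of_normal _) 2) ?_)
      (le_bot_iff.mp ((iter_mono le_rfl hg' 2).trans h2.le))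
    refine le_trans (commutator_mono ((commutator_mono le_rfl hg').trans
      (commutator_le_right_of_le_normalizer hAD)) hg') ?_
    exact le_centralizer_iff.mp (commutator_eq_bot_iff_le_centralizer.mp h1)
  have hAeven : ∀ n, A ≤ kEven S n := fun n => le_low hAS (hlow.anti (kOdd_le _ n))
  by_cases hodd : kOdd S 1 ≤ T
  swap
  · obtain ⟨B, ⟨hBS, hB⟩, hBT⟩ := exists_not_le_of_sSup hodd
    obtain ⟨g, hgB, hgT⟩ := SetLike.not_le_iff_exists.mp hBT
    have hg' : zpowers g ≤ B := zpowers_le.mpr hgB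
    refine fin3 g (hBS hgB) hgT (le_bot_iff.mp ((iter_mono le_rfl hg' 2).trans (le_of_eq ?_)))
    refine commutator_eq_bot_of_le_centralizer ?_
    rw [iter_one, commutator_comm]
    exact ((commutator_mono le_rfl (hAeven 0)).trans hB.2).trans inf_le_right
  have hev : ∃ n, ¬ kEven S n ≤ T := by
    by_contra hc
    push Not at hc
    have hQ : ∀ n, kEven S n ≤ T ∧ kOdd S (n + 1) ≤ T := fun n =>
      ⟨hc n, (kOdd_anti _ (by omega)).trans hodd⟩
    rw [← kLow_eq_of_le hTS hQ, ← kUp_eq_of_le hTS hQ] at hK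
    rcases hK with hK | hK
    · exact hK (normal_iff_normalizer.mpr fun x =>
        normalizer_le_normalizer_kLow T (mem_normalizer_of_normal x))
    · exact hK (normal_iff_normalizer.mpr fun x =>
        normalizer_le_normalizer_kUp T (mem_normalizer_of_normal x))
  classical
  have hn := Nat.find_spec hev
  have hAodd : A ≤ kOdd S (Nat.find hev) := by
    rcases hm : Nat.find hev with _ | m
    · exact hAS
    · have : kEven S m ≤ T := not_not.mp (Nat.find_min hev (by omega))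
      exact le_up hAS ⟨hA2, (commutator_mono le_rfl this).trans hAT'⟩
  obtain ⟨B, ⟨hBS, hB⟩, hBT⟩ := exists_not_le_of_sSup hn
  replace hB : LowC A B := hB.anti hAodd
  have hAB : ⁅A, B⁆ ≤ B := commutator_le_right_of_le_normalizer hB.2.1
  have hABB : ⁅⁅A, B⁆, B⁆ ≤ Zc B := (commutator_mono hAB le_rfl).trans hB.1.le_Zc
  have hZ : ⁅⁅Zc A, B⁆, B⁆ = ⊥ := by
    refine commutator_eq_bot_of_le_centralizer (le_trans (b := Zc B) ?_ inf_le_right)
    rw [commutator_comm]
    refine hB.2.2 _ (cl2_of_comm (isMulCommutative_Zc A)) inf_le_left (le_normalizer_of_normal _)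
      ?_ ?_
    · rw [commutator_self_eq_bot_iff.mpr (isMulCommutative_Zc A), commutator_bot_right]
    · exact le_bot_iff.mp ((commutator_mono (commutator_le_right _ _) le_rfl).trans
        (commutator_self_eq_bot_iff.mpr (isMulCommutative_Zc A)).le)
  by_cases h1 : B ≤ chiefStab (Zc A)
  swap
  · obtain ⟨g, hgB, hg⟩ := SetLike.not_le_iff_exists.mp h1
    have hg' : zpowers g ≤ B := zpowers_le.mpr hgB
    rw [mem_chiefStab] at hg
    push Not at hg
    obtain ⟨U, V, hUV, hU, hne⟩ := hg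
    have hq : ⁅⁅Zc A, zpowers g⁆, zpowers g⁆ = ⊥ :=
      le_bot_iff.mp ((iter_mono le_rfl hg' 2).trans hZ.le)
    refine ⟨g, hBS hgB, U, V, hUV, hU.trans inf_le_left, ?_, hne⟩
    exact (iter_mono hU le_rfl 2).trans (hq.le.trans bot_le)
  by_cases h2 : Zc B ≤ T
  swap
  · obtain ⟨g, hgB, hgT⟩ := SetLike.not_le_iff_exists.mp h2
    have hg' : zpowers g ≤ Zc B := zpowers_le.mpr hgB
    refine fin3 g (hBS hgB.1) hgT (le_bot_iff.mp ((iter_mono le_rfl hg' 2).trans ?_))
    exact (commutator_mono (commutator_le_right_of_le_normalizer (le_normalizer_Zc hB.2.1))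
      le_rfl).trans (commutator_self_eq_bot_iff.mpr (isMulCommutative_Zc B)).le
  set C := centralizer ((Zc A : Subgroup G) : Set G) with hC
  have hsub : (C ⊔ B).IsSubnormal := isSubnormal_of_pow_mem (p := p) (fun x hx => by
    obtain ⟨k, hk⟩ := exists_pow_coprime (p := p) x
    exact ⟨k, mem_centralizer_of_mem_chiefStab (hAp.to_le inf_le_left) (pow_mem hx _) hk⟩) h1
  set D := closure {y : G | ∃ c ∈ C, ∃ u ∈ Zc B ⊓ A, y = c * u * c⁻¹} with hD
  have hDA : D ≤ A := (closure_le _).mpr (by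
    rintro _ ⟨c, -, u, hu, rfl⟩
    exact ‹A.Normal›.conj_mem u hu.2 c)
  have hUD : Zc B ⊓ A ≤ D := fun u hu => subset_closure ⟨1, one_mem _, u, hu, by simp⟩
  have hDn : C ⊔ B ≤ normalizer (D : Set G) := by
    refine sup_le (fun x hx => mem_normalizer_of_cj_le ?_) (fun x hx => mem_normalizer_of_cj_le ?_)
    · rw [cj_closure]
      refine closure_mono ?_
      rintro _ ⟨_, ⟨c, hc, u, hu, rfl⟩, rfl⟩
      exact ⟨x * c, mul_mem hx hc, u, hu, by group⟩
    · rw [cj_closure]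
      refine closure_mono ?_
      rintro _ ⟨_, ⟨c, hc, u, hu, rfl⟩, rfl⟩
      refine ⟨x * c * x⁻¹, (inferInstance : C.Normal).conj_mem c hc x, u, hu, ?_⟩
      have : x⁻¹ * u * x = u := by
        rw [mul_assoc, ← hu.1.2 x hx, inv_mul_cancel_left]
      conv_lhs => rw [← this]
      group
  have hDA' : ⁅D, A⁆ ≤ Zc B ⊓ Zc A := by
    refine commutator_closure_left_le ?_
    rintro _ ⟨c, hc, u, hu, rfl⟩
    refine ⟨CfsgH2.le_normalizer_inf (le_normalizer_Zc hB.2.1) (le_normalizer_of_normal A)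
      (‹A.Normal›.conj_mem u hu.2 c), fun a ha => ?_⟩
    have ha' : c⁻¹ * a * c ∈ A := by simpa using ‹A.Normal›.conj_mem a ha c⁻¹
    have hm : ⁅u, c⁻¹ * a * c⁆ ∈ Zc B ⊓ Zc A :=
      ⟨commutator_le_left_of_le_normalizer (le_normalizer_Zc hB.2.1)
        (commutator_mem_commutator hu.1 ha'), hA2.le_Zc (commutator_mem_commutator hu.2 ha')⟩
    have : ⁅c * u * c⁻¹, a⁆ = c * ⁅u, c⁻¹ * a * c⁆ * c⁻¹ := by
      simp only [commutatorElement_def]; group
    rw [this, conj_eq_of_mem_centralizer hc hm.2]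
    exact hm
  have hBD : ⁅B, D⁆ ≤ Zc B := by
    refine hB.2.2 D (hA2.mono hDA) hDA (le_sup_right.trans hDn) ?_ ?_
    · exact commutator_eq_bot_of_le_centralizer'
        (((commutator_mono le_rfl hDA).trans hDA').trans (inf_le_left.trans inf_le_right))
    · exact commutator_eq_bot_of_le_centralizer ((((commutator_mono h2 hDA).trans hA3).trans
        inf_le_right).trans (centralizer_anti hDA))
  have hDBB : ⁅⁅D, B⁆, B⁆ = ⊥ := by
    rw [commutator_comm D]
    exact commutator_eq_bot_of_le_centralizer (hBD.trans inf_le_right)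
  obtain ⟨g, hgB, hgT⟩ := SetLike.not_le_iff_exists.mp hBT
  have hg' : zpowers g ≤ B := zpowers_le.mpr hgB
  refine fin g (hBS hgB) hgT fun U V h hU => ?_
  refine (iter_mono le_rfl hg' 2).trans (chief_quadratic_of_subnormal h (hAp.to_le hU) hsub
    le_sup_right hDn (hDBB.le.trans bot_le) ?_)
  exact (iter_mono hU le_rfl 2).trans ((le_inf hABB (iter_le (le_normalizer_of_normal _) 2)).trans hUD)

end CfsgH3
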