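import Cfsg.Agent.H3.FQ6
import Cfsg.Agent.H3.KGen

/-! Quadratic elements of invariant `p`-subgroups; the equivariant ZJ theorem. -/

set_option autoImplicit false
set_option linter.unusedSectionVars false
set_option linter.style.haveILetI false
set_option maxHeartbeats 400000

namespace CfsgH3.FQ

open CfsgH9 LinearMap Cfsg
open Subgroup (normalizer centralizer)
open scoped commutatorElement IsMulCommutative

universe u

variable {p : ℕ} [hp : Fact p.Prime] {r : ℕ} [hr : Fact r.Prime]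

section Grp
variable {Γ Γ' : Type*} [Group Γ] [Group Γ'] {G R P : Subgroup Γ}

theorem map_le_normalizer_map (f : Γ →* Γ') {A B : Subgroup Γ} (h : A ≤ normalizer (B : Set Γ)) :
    A.map f ≤ normalizer ((B.map f : Subgroup Γ') : Set Γ') :=
  (Subgroup.map_mono h).trans (Subgroup.le_normalizer_map f)

theorem Inv.map [Finite Γ] (h : Inv p G R P) (hR : IsPGroup r R) (cop : (Nat.card G).Coprime r)
    (hRG : R ≤ normalizer (G : Set Γ)) (f : Γ →* Γ') : Inv p (G.map f) (R.map f) (P.map f) := by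
  refine ⟨Subgroup.map_mono h.le, h.pg.map f, map_le_normalizer_map f h.nR, ?_⟩
  rintro _ ⟨⟨g, hg, rfl⟩, hc⟩
  obtain ⟨n, hn, c, hc', e⟩ := CfsgH2.exists_eq_mul_centralizer (A := R) (N := f.ker ⊓ G)
    (CfsgH2.le_normalizer_inf (le_normalizer_of_normal _) hRG)
    (CfsgH2.coprime_card_of_isPGroup hR fun hd => (Nat.Prime.coprime_iff_not_dvd hr.out).1 cop.symm
      (hd.trans (Subgroup.card_dvd_of_le inf_le_right)))
    (Or.inl (CfsgH2.isSolvable_of_isPGroup hR)) (x := g) (fun a ha => Subgroup.mem_inf.2 ⟨by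
      show f _ = 1
      rw [map_commutatorElement, commutatorElement_eq_one_iff_mul_comm]
      exact (hc _ ⟨a, ha, rfl⟩).symm, by
      have := mul_mem hg (conj_mem_of_mem_normalizer (hRG ha) (inv_mem hg))
      simpa only [commutatorElement_def, mul_assoc] using this⟩)
  have hcG : c ∈ G := by
    have := mul_mem (inv_mem (Subgroup.mem_inf.1 hn).2) hg
    rwa [e, inv_mul_cancel_left] at this
  rw [e, map_mul, show f n = 1 from hn.1, one_mul]
  exact map_le_normalizer_map f h.nC ⟨c, ⟨hcG, hc'⟩, rfl⟩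

theorem subgroupOf_le_normalizer {A B : Subgroup Γ} (h : A ≤ normalizer (B : Set Γ))
    (K : Subgroup Γ) : A.subgroupOf K ≤ normalizer ((B.subgroupOf K : Subgroup K) : Set K) :=
  (Subgroup.comap_mono h).trans (Subgroup.le_normalizer_comap K.subtype)

theorem Inv.subgroupOf (h : Inv p G R P) {K : Subgroup Γ} (hK : R ≤ K) :
    Inv p (G.subgroupOf K) (R.subgroupOf K) (P.subgroupOf K) :=
  ⟨Subgroup.comap_mono h.le, h.pg.comap_subtype, subgroupOf_le_normalizer h.nR K,
    fun g hg => subgroupOf_le_normalizer h.nC K (show (g : Γ) ∈ G ⊓ centralizer (R : Set Γ) from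
      ⟨hg.1, fun a ha => congrArg Subtype.val (hg.2 ⟨a, hK ha⟩ ha)⟩)⟩

theorem normal_of_sup_top {A : Subgroup Γ} (h : G ⊔ R = ⊤) (h1 : G ≤ normalizer (A : Set Γ))
    (h2 : R ≤ normalizer (A : Set Γ)) : A.Normal :=
  Subgroup.normalizer_eq_top_iff.1 (top_le_iff.1 (h ▸ sup_le h1 h2))

end Grp

theorem claimQ (hp3 : 3 < p) (n : ℕ) : ∀ (Γ : Type u) [Group Γ] [Finite Γ] (M : Type u)
    [AddCommGroup M] [Module (ZMod p) M] [Finite M] (ρ : Representation (ZMod p) Γ M)
    (G R P : Subgroup Γ), Nat.card G + Module.finrank (ZMod p) M = n → G ⊔ R = ⊤ → IsPGroup r R →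
    (Nat.card G).Coprime r → R ≤ normalizer (G : Set Γ) → Inv p G R P → ∀ x ∈ P,
    (ρ x - 1) * (ρ x - 1) = 0 → ∀ y ∈ Subgroup.normalClosure {x}, ∃ k, ρ y ^ p ^ k = 1 := by
  induction n using Nat.strong_induction_on with
  | _ n ih =>
  intro Γ _ _ M _ _ _ ρ G R P hn htop hR cop hRG hP x hx hq y hy
  by_cases hW : ∃ W : Submodule (ZMod p) M, (∀ g, W ≤ W.comap (ρ g)) ∧ W ≠ ⊥ ∧ W ≠ ⊤
  · obtain ⟨W, hW, h0, h1⟩ := hW
    haveI : Finite (M ⧸ W) := Finite.of_surjective _ (Submodule.mkQ_surjective W)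
    have d1 := Submodule.finrank_lt h1
    have d2 := Submodule.finrank_quotient_add_finrank W
    have d3 : Module.finrank (ZMod p) W ≠ 0 := fun e => h0 (Submodule.finrank_eq_zero.1 e)
    obtain ⟨a, ha⟩ := ih _ (by omega) Γ W (ρ.subrepresentation W hW) G R P rfl htop hR cop hRG hP
      x hx (by
        ext v
        exact congrArg (fun f : M →ₗ[ZMod p] M => f v) hq) y hy
    obtain ⟨b, hb⟩ := ih _ (by omega) Γ (M ⧸ W) (ρ.quotient W hW) G R P rfl htop hR cop hRG hP
      x hx (by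
        ext v
        have := congrArg (fun f : M →ₗ[ZMod p] M => W.mkQ (f v)) hq
        simpa [Representation.quotient] using this) y hy
    have ha' : ρ.subrepresentation W hW (y ^ p ^ (a + b)) = 1 := by
      rw [map_pow, pow_add, pow_mul, ha, one_pow]
    have hb' : ρ.quotient W hW (y ^ p ^ (a + b)) = 1 := by
      rw [map_pow, add_comm, pow_add, pow_mul, hb, one_pow]
    obtain ⟨c, hc⟩ := exists_pow_eq_one_of_isNilpotent (p := p) (r := ρ (y ^ p ^ (a + b))) ⟨2, by
      ext v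
      have k1 : ρ (y ^ p ^ (a + b)) v - v ∈ W := by
        rw [← Submodule.Quotient.eq]
        exact congrArg (fun f : (M ⧸ W) →ₗ[ZMod p] (M ⧸ W) => f (W.mkQ v)) hb'
      have k2 := congrArg (fun f : W →ₗ[ZMod p] W => (f ⟨_, k1⟩ : M)) ha'
      rw [pow_two]
      exact sub_eq_zero.2 k2⟩
    exact ⟨a + b + c, by rw [pow_add, pow_mul, ← map_pow, hc]⟩
  push Not at hW
  let φ := ρ.asGroupHom
  suffices h : ρ x - 1 = 0 by
    have : Subgroup.normalClosure {x} ≤ φ.ker := Subgroup.normalClosure_le_normal (by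
      rintro _ rfl
      exact Units.ext (sub_eq_zero.1 h))
    exact ⟨0, by rw [pow_zero, pow_one]; exact congrArg Units.val (this hy)⟩
  rcases subsingleton_or_nontrivial M with _ | _
  · exact Subsingleton.elim _ _
  have hU : NoUnip φ.range := (hypH_of_irreducible ⟨exists_ne 0, fun W h =>
    or_iff_not_imp_left.2 (hW W fun g w hw => h (φ g) (MonoidHom.mem_range.2 ⟨g, rfl⟩) w hw)⟩).noUnip
  have hrange : G.map φ ⊔ R.map φ = φ.range := by
    rw [← Subgroup.map_sup, htop, MonoidHom.range_eq_map]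
  have hRG' := map_le_normalizer_map φ hRG
  have hcard := Nat.le_of_dvd Nat.card_pos (Subgroup.card_map_dvd G φ)
  refine reduce hp3 (hR.map φ) (cop.coprime_dvd_left (Subgroup.card_map_dvd G φ)) hRG'
    (hU _ (CfsgL0.pCoreOf_le.trans (hrange ▸ le_sup_left)) (fun g hg => cj_eq_self_iff.2
      (CfsgL0.normalizer_le_normalizer_pCoreOf (sup_le Subgroup.le_normalizer hRG' (hrange ▸ hg))))
      (unip_of_isPGroup CfsgL0.isPGroup_pCoreOf)) ?_ (hP.map hR cop hRG φ) hq
    ⟨x, hx, Units.ext (by simp [φ, Representation.asGroupHom_apply])⟩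
  intro H R₁ Q hH hR₁ cop₁ hRH hQ a ha haQ
  have hc : Nat.card (H.subgroupOf (H ⊔ R₁)) = Nat.card H := CfsgL0.card_subgroupOf_of_le le_sup_left
  have hxm : uS a ha ∈ H ⊔ R₁ := Subgroup.mem_sup_left (hQ.le haQ)
  have key := ih _ (by rw [hc]; omega) ↥(H ⊔ R₁) M ((Units.coeHom _).comp (H ⊔ R₁).subtype)
    (H.subgroupOf _) (R₁.subgroupOf _) (Q.subgroupOf _) rfl
    (by rw [← Subgroup.subgroupOf_sup le_sup_left le_sup_right, Subgroup.subgroupOf_self])
    hR₁.comap_subtype (hc ▸ cop₁) (subgroupOf_le_normalizer hRH _) (hQ.subgroupOf le_sup_right)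
    ⟨_, hxm⟩ haQ (by simpa using ha)
  haveI : (H.subgroupOf (H ⊔ R₁)).Normal :=
    CfsgL0.normal_subgroupOf_of_le_normalizer (sup_le Subgroup.le_normalizer hRH)
  refine CfsgL0.le_pCoreOf (Q := (Subgroup.normalClosure {(⟨_, hxm⟩ : ↥(H ⊔ R₁))}).map
    (H ⊔ R₁).subtype) ?_ (le_sup_left.trans (CfsgL0.le_normalizer_map_subtype _))
    (IsPGroup.map (fun y => ?_) _) ⟨_, Subgroup.subset_normalClosure rfl, rfl⟩
  · rw [Subgroup.map_le_iff_le_comap]
    exact Subgroup.normalClosure_le_normal (N := H.subgroupOf (H ⊔ R₁))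
      (by rintro _ rfl; exact hQ.le haQ)
  · obtain ⟨k, hk⟩ := key y y.2
    exact ⟨k, Subtype.ext (Subtype.ext (Units.ext (by simpa using hk)))⟩

variable {Γ : Type u} [Group Γ] [Finite Γ] {G R P : Subgroup Γ}

theorem claimQ_aut (hp3 : 3 < p) (htop : G ⊔ R = ⊤) (hR : IsPGroup r R)
    (cop : (Nat.card G).Coprime r) (hRG : R ≤ normalizer (G : Set Γ)) (hP : Inv p G R P)
    {W : Type u} [CommGroup W] [Finite W] [Module (ZMod p) (Additive W)] (φ : Γ →* MulAut W)
    {g : Γ} (hg : g ∈ P) (hx : ∀ w, φ g (φ g w * w⁻¹) = φ g w * w⁻¹) :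
    ∀ y ∈ Subgroup.normalClosure {g}, ∃ k, ∀ w, φ (y ^ p ^ k) w = w := by
  let ρ : Γ →* Module.End (ZMod p) (Additive W) :=
    { toFun := fun g => (MonoidHom.toAdditive (φ g).toMonoidHom).toZModLinearMap p
      map_one' := by ext v; simp
      map_mul' := fun a b => by ext v; simp }
  have hρ : ∀ g v, (ρ g v).toMul = φ g v.toMul := fun _ _ => rfl
  have hsub : ∀ g v, ((ρ g - 1) v).toMul = φ g v.toMul * v.toMul⁻¹ := fun g v => by
    rw [LinearMap.sub_apply, Module.End.one_apply, toMul_sub, div_eq_mul_inv, hρ]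
  intro y hy
  obtain ⟨k, hk⟩ := claimQ hp3 _ Γ (Additive W) ρ G R P rfl htop hR cop hRG hP g hg (by
    ext v
    rw [Module.End.mul_apply, hsub, hsub, hx, mul_inv_cancel]
    rfl) y hy
  refine ⟨k, fun w => ?_⟩
  have := hρ (y ^ p ^ k) (Additive.ofMul w)
  rw [map_pow, hk] at this
  exact this.symm

theorem inOp_of_quadratic (hp3 : 3 < p) (htop : G ⊔ R = ⊤) (hR : IsPGroup r R)
    (cop : (Nat.card G).Coprime r) (hRG : R ≤ normalizer (G : Set Γ)) (hP : Inv p G R P)
    {W : Subgroup Γ} [W.Normal] [IsMulCommutative W] (hW : ∀ w ∈ W, w ^ p = 1) {g : Γ}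
    (hg : g ∈ P) (hq : ⁅⁅W, Subgroup.zpowers g⁆, Subgroup.zpowers g⁆ = ⊥) :
    InOp p ⊤ (centralizer (W : Set Γ)) g := by
  let φ : Γ →* MulAut W := MulAut.conjNormal
  have hx : ∀ w, φ g (φ g w * w⁻¹) = φ g w * w⁻¹ := fun w => by
    rw [Subgroup.commutator_comm, Subgroup.commutator_comm W] at hq
    exact Subtype.ext (mul_inv_eq_one.mp (Subgroup.mem_bot.mp (hq ▸ Subgroup.commutator_mem_commutator
      (Subgroup.mem_zpowers g) (Subgroup.commutator_mem_commutator (Subgroup.mem_zpowers g) w.2))))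
  refine ⟨Subgroup.normalClosure {g}, Subgroup.subset_normalClosure rfl, le_top,
    le_normalizer_of_normal _, fun y hy => ?_⟩
  obtain ⟨k, hk⟩ := @claimQ_aut p _ r _ Γ _ _ G R P hp3 htop hR cop hRG hP W _ _
    (AddCommGroup.zmodModule fun w => Subtype.ext (hW _ w.toMul.2)) φ g hg hx y hy
  exact ⟨k, CfsgH1.mem_centralizer_of_conj_eq fun w hw => congrArg Subtype.val (hk ⟨w, hw⟩)⟩

theorem chief_trivial_of_quadratic (hp3 : 3 < p) (htop : G ⊔ R = ⊤) (hR : IsPGroup r R)
    (cop : (Nat.card G).Coprime r) (hRG : R ≤ normalizer (G : Set Γ)) (hP : Inv p G R P)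
    {U V : Subgroup Γ} (h : IsChiefFactor U V) (hU : IsPGroup p U) {g : Γ} (hg : g ∈ P)
    (h1 : ⁅⁅U, Subgroup.zpowers g⁆, Subgroup.zpowers g⁆ ≤ V) : ⁅U, Subgroup.zpowers g⁆ ≤ V := by
  haveI := h.2.1
  haveI := h.2.2.1
  let f := QuotientGroup.mk' V
  haveI := Subgroup.Normal.map ‹U.Normal› f (QuotientGroup.mk'_surjective V)
  haveI : IsMulCommutative (U.map f) := by
    rw [← Subgroup.commutator_self_eq_bot_iff, ← Subgroup.map_commutator, Subgroup.map_eq_bot_iff,
      QuotientGroup.ker_mk']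
    exact chief_commutator_le h hU le_rfl
  obtain ⟨X, hgX, -, hX, hXp⟩ := inOp_of_quadratic (r := r) hp3 (G := G.map f) (R := R.map f)
    (by rw [← Subgroup.map_sup, htop,
      Subgroup.map_top_of_surjective _ (QuotientGroup.mk'_surjective V)]) (hR.map f)
    (cop.coprime_dvd_left (Subgroup.card_map_dvd G f)) (map_le_normalizer_map f hRG)
    (hP.map hR cop hRG f) (W := U.map f) (by
      rintro _ ⟨x, hx, rfl⟩
      rw [← map_pow]
      exact (QuotientGroup.eq_one_iff _).mpr (chief_pow_mem h hU hx)) (g := f g) ⟨g, hg, rfl⟩ (by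
    rw [← MonoidHom.map_zpowers, ← Subgroup.map_commutator, ← Subgroup.map_commutator,
      Subgroup.map_eq_bot_iff, QuotientGroup.ker_mk']
    exact h1)
  haveI : X.Normal := normal_iff_normalizer.mpr fun x => hX (Subgroup.mem_top x)
  refine (Subgroup.commutator_mono le_rfl (Subgroup.zpowers_le.mpr
    (show g ∈ X.comap f from hgX))).trans (chief_commutator_le_of_pow h hU fun x hx => ?_)
  obtain ⟨k, hk⟩ := hXp _ hx
  refine ⟨k, mem_cmod_normal.mpr fun u hu => ?_⟩
  rw [← QuotientGroup.eq_one_iff, ← QuotientGroup.mk'_apply, map_commutatorElement,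
    commutatorElement_eq_one_iff_mul_comm, eq_comm, map_pow]
  exact hk _ (Subgroup.mem_map_of_mem f hu)

theorem kinf_normal_top (hp3 : 3 < p) (htop : G ⊔ R = ⊤) (hR : IsPGroup r R)
    (cop : (Nat.card G).Coprime r) (hRG : R ≤ normalizer (G : Set Γ)) (hP : Inv p G R P)
    (hT : CfsgL0.pCoreOf p G ≤ P)
    (hC : G ⊓ centralizer (CfsgL0.pCoreOf p G : Set Γ) ≤ CfsgL0.pCoreOf p G) :
    (kLow P).Normal ∧ (kUp P).Normal := by
  haveI : G.Normal := normal_of_sup_top htop Subgroup.le_normalizer hRG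
  have hTp : IsPGroup p (CfsgL0.pCoreOf p G) := CfsgL0.isPGroup_pCoreOf
  obtain ⟨A, hA, h1, h2, -, -, h5⟩ := exists_critical hTp
  by_contra hK
  rw [not_and_or] at hK
  obtain ⟨g, hg, U, V, k1, k2, k3, k4⟩ := kinf_gen P _ A hTp hT h1 h2 (fun g hg hg' =>
    CfsgL0.le_pCoreOf (Q := chiefStab A ⊓ G) inf_le_right (le_normalizer_of_normal _)
      (isPGroup_of_forall_coprime fun x hx hc => CfsgH1.eq_one_of_mem_pgroup_of_coprime hTp
        (hC ⟨hx.2, h5 x hc (mem_centralizer_of_mem_chiefStab (hTp.to_le h1) hx.1 hc)⟩) hc)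
      ⟨hg', hP.le hg⟩) hK
  exact k4 (chief_trivial_of_quadratic hp3 htop hR cop hRG hP k1 (hTp.to_le (k2.trans h1)) hg k3)

/-- The equivariant ZJ theorem. -/
theorem kinf_normal (hp3 : 3 < p) (hR : IsPGroup r R)
    (cop : (Nat.card G).Coprime r) (hRG : R ≤ normalizer (G : Set Γ)) (hP : Inv p G R P)
    (hT : CfsgL0.pCoreOf p G ≤ P)
    (hC : G ⊓ centralizer (CfsgL0.pCoreOf p G : Set Γ) ≤ CfsgL0.pCoreOf p G) :
    G ≤ normalizer (kLow P : Set Γ) ∧ G ≤ normalizer (kUp P : Set Γ) := by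
  have hPK : P ≤ G ⊔ R := hP.le.trans le_sup_left
  have e := CfsgL0.pCoreOf_subgroupOf (p := p) (le_sup_left : G ≤ G ⊔ R)
  obtain ⟨h1, h2⟩ := kinf_normal_top (r := r) hp3 (G := G.subgroupOf (G ⊔ R)) (R := R.subgroupOf _)
    (P := P.subgroupOf _)
    (by rw [← Subgroup.subgroupOf_sup le_sup_left le_sup_right, Subgroup.subgroupOf_self])
    hR.comap_subtype (by rwa [CfsgL0.card_subgroupOf_of_le le_sup_left])
    (subgroupOf_le_normalizer hRG _) (hP.subgroupOf le_sup_right)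
    (e ▸ Subgroup.comap_mono hT) (by
      rw [← e]
      exact fun g hg => hC ⟨hg.1, fun a ha => congrArg Subtype.val
        (hg.2 ⟨a, Subgroup.mem_sup_left (CfsgL0.pCoreOf_le ha)⟩ ha)⟩)
  have k1 := CfsgL0.le_normalizer_map_subtype (kLow (P.subgroupOf (G ⊔ R)))
  have k2 := CfsgL0.le_normalizer_map_subtype (kUp (P.subgroupOf (G ⊔ R)))
  rw [map_kLow (Subgroup.subtype_injective _), Subgroup.map_subgroupOf_eq_of_le hPK] at k1
  rw [map_kUp (Subgroup.subtype_injective _), Subgroup.map_subgroupOf_eq_of_le hPK] at k2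
  exact ⟨le_sup_left.trans k1, le_sup_left.trans k2⟩

end CfsgH3.FQ
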