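import Cfsg.Agent.H3.Four3

/-! An involution whose centralizer has cyclic Sylow subgroups of order four. -/

set_option autoImplicit false

namespace CfsgH3.Four

open Subgroup CfsgH1
open scoped commutatorElement

variable {G : Type*} [Group G]

structure Hy (A X T : Subgroup G) (t r : G) : Prop extends St A X T where
  tT : t ∈ T
  tt : t * t = 1
  cov : ∀ x ∈ X, x ∈ A ∨ x * t⁻¹ ∈ A
  ns : ¬ Group.IsSolvable A
  rR : r ∈ T ⊓ A
  r2 : r ^ 2 ≠ 1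
  r4 : r ^ 4 = 1
  tr : t * r * t⁻¹ = r
  cent : ∀ x ∈ T ⊓ A, t * x * t⁻¹ = x → x ∈ zpowers r
  rk : Cfsg.PRankLE 2 1 (A ⊓ centralizer {t} : Subgroup G)

namespace Hy

variable {A X T : Subgroup G} {t r : G} (h : Hy A X T t r)
include h

theorem nA {g a : G} (hg : g ∈ X) (ha : a ∈ A) : g * a * g⁻¹ ∈ A :=
  (mem_normalizer_iff.1 (h.nm hg) a).1 ha

theorem rk' {k x y : G} (hk : k ∈ X) (hx : x ∈ A) (hy : y ∈ A) (x1 : x ≠ 1) (y1 : y ≠ 1)
    (xx : x * x = 1) (yy : y * y = 1) (c : x * y = y * x)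
    (h1 : (k * t * k⁻¹) * x * (k * t * k⁻¹)⁻¹ = x) (h2 : (k * t * k⁻¹) * y * (k * t * k⁻¹)⁻¹ = y) :
    y = x := by
  have key : ∀ a ∈ A, (k * t * k⁻¹) * a * (k * t * k⁻¹)⁻¹ = a →
      k⁻¹ * a * k⁻¹⁻¹ ∈ A ⊓ centralizer {t} := fun a ha e =>
    ⟨h.nA (inv_mem hk) ha, mem_centralizer_singleton_iff.2 (by
      conv_lhs => rw [← e]
      group)⟩
  have := eq_of_rank h.rk (key x hx h1) (key y hy h2) (fun e => x1 (conj_eq_one e))
    (fun e => y1 (conj_eq_one e)) (by rw [conj_mul, xx]; group) (by rw [conj_mul, yy]; group)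
    (by rw [conj_mul, conj_mul, c])
  simpa using this

theorem hsq {b : G} (c : CY2 T (T ⊓ A) b) : ∀ x ∈ T, x ^ 2 ∈ zpowers b := fun x hx => by
  rcases h.cov x (h.syl.le hx) with e | e
  · simpa using h.toSt.sq_mem c ⟨hx, e⟩ (one_mem T) (mul_one 1)
  · simpa using h.toSt.sq_mem c ⟨T.mul_mem hx (T.inv_mem h.tT), e⟩ h.tT h.tt

variable [Finite G]

theorem caseC' {b : G} (c : CY2 T (T ⊓ A) b) {y : G} (hy : y ∈ T ⊓ A) (yB : y ∉ zpowers b)
    (yy : y * y = 1) {k w : G} (hk : k ∈ X) (hT : k * t * k⁻¹ ∈ T) (hw : w ∈ zpowers b)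
    (w2 : w ^ 2 ≠ 1) (w4 : w ^ 4 = 1) (hc : (k * t * k⁻¹) * w * (k * t * k⁻¹)⁻¹ = w) : False := by
  have h1 := h.toSt.caseC c (h.hsq c) hy yB yy hT (by rw [conj_mul, h.tt]; group)
    (cent_all hw w2 w4 hc)
  have zz : w ^ 2 * w ^ 2 = 1 := by rw [← pow_add]; exact w4
  have h2 := c.inv y hy yB (w ^ 2) (pow_mem hw 2)
    (by rw [← pow_mul, mul_comm, pow_mul, w4, one_pow])
  rw [inv_eq_of_mul_eq_one_right zz, mul_inv_eq_iff_eq_mul] at h2
  have h3 := h.rk' hk (pow_mem (zpowers_le.2 c.bR hw).2 2) hy.2 w2 (fun e => yB (e ▸ one_mem _))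
    zz yy h2.symm (by rw [← conj_pow, hc]) h1
  exact yB (h3 ▸ pow_mem hw 2)

theorem move {N : Subgroup G} {g w : G} (hg : g ∈ A) (e : g * r * g⁻¹ = w)
    (hw : ∀ g ∈ T, g * w * g⁻¹ ∈ zpowers w) :
    ∃ k ∈ X, k * t * k⁻¹ ∈ T ∧ (k * t * k⁻¹) * w * (k * t * k⁻¹)⁻¹ = w := by
  have _ := N
  obtain ⟨k, hk, h1, h2⟩ := move_t h.syl hw (t := g * t * g⁻¹)
    (X.mul_mem (X.mul_mem (h.le hg) (h.syl.le h.tT)) (X.inv_mem (h.le hg)))
    (by rw [conj_mul, h.tt]; group) (by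
      rw [← e]
      calc g * t * g⁻¹ * (g * r * g⁻¹) * (g * t * g⁻¹)⁻¹ = g * (t * r * t⁻¹) * g⁻¹ := by group
        _ = _ := by rw [h.tr])
  have e2 : k * g * t * (k * g)⁻¹ = k * (g * t * g⁻¹) * k⁻¹ := by group
  exact ⟨k * g, mul_mem hk (h.le hg), by rwa [e2], by rwa [e2]⟩

theorem caseI {b : G} (c : CY2 T (T ⊓ A) b) {y : G} (hy : y ∈ T ⊓ A) (yB : y ∉ zpowers b)
    (yy : y * y = 1) : False := by
  obtain ⟨m, hm⟩ := pow_of_mem h.syl.pgroup c.bR.1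
  obtain ⟨w, hw, w2, w4⟩ := exists_four hm (c.big y hy yB)
  have yi : y⁻¹ = y := inv_eq_of_mul_eq_one_right yy
  have zz : w ^ 2 * w ^ 2 = 1 := by rw [← pow_add]; exact w4
  have hz : w ^ 2 ∈ zpowers b := pow_mem hw 2
  by_cases rB : r ∈ zpowers b
  · exact h.caseC' c hy yB yy (one_mem X) (by simpa using h.tT) rB h.r2 h.r4 (by simpa using h.tr)
  have ny : ∀ β ∈ zpowers b, y * β * y⁻¹ ∈ zpowers b := fun β hβ => conj_mem_zp (c.nb y hy.1) hβ
  have hφ : ∀ β ∈ zpowers b, ∀ γ ∈ zpowers b,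
      β * γ * (y * (β * γ) * y⁻¹) = (β * (y * β * y⁻¹)) * (γ * (y * γ * y⁻¹)) := fun β hβ γ hγ => by
    rw [← conj_mul, mul_assoc β, ← mul_assoc γ, comm_zp hγ (ny β hβ)]; group
  have hφy : ∀ β ∈ zpowers b, y * β * y⁻¹ * (y * (y * β * y⁻¹) * y⁻¹) = β * (y * β * y⁻¹) :=
    fun β hβ => by
      rw [comm_zp hβ (ny β hβ)]; congr 1
      calc y * (y * β * y⁻¹) * y⁻¹ = (y * y) * β * (y * y)⁻¹ := by group
        _ = β := by rw [yy]; group
  have hφ2 : ∀ β ∈ zpowers b, β * (y * β * y⁻¹) = 1 ∨ β * (y * β * y⁻¹) = w ^ 2 := fun β hβ => by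
    refine inv_unique hz (mul_mem hβ (ny β hβ)) w2 zz ?_
    by_contra hne
    obtain ⟨v, hv, v2, v4⟩ := exists_four (b := β * (y * β * y⁻¹)) (m := m)
      (CfsgH2.pow_eq_one_of_mem_zpowers hm _ (mul_mem hβ (ny β hβ))) (by rwa [sq])
    have a1 := c.inv y hy yB v (zpowers_le.2 (mul_mem hβ (ny β hβ)) hv) v4
    rw [fix_zp (by rw [← conj_mul, hφy β hβ]) hv] at a1
    apply v2; rw [sq]; nth_rewrite 1 [a1]; exact inv_mul_cancel v
  let K : Subgroup G :=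
    { carrier := {β | β ∈ zpowers b ∧ β * (y * β * y⁻¹) = 1}
      one_mem' := ⟨one_mem _, by group⟩
      mul_mem' := fun {β γ} hβ hγ => ⟨mul_mem hβ.1 hγ.1, by rw [hφ β hβ.1 γ hγ.1, hβ.2, hγ.2, mul_one]⟩
      inv_mem' := fun {β} hβ => ⟨inv_mem hβ.1, by
        have := hφ β hβ.1 _ (inv_mem hβ.1)
        rw [hβ.2, one_mul] at this
        rw [← this]; group⟩ }
  have hK : ∀ β, β ∈ K ↔ β ∈ zpowers b ∧ β * (y * β * y⁻¹) = 1 := fun _ => Iff.rfl
  have hyK : y ∈ normalizer (K : Set G) := mem_normalizer_of_cj_le (cj_le_iff.2 fun β hβ =>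
    ⟨ny β hβ.1, by rw [hφy β hβ.1, hβ.2]⟩)
  have hM := fun ρ => mem_sup2 (ρ := ρ) hyK (by rw [yy]; exact one_mem _)
  have sqy : ∀ v : G, v * y⁻¹ * (y * (v * y⁻¹) * y⁻¹) = v * v := fun v => by
    calc v * y⁻¹ * (y * (v * y⁻¹) * y⁻¹) = v * v * (y * y)⁻¹ := by group
      _ = _ := by rw [yy]; group
  have hdec : ∀ x ∈ T ⊓ A, x ∉ K ⊔ zpowers y → ∃ β ∈ zpowers b, β * (y * β * y⁻¹) = w ^ 2 ∧
      (x = β ∨ x = β * y) := fun x hx hxM => by
    rw [hM, not_or] at hxM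
    by_cases e : x ∈ zpowers b
    · exact ⟨x, e, (hφ2 x e).resolve_left fun e' => hxM.1 ⟨e, e'⟩, Or.inl rfl⟩
    · have e1 : x * y⁻¹ ∈ zpowers b := by rw [yi]; exact c.two x hx y hy e yB
      exact ⟨_, e1, (hφ2 _ e1).resolve_left fun e' => hxM.2 ⟨e1, e'⟩, Or.inr (by group)⟩
  have rM : r ∉ K ⊔ zpowers y := fun e => by
    rcases (hM r).1 e with e | e
    · exact rB e.1
    · exact h.r2 (by rw [sq, ← sqy, e.2])
  have hidx : (K ⊔ zpowers y).relIndex (T ⊓ A) = 2 := relIndex_two h.rR rM fun x hx x' hx' e e' => by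
    obtain ⟨β, hβ, a1, a2⟩ := hdec x hx e
    obtain ⟨γ, hγ, a3, a4⟩ := hdec x' hx' e'
    have k1 : β * γ ∈ K := ⟨mul_mem hβ hγ, by rw [hφ β hβ γ hγ, a1, a3, zz]⟩
    have k2 : β * (y * γ * y⁻¹) ∈ K :=
      ⟨mul_mem hβ (ny γ hγ), by rw [hφ β hβ _ (ny γ hγ), hφy γ hγ, a1, a3, zz]⟩
    have ym : y ∈ K ⊔ zpowers y := mem_sup_right (mem_zpowers y)
    rcases a2 with rfl | rfl <;> rcases a4 with rfl | rfl
    · exact mem_sup_left k1
    · rw [← mul_assoc]; exact mul_mem (mem_sup_left k1) ym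
    · rw [show β * y * x' = β * (y * x' * y⁻¹) * y by group]; exact mul_mem (mem_sup_left k2) ym
    · rw [show β * y * (γ * y) = β * (y * γ * y⁻¹) * y * y by group]
      exact mul_mem (mul_mem (mem_sup_left k2) ym) ym
  obtain ⟨g, hg, hgr⟩ := tr4 h.noTwo h.toSt.sylR hidx h.rR.2 h.r4 fun g _ hv => by
    have vv : g * r ^ 2 * g⁻¹ * (g * r ^ 2 * g⁻¹) = 1 := by
      rw [conj_mul, ← pow_add, show 2 + 2 = 4 from rfl, h.r4]; group
    rw [hM]
    by_cases e : g * r ^ 2 * g⁻¹ ∈ zpowers b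
    · left
      refine ⟨e, ?_⟩
      rw [c.inv y hy yB _ e (by rw [show 4 = 2 * 2 from rfl, pow_mul, sq (g * _ * _), vv, one_pow]),
        mul_inv_cancel]
    · right
      exact ⟨by rw [yi]; exact c.two _ hv y hy e yB, by rw [sqy, vv]⟩
  have g2 : (g * r * g⁻¹) ^ 2 ≠ 1 := fun e => h.r2 (conj_eq_one (g := g) (by rwa [← conj_pow]))
  have g4 : (g * r * g⁻¹) ^ 4 = 1 := by rw [conj_pow, h.r4]; group
  have gB : g * r * g⁻¹ ∈ zpowers b := by
    rcases (hM _).1 hgr with e | e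
    · exact e.1
    · exact absurd (by rw [sq, ← sqy, e.2]) g2
  obtain ⟨k, hk, k1, k2⟩ := h.move (N := ⊥) hg rfl fun a ha => by
    rcases c.conj_four ha gB g2 g4 with e | e <;> rw [e]
    · exact mem_zpowers _
    · exact inv_mem (mem_zpowers _)
  exact h.caseC' c hy yB yy hk k1 gB g2 g4 k2

end Hy

/-- the four-group -/
def UU (z u : G) : Subgroup G := zpowers z ⊔ zpowers u

namespace NF4

variable {T R : Subgroup G} {z u : G} (n : NF4 T R z u) (hRT : R ≤ T)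
include n

theorem z2 {a : G} (ha : a ∈ zpowers z) : a = 1 ∨ a = z :=
  CfsgH2.eq_or_eq_of_mem_zpowers_two (by rw [sq, n.zz]) ha

theorem zc {g : G} (hg : g ∈ T) : g * z = z * g := mul_inv_eq_iff_eq_mul.1 (n.cz g hg)

theorem ne_uz : u * z ≠ u := fun e => n.z1 (by simpa using e)

theorem fix_mul {g k : G} (hg : g ∈ T) (h1 : g * u * g⁻¹ = u * z) (h2 : k * u * k⁻¹ = u * z) :
    (g * k) * u * (g * k)⁻¹ = u := by
  calc g * k * u * (g * k)⁻¹ = g * (k * u * k⁻¹) * g⁻¹ := by group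
    _ = (g * u * g⁻¹) * (g * z * g⁻¹) := by rw [h2]; group
    _ = u := by rw [h1, n.cz g hg, mul_assoc, n.zz, mul_one]

theorem fix_sq {g : G} (hg : g ∈ T) : (g * g) * u * (g * g)⁻¹ = u := by
  rcases n.cu g hg with e | e
  · calc g * g * u * (g * g)⁻¹ = g * (g * u * g⁻¹) * g⁻¹ := by group
      _ = u := by rw [e, e]
  · exact n.fix_mul hg e e

theorem fix_comm {g k : G} (hg : g ∈ T) (hk : k ∈ T) : ⁅g, k⁆ * u * ⁅g, k⁆⁻¹ = u := by
  have key : ∀ a ∈ T, a * u * a⁻¹ = u * z → a⁻¹ * u * a⁻¹⁻¹ = u * z := fun a ha e =>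
    (n.cu _ (inv_mem ha)).resolve_left fun e' => n.ne_uz (by
      rw [← e]; nth_rewrite 1 [← e']; group)
  have key' : ∀ a : G, a * u * a⁻¹ = u → a⁻¹ * u * a⁻¹⁻¹ = u := fun a e => by
    nth_rewrite 1 [← e]; group
  have cz : ∀ a ∈ T, ∀ v : G, a * (v * z) * a⁻¹ = a * v * a⁻¹ * z := fun a ha v => by
    rw [← conj_mul, n.cz a ha]
  have e0 : ⁅g, k⁆ * u * ⁅g, k⁆⁻¹ = g * (k * (g⁻¹ * (k⁻¹ * u * k⁻¹⁻¹) * g⁻¹⁻¹) * k⁻¹) * g⁻¹ := by
    rw [commutatorElement_def]; group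
  rw [e0]
  have zz : ∀ v : G, v * z * z = v := fun v => by rw [mul_assoc, n.zz, mul_one]
  rcases n.cu g hg with e | e <;> rcases n.cu k hk with e' | e'
  · rw [key' k e', key' g e, e', e]
  · rw [key k hk e', cz _ (inv_mem hg), key' g e, cz _ hk, e', zz, e]
  · rw [key' k e', key g hg e, cz _ hk, e', cz _ hg, e, zz]
  · rw [key k hk e', cz _ (inv_mem hg), key g hg e, zz, e', cz _ hg, e, zz]

include hRT

theorem zu : u * z = z * u := n.zc (hRT n.uR)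

theorem mem_UU [Finite G] {a : G} : a ∈ UU z u ↔ a = 1 ∨ a = z ∨ a = u ∨ a = u * z := by
  rw [UU, mem_sup2 (norm_zp (by rw [n.cz u (hRT n.uR)]; exact mem_zpowers z))
    (by rw [n.uu]; exact one_mem _)]
  constructor
  · rintro (e | e)
    · rcases n.z2 e with e | e <;> simp [e]
    · rcases n.z2 e with e | e
      · exact Or.inr (Or.inr (Or.inl (mul_inv_eq_one.1 e)))
      · exact Or.inr (Or.inr (Or.inr (by rw [n.zu hRT, ← e]; group)))
  · rintro (rfl | rfl | rfl | rfl)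
    · exact Or.inl (one_mem _)
    · exact Or.inl (mem_zpowers _)
    · exact Or.inr (by simp)
    · exact Or.inr (by rw [n.zu hRT]; simp)

theorem UU_le : UU z u ≤ R := sup_le (zpowers_le.2 n.zR) (zpowers_le.2 n.uR)

theorem UU_norm [Finite G] : T ≤ normalizer (UU z u : Set G) := fun g hg =>
  mem_normalizer_of_cj_le (by
    rw [UU, cj_sup, sup_le_iff, cj_le_iff, cj_le_iff]
    refine ⟨fun a ha => mem_sup_left (conj_mem_zp (by rw [n.cz g hg]; exact mem_zpowers z) ha),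
      fun a ha => ?_⟩
    obtain ⟨i, rfl⟩ := mem_zpowers_iff.1 ha
    rw [← conj_zpow]
    refine zpow_mem ?_ i
    rcases n.cu g hg with e | e <;> rw [e]
    · exact mem_sup_right (mem_zpowers u)
    · exact mul_mem (mem_sup_right (mem_zpowers u)) (mem_sup_left (mem_zpowers z)))

theorem UU_sq [Finite G] {a : G} (ha : a ∈ UU z u) : a * a = 1 := by
  rcases (n.mem_UU hRT).1 ha with rfl | rfl | rfl | rfl
  · exact mul_one 1
  · exact n.zz
  · exact n.uu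
  · rw [mul_assoc, ← mul_assoc z, ← n.zu hRT, mul_assoc, n.zz, mul_one, n.uu]

theorem UU_fix [Finite G] {a g : G} (ha : a ∈ UU z u) (hg : g ∈ T) (e : g * u * g⁻¹ = u) :
    g * a * g⁻¹ = a := by
  rcases (n.mem_UU hRT).1 ha with rfl | rfl | rfl | rfl
  · group
  · exact n.cz g hg
  · exact e
  · rw [← conj_mul, e, n.cz g hg]

end NF4

end CfsgH3.Four
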