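import Cfsg.Agent.H3.Four4

/-! An involution whose centralizer has cyclic Sylow subgroups of order four: the main case. -/

set_option autoImplicit false

namespace CfsgH3.Four

open Subgroup CfsgH1
open scoped commutatorElement

variable {G : Type*} [Group G] [Finite G]

namespace Hy

variable {A X T : Subgroup G} {t r z u : G} (h : Hy A X T t r) (n : NF4 T (T ⊓ A) z u)
include h n

theorem rz : r ^ 2 = z :=
  ((inv_unique (h.cent z n.zR (n.cz t h.tT)) (pow_mem (mem_zpowers r) 2) n.z1 n.zz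
    (by rw [← pow_add]; exact h.r4)).resolve_left h.r2)

omit [Finite G] in
theorem tu : t * u * t⁻¹ = u * z := (n.cu t h.tT).resolve_left fun e =>
  n.uz (h.rk' (one_mem X) n.zR.2 n.uR.2 n.z1 n.u1 n.zz n.uu (n.zu inf_le_left).symm
    (by simpa using n.cz t h.tT) (by simpa using e))

theorem tA : t ∉ A := fun e => by
  have h1 := h.cent t ⟨h.tT, e⟩ (by group)
  have h2 := h.tu n
  rcases inv_unique (pow_mem (mem_zpowers r) 2) h1 h.r2 (by rw [← pow_add]; exact h.r4) h.tt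
    with e | e
  · rw [e] at h2; exact n.ne_uz (by simpa using h2.symm)
  · rw [e, h.rz n, ← n.zu inf_le_left, mul_inv_cancel_right] at h2
    exact n.ne_uz h2.symm

theorem keyK {x : G} (hx : x ∈ T ⊓ A) (hc : ⁅x, t⁆ ∈ UU z u) :
    x ∈ UU z u ∨ x * r⁻¹ ∈ UU z u := by
  have hr : ∀ a ∈ zpowers r, a ∈ UU z u ∨ a * r⁻¹ ∈ UU z u := fun a ha => by
    have hz : r ^ (2 : ℤ) ∈ UU z u := by
      rw [zpow_two, ← sq, h.rz n]; exact mem_sup_left (mem_zpowers z)
    obtain ⟨i, rfl⟩ := mem_zpowers_iff.1 ha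
    rcases Int.even_or_odd' i with ⟨j, rfl | rfl⟩
    · left; rw [zpow_mul]; exact zpow_mem hz j
    · right; rw [zpow_add_one, mul_inv_cancel_right, zpow_mul]; exact zpow_mem hz j
  have ti : t⁻¹ = t := inv_eq_of_mul_eq_one_right h.tt
  have h1 : t * ⁅x, t⁆ * t⁻¹ = ⁅x, t⁆ := by
    rw [← inv_eq_of_mul_eq_one_right (n.UU_sq inf_le_left hc), commutatorElement_def]
    calc t * (x * t * x⁻¹ * t⁻¹)⁻¹ * t⁻¹ = (t * t) * x * t⁻¹ * x⁻¹ * t⁻¹ := by group
      _ = x * t * x⁻¹ * t⁻¹ := by rw [h.tt, ti]; group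
      _ = _ := by
        rw [← commutatorElement_def, inv_eq_of_mul_eq_one_right (n.UU_sq inf_le_left hc)]
  have tu := h.tu n
  rcases (n.mem_UU inf_le_left).1 hc with e | e | e | e
  · exact hr x (h.cent x hx (by rw [← (CfsgH2.comm_eq_one_iff.1 e).eq]; group))
  · have e3 : t * x * t⁻¹ = z * x := by
      rw [← inv_eq_of_mul_eq_one_right n.zz, ← e, commutatorElement_def]; group
    have := hr _ (h.cent (u * x) (mul_mem n.uR hx) (by
      rw [← conj_mul, tu, e3, mul_assoc, ← mul_assoc z, n.zz, one_mul]))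
    have hu : u ∈ UU z u := mem_sup_right (mem_zpowers u)
    rwa [mul_assoc, mul_mem_cancel_left hu, mul_mem_cancel_left hu] at this
  · rw [e, tu] at h1; exact absurd h1 n.ne_uz
  · rw [e, ← conj_mul, tu, n.cz t h.tT, mul_assoc, n.zz, mul_one] at h1
    exact absurd h1.symm n.ne_uz

theorem rU : r ∉ UU z u := fun e => h.r2 (by rw [sq, n.UU_sq inf_le_left e])

theorem split : (∃ b ∈ T ⊓ A, ∀ x ∈ T ⊓ A, ∃ i : ℤ, x * (b ^ i)⁻¹ ∈ UU z u) ∨
    ∃ x ∈ T ⊓ A, (∀ i : ℤ, x * (⁅x, t⁆ ^ i)⁻¹ ∉ UU z u) ∧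
      (∀ y ∈ T ⊓ A, (∃ i : ℤ, y * (⁅x, t⁆ ^ i)⁻¹ ∈ UU z u) ∨
        ∃ i : ℤ, y * x⁻¹ * (⁅x, t⁆ ^ i)⁻¹ ∈ UU z u) ∧ ∃ i : ℤ, r * (⁅x, t⁆ ^ i)⁻¹ ∈ UU z u := by
  haveI hU : ((UU z u).subgroupOf T).Normal :=
    normal_subgroupOf_of_le_normalizer (n.UU_norm inf_le_left)
  haveI hR : ((T ⊓ A).subgroupOf T).Normal := normal_subgroupOf_of_le_normalizer h.toSt.nR'
  let π := QuotientGroup.mk' ((UU z u).subgroupOf T)
  have hπ : Function.Surjective π := QuotientGroup.mk'_surjective _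
  haveI : (((T ⊓ A).subgroupOf T).map π).Normal := hR.map π hπ
  have heq : ∀ a b : T, π a = π b ↔ (a : G) * (b : G)⁻¹ ∈ UU z u := fun a b => by
    simp only [π, QuotientGroup.mk'_apply]
    rw [QuotientGroup.eq_iff_div_mem, div_eq_mul_inv]; rfl
  have hzp : ∀ a b : T, π a ∈ zpowers (π b) ↔ ∃ i : ℤ, (a : G) * ((b : G) ^ i)⁻¹ ∈ UU z u :=
    fun a b => by
      rw [mem_zpowers_iff]
      refine exists_congr fun i => ?_
      rw [← map_zpow, eq_comm, heq]; rfl
  let t' : T := ⟨t, h.tT⟩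
  let r' : T := ⟨r, h.rR.1⟩
  rcases small_cent (T := ⊤) (R := ((T ⊓ A).subgroupOf T).map π) (t := π t') (ρ := π r')
    ((h.syl.pgroup.of_surjective π hπ).to_subgroup ⊤) le_top (le_normalizer_of_normal _) (mem_top _)
    (by rw [← map_mul, show t' * t' = 1 from Subtype.ext h.tt, map_one]) (by
      rintro _ ⟨x, hx, rfl⟩ e
      rw [← map_mul, ← map_inv, ← map_mul, eq_comm, heq] at e
      rcases h.keyK n hx (by
        rw [commutatorElement_def]; simpa [t', mul_assoc] using e) with e | e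
      · left; rw [← map_one π, heq]; simpa using e
      · right; rw [heq]; exact e) with ⟨_, ⟨b, hb, rfl⟩, h1⟩ | ⟨_, ⟨x, hx, rfl⟩, h1, h2, h3⟩
  · exact Or.inl ⟨b, hb, fun x hx => (hzp ⟨x, hx.1⟩ b).1 (h1 _ ⟨⟨x, hx.1⟩, hx, rfl⟩)⟩
  · rw [← map_commutatorElement] at h1 h2 h3
    refine Or.inr ⟨x, hx, fun i hi => h1 ((hzp _ _).2 ⟨i, hi⟩), fun y hy => ?_, (hzp _ _).1 h3⟩
    rcases h2 _ ⟨⟨y, hy.1⟩, hy, rfl⟩ with e | e
    · exact Or.inl ((hzp _ _).1 e)
    · rw [← map_inv, ← map_mul] at e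
      exact Or.inr ((hzp _ _).1 e)

theorem caseCyc {x : G} (hx : x ∈ T ⊓ A) (hc : ∀ y ∈ T ⊓ A, ∃ i : ℤ, y * (x ^ i)⁻¹ ∈ UU z u) :
    False := by
  have hRT : T ⊓ A ≤ T := inf_le_left
  have rz := h.rz n
  have zU : z ∈ UU z u := mem_sup_left (mem_zpowers z)
  have uU : u ∈ UU z u := mem_sup_right (mem_zpowers u)
  have ufix : ∀ a ∈ UU z u, a * u * a⁻¹ = u := fun a ha => by
    have := n.UU_fix hRT ha (hRT n.uR) (by group)
    rw [← mul_inv_eq_iff_eq_mul.1 this]; group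
  by_cases h2 : x * x ∈ UU z u
  · have hcov : ∀ y ∈ T ⊓ A, y ∈ UU z u ∨ y * x⁻¹ ∈ UU z u := fun y hy => by
      rw [← mem_sup2 (n.UU_norm hRT hx.1) h2]
      obtain ⟨i, hi⟩ := hc y hy
      rw [← inv_mul_cancel_right y (x ^ i)]
      exact mul_mem (mem_sup_left hi) (mem_sup_right (zpow_mem (mem_zpowers x) i))
    have hcov' : ∀ y ∈ T ⊓ A, y ∈ UU z u ∨ y * r⁻¹ ∈ UU z u := fun y hy => by
      refine (hcov y hy).imp_right fun e => ?_
      have := mul_mem e (inv_mem ((hcov r h.rR).resolve_left (h.rU n)))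
      rwa [show y * x⁻¹ * (r * x⁻¹)⁻¹ = y * r⁻¹ by group] at this
    have hcov2 : ∀ y ∈ T ⊓ A, y ∈ zpowers r ∨ u⁻¹ * y ∈ zpowers r := fun y hy => by
      have zr : z ∈ zpowers r := rz ▸ pow_mem (mem_zpowers r) 2
      have k1 : ∀ a ∈ UU z u, a ∈ zpowers r ∨ u⁻¹ * a ∈ zpowers r := fun a ha => by
        rcases (n.mem_UU hRT).1 ha with rfl | rfl | rfl | rfl
        · exact Or.inl (one_mem _)
        · exact Or.inl zr
        · exact Or.inr (by simp)
        · exact Or.inr (by simpa using zr)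
      rcases hcov' y hy with e | e
      · exact k1 y e
      · have := k1 _ e
        rwa [← mul_assoc, mul_mem_cancel_right (inv_mem (mem_zpowers r)),
          mul_mem_cancel_right (inv_mem (mem_zpowers r))] at this
    have ui : u⁻¹ = u := inv_eq_of_mul_eq_one_right n.uu
    rcases n.cu r h.rR.1 with e | e
    · have e' : u * r * u⁻¹ = r := by rw [← mul_inv_eq_iff_eq_mul.1 e]; group
      refine h.ns (meta_solv h.toSt.sylR n.uR h.rR (fun g hg => ?_) (fun y hy => ?_) ?_)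
      · have : g * u * g⁻¹ = u := by
          rcases hcov2 g hg with e1 | e1
          · rw [← mul_inv_eq_iff_eq_mul.1 (fix_zp e' e1)]; group
          · have := mul_inv_eq_iff_eq_mul.1 (fix_zp e' e1)
            calc g * u * g⁻¹ = u * (u⁻¹ * g * u) * g⁻¹ := by group
              _ = u := by rw [← this]; group
        rw [this]; exact mem_zpowers u
      · rcases hcov2 y hy with e1 | e1
        · obtain ⟨i, rfl⟩ := mem_zpowers_iff.1 e1
          exact ⟨i, by simp⟩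
        · obtain ⟨i, hi⟩ := mem_zpowers_iff.1 e1
          exact ⟨i, by rw [hi]; simp⟩
      · rw [rz]; intro e1
        rcases CfsgH2.eq_or_eq_of_mem_zpowers_two (by rw [sq, n.uu]) e1 with e2 | e2
        · exact n.z1 e2
        · exact n.uz e2.symm
    · have hi : u * r * u⁻¹ = r⁻¹ := by
        calc u * r * u⁻¹ = u * (r * u * r⁻¹) * r := by rw [ui]; group
          _ = r ^ 2 * r := by rw [e, ← mul_assoc, n.uu, one_mul, rz]
          _ = r⁻¹ := eq_inv_of_mul_eq_one_left (by rw [← pow_succ, ← pow_succ, h.r4])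
      have c : CY2 T (T ⊓ A) r := cy2_of_dih (fun _ hg _ ha => h.toSt.nR hg ha) h.rR hi n.uu h.r2
        fun y hy => (hcov2 y hy).imp_right fun e1 => by
          have := inv_zp hi e1
          rw [← mul_assoc, mul_inv_cancel, one_mul] at this
          rw [this]; exact inv_mem e1
      refine h.caseI c n.uR (fun e1 => ?_) n.uu
      exact (inv_unique (rz ▸ pow_mem (mem_zpowers r) 2) e1 n.z1 n.zz n.uu).elim n.u1 n.uz
  · obtain ⟨m, hm⟩ := pow_of_mem h.syl.pgroup hx.1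
    obtain ⟨k, hk⟩ := hc r h.rR
    have nU := fun g hg a => (mem_normalizer_iff.1 (n.UU_norm hRT (show g ∈ T from hg)) a).1
    have hke : Even k := by
      by_contra hko
      rw [Int.not_even_iff_odd] at hko
      apply h2
      have a1 : x ^ k * x ^ k ∈ UU z u := by
        have : x ^ k * x ^ k = (r * (x ^ k)⁻¹)⁻¹ * (r * (r * (x ^ k)⁻¹)⁻¹ * r⁻¹) * r ^ 2 := by
          rw [sq]; group
        rw [this, rz]
        exact mul_mem (mul_mem (inv_mem hk) (nU r h.rR.1 _ (inv_mem hk))) zU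
      have a2 := mem_zp_of_odd (b := x * x) (m := m) (by
        rw [(Commute.refl x).mul_pow, hm, mul_one]) hko
      rw [(Commute.refl x).mul_zpow] at a2
      exact zpowers_le.2 a1 a2
    obtain ⟨j, rfl⟩ := hke
    have xu : x ^ (j + j) * u * (x ^ (j + j))⁻¹ = u := by
      rw [zpow_add]; exact n.fix_sq (zpow_mem (hRT hx) j)
    have xU := fun a ha => n.UU_fix hRT (a := a) ha (zpow_mem (hRT hx) (j + j)) xu
    have a3 : x ^ (j + j) * x ^ (j + j) = z := by
      have b1 := xU _ hk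
      have b2 := n.UU_sq hRT hk
      rw [← rz, sq]
      calc x ^ (j + j) * x ^ (j + j) = (r * (x ^ (j + j))⁻¹ * (r * (x ^ (j + j))⁻¹)) *
            (x ^ (j + j) * x ^ (j + j)) := by rw [b2, one_mul]
        _ = r * (x ^ (j + j))⁻¹ * (x ^ (j + j) * (r * (x ^ (j + j))⁻¹) * (x ^ (j + j))⁻¹) *
            (x ^ (j + j) * x ^ (j + j)) := by rw [b1]
        _ = _ := by group
    have c2 : (u * x ^ (j + j)) ^ 2 = z := by
      rw [sq]
      calc u * x ^ (j + j) * (u * x ^ (j + j))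
          = u * (x ^ (j + j) * u * (x ^ (j + j))⁻¹) * (x ^ (j + j) * x ^ (j + j)) := by group
        _ = z := by rw [xu, n.uu, a3, one_mul]
    have zc : z ∈ zpowers (u * x ^ (j + j)) := c2 ▸ pow_mem (mem_zpowers _) 2
    refine h.ns (meta_solv h.toSt.sylR (c := u * x ^ (j + j)) (mul_mem n.uR (zpow_mem hx _)) hx
      (fun g hg => ?_) (fun y hy => ?_) fun e => ?_)
    · have b1 : g * x ^ (j + j) * g⁻¹ = x ^ (j + j) := by
        obtain ⟨i, hi⟩ := hc g hg
        have := mul_inv_eq_iff_eq_mul.1 (xU _ hi)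
        calc g * x ^ (j + j) * g⁻¹ = (g * (x ^ i)⁻¹ * x ^ (j + j)) * (g * (x ^ i)⁻¹)⁻¹ := by group
          _ = _ := by rw [← this]; group
      rw [← conj_mul, b1]
      rcases n.cu g hg.1 with e | e <;> rw [e]
      · exact mem_zpowers _
      · rw [mul_assoc, ← n.zc (zpow_mem (hRT hx) _), ← mul_assoc]
        exact mul_mem (mem_zpowers _) zc
    · obtain ⟨i, hi⟩ := hc y hy
      rcases (n.mem_UU hRT).1 hi with e | e | e | e
      · exact ⟨i, e ▸ one_mem _⟩
      · exact ⟨i, e ▸ zc⟩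
      · refine ⟨i - (j + j), ?_⟩
        rw [show y * (x ^ (i - (j + j)))⁻¹ = y * (x ^ i)⁻¹ * x ^ (j + j) by group, e]
        exact mem_zpowers _
      · refine ⟨i - (j + j), ?_⟩
        rw [show y * (x ^ (i - (j + j)))⁻¹ = y * (x ^ i)⁻¹ * x ^ (j + j) by group, e,
          mul_assoc, ← n.zc (zpow_mem (hRT hx) _), ← mul_assoc]
        exact mul_mem (mem_zpowers _) zc
    · have c4 : (u * x ^ (j + j)) ^ 4 = 1 := by
        rw [show 4 = 2 * 2 from rfl, pow_mul, c2, sq, n.zz]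
      by_cases b2 : (x ^ 2) ^ 2 = 1
      · rcases inv_unique zc e n.z1 n.zz (by rwa [← sq]) with e1 | e1
        · exact h2 (by rw [← sq, e1]; exact one_mem _)
        · exact h2 (by rw [← sq, e1]; exact zU)
      · have b3 : u * x ^ (j + j) ∈ zpowers x := by
          rcases four_cases c4 e b2 with e1 | e1
          · exact e1 ▸ pow_mem (mem_zpowers x) 2
          · rw [← inv_mem_iff, ← e1]; exact pow_mem (mem_zpowers x) 2
        rw [mul_mem_cancel_right (zpow_mem (mem_zpowers x) _)] at b3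
        have b4 : z ∈ zpowers x := a3 ▸ mul_mem (zpow_mem (mem_zpowers x) _) (zpow_mem (mem_zpowers x) _)
        exact (inv_unique b4 b3 n.z1 n.zz n.uu).elim n.u1 n.uz

end Hy

end CfsgH3.Four
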