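import Cfsg.Agent.H3.Four5

/-! An involution whose centralizer has cyclic Sylow subgroups of order four: the last case. -/

set_option autoImplicit false

namespace CfsgH3.Four

open Subgroup CfsgH1
open scoped commutatorElement

variable {G : Type*} [Group G] [Finite G]

structure Fn (R : Subgroup G) (t r z u b w x : G) : Prop where
  bR : b ∈ R
  xR : x ∈ R
  tb : t * b * t⁻¹ = b⁻¹
  ub : u * b * u⁻¹ = b
  wN : w ∈ zpowers b
  w2 : w ^ 2 = z
  ruw : r = u * w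
  uN : u ∉ zpowers b
  xB : x ∉ zpowers b ⊔ zpowers u
  cov : ∀ y ∈ R, y ∈ zpowers b ⊔ zpowers u ∨ y * x⁻¹ ∈ zpowers b ⊔ zpowers u
  xb : x * b * x⁻¹ = b⁻¹
  xx : x * x ∈ zpowers z
  tx : t * x * t⁻¹ = b⁻¹ * x

namespace Hy

variable {A X T : Subgroup G} {t r z u : G} (h : Hy A X T t r) (n : NF4 T (T ⊓ A) z u)
include h n

theorem exists_fn : ∃ b w x, Fn (T ⊓ A) t r z u b w x := by
  rcases h.split n with ⟨b, hb, hc⟩ | ⟨x, hx, h1, h2, k, h3⟩
  · exact (h.caseCyc n hb hc).elim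
  have hRT : T ⊓ A ≤ T := inf_le_left
  have ti : t⁻¹ = t := inv_eq_of_mul_eq_one_right h.tt
  have ui : u⁻¹ = u := inv_eq_of_mul_eq_one_right n.uu
  have zi : z⁻¹ = z := inv_eq_of_mul_eq_one_right n.zz
  have tu := h.tu n
  have bu := n.fix_comm (hRT hx) h.tT
  have tx : t * x * t⁻¹ = ⁅x, t⁆⁻¹ * x := by rw [commutatorElement_def]; group
  have bR : ⁅x, t⁆ ∈ T ⊓ A := by
    rw [commutatorElement_def, mul_assoc x, mul_assoc x]
    exact mul_mem hx (h.toSt.nR h.tT (inv_mem hx))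
  have tb : t * ⁅x, t⁆ * t⁻¹ = ⁅x, t⁆⁻¹ := by
    rw [commutatorElement_def]
    calc t * (x * t * x⁻¹ * t⁻¹) * t⁻¹ = t * x * t * x⁻¹ * (t * t)⁻¹ := by group
      _ = t * x * t⁻¹ * x⁻¹ := by rw [h.tt, ti]; group
      _ = _ := by group
  have xbx : x * ⁅x, t⁆ * x⁻¹ = x * x * (t * (x * x) * t⁻¹)⁻¹ * ⁅x, t⁆⁻¹ := by
    rw [commutatorElement_def]
    calc x * (x * t * x⁻¹ * t⁻¹) * x⁻¹ = x * x * t * x⁻¹ * x⁻¹ * (x * t⁻¹ * x⁻¹) := by group
      _ = x * x * t * x⁻¹ * x⁻¹ * t⁻¹ * t * (x * t⁻¹ * x⁻¹) := by group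
      _ = _ := by group
  generalize ⁅x, t⁆ = b at *
  obtain ⟨m, hm⟩ := pow_of_mem h.syl.pgroup bR.1
  have ub : u * b * u⁻¹ = b := by rw [← mul_inv_eq_iff_eq_mul.1 bu]; group
  have zb : z * b * z⁻¹ = b := by rw [← n.zc bR.1]; group
  have Ub : ∀ a ∈ UU z u, ∀ c ∈ zpowers b, a * c = c * a := fun a ha c hc => by
    have := n.UU_fix hRT ha bR.1 bu
    exact mul_inv_eq_iff_eq_mul.1 (fix_zp (by rw [← mul_inv_eq_iff_eq_mul.1 this]; group) hc)
  have bk : b ^ k ∈ zpowers b := zpow_mem (mem_zpowers b) k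
  have a1 : (b ^ k) ^ 2 = z := by
    rw [← h.rz n, sq, sq]
    calc b ^ k * b ^ k = (r * (b ^ k)⁻¹ * (r * (b ^ k)⁻¹)) * (b ^ k * b ^ k) := by
          rw [n.UU_sq hRT h3, one_mul]
      _ = r * (b ^ k)⁻¹ * (r * (b ^ k)⁻¹ * b ^ k) * b ^ k := by group
      _ = _ := by rw [Ub _ h3 _ bk]; group
  have zN : z ∈ zpowers b := a1 ▸ pow_mem bk 2
  have uN : u ∉ zpowers b := fun e => (inv_unique zN e n.z1 n.zz n.uu).elim n.u1 n.uz
  obtain ⟨w, wN, w2, ruw⟩ : ∃ w ∈ zpowers b, w ^ 2 = z ∧ r = u * w := by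
    have rN : r ∉ zpowers b := fun e => by
      have := inv_zp tb e
      rw [h.tr] at this
      apply h.r2; rw [sq]; nth_rewrite 1 [this]; exact inv_mul_cancel r
    rcases (n.mem_UU hRT).1 h3 with e | e | e | e
    · exact absurd (mul_inv_eq_one.1 e ▸ bk) rN
    · exact absurd (mul_inv_eq_iff_eq_mul.1 e ▸ mul_mem zN bk) rN
    · exact ⟨_, bk, a1, mul_inv_eq_iff_eq_mul.1 e⟩
    · refine ⟨z * b ^ k, mul_mem zN bk, ?_, by rw [mul_inv_eq_iff_eq_mul.1 e, mul_assoc]⟩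
      rw [(show Commute z (b ^ k) from comm_zp zN bk).mul_pow, a1, sq, n.zz, one_mul]
  have un : u ∈ normalizer (zpowers b : Set G) := norm_zp (by rw [ub]; exact mem_zpowers b)
  have hB := fun y => mem_sup2 (ρ := y) un (by rw [n.uu]; exact one_mem _)
  have UB : UU z u ≤ zpowers b ⊔ zpowers u :=
    sup_le (zpowers_le.2 (mem_sup_left zN)) le_sup_right
  have hB' : ∀ y, y ∈ zpowers b ⊔ zpowers u ↔ ∃ i : ℤ, y * (b ^ i)⁻¹ ∈ UU z u := fun y => by
    constructor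
    · intro e
      rcases (hB y).1 e with e | e <;> obtain ⟨i, hi⟩ := mem_zpowers_iff.1 e
      · exact ⟨i, by rw [hi]; simp⟩
      · refine ⟨i, ?_⟩
        rw [← inv_mul_cancel_right y u, ← hi, ← Ub u (mem_sup_right (mem_zpowers u)) _
          (zpow_mem (mem_zpowers b) i), mul_inv_cancel_right]
        exact mem_sup_right (mem_zpowers u)
    · rintro ⟨i, hi⟩
      rw [← inv_mul_cancel_right y (b ^ i)]
      exact mul_mem (UB hi) (mem_sup_left (zpow_mem (mem_zpowers b) i))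
  have xB : x ∉ zpowers b ⊔ zpowers u := fun e => let ⟨i, hi⟩ := (hB' x).1 e; h1 i hi
  have cov : ∀ y ∈ T ⊓ A, y ∈ zpowers b ⊔ zpowers u ∨ y * x⁻¹ ∈ zpowers b ⊔ zpowers u :=
    fun y hy => (h2 y hy).imp (hB' _).2 (hB' _).2
  have x2B : x * x ∈ zpowers b ⊔ zpowers u :=
    (cov _ (mul_mem hx hx)).resolve_right (by rwa [mul_inv_cancel_right])
  by_cases x2N : x * x ∈ zpowers b
  · obtain ⟨j, hj⟩ := mem_zpowers_iff.1 x2N
    rcases Int.even_or_odd j with hje | hjo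
    · rw [inv_zp tb x2N, inv_inv] at xbx
      have a2 : x * b ^ j * x⁻¹ = b ^ j := by rw [hj]; group
      rw [← conj_zpow, xbx, ← hj] at a2
      have a3 : (b ^ j * b ^ j) ^ (j - 1) = 1 := by
        have : (b ^ j * b ^ j) ^ (j - 1) = (b ^ j * b ^ j * b⁻¹) ^ j * (b ^ j)⁻¹ := by
          rw [← zpow_add, ← zpow_sub_one, ← zpow_mul, ← zpow_mul, ← zpow_sub]; congr 1; ring
        rw [this, a2, mul_inv_cancel]
      have a4 := mem_zp_of_odd (b := b ^ j * b ^ j) (m := m)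
        (CfsgH2.pow_eq_one_of_mem_zpowers hm _ (by rw [hj]; exact mul_mem x2N x2N))
        (hje.sub_odd odd_one)
      rw [a3, zpowers_one_eq_bot, mem_bot, hj] at a4
      refine ⟨b, w, x, bR, hx, tb, ub, wN, w2, ruw, uN, xB, cov, by rw [xbx, a4, one_mul], ?_, tx⟩
      rcases inv_unique zN x2N n.z1 n.zz a4 with e | e <;> rw [e]
      · exact one_mem _
      · exact mem_zpowers _
    · have a2 : b ∈ zpowers x := by
        have := mem_zp_of_odd hm hjo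
        rw [hj] at this
        exact zpowers_le.2 (mul_mem (mem_zpowers x) (mem_zpowers x)) this
      refine (h.caseCyc n hx fun y hy => ?_).elim
      rcases h2 y hy with ⟨i, hi⟩ | ⟨i, hi⟩ <;>
        obtain ⟨l, hl⟩ := mem_zpowers_iff.1 (zpow_mem a2 i)
      · exact ⟨l, by rwa [hl]⟩
      · exact ⟨l + 1, by rwa [zpow_add_one, mul_inv_rev, ← mul_assoc, hl]⟩
  · have a2 := ((hB _).1 x2B).resolve_left x2N
    have a3 : x * b * x⁻¹ ∈ zpowers b := by
      have : t * (x * x) * t⁻¹ = (x * x * u⁻¹)⁻¹ * (u * z) := by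
        rw [← inv_zp tb a2, ← tu]; group
      rw [xbx, this, show x * x * ((x * x * u⁻¹)⁻¹ * (u * z))⁻¹ * b⁻¹ =
        x * x * u⁻¹ * (u * z⁻¹ * u⁻¹) * (x * x * u⁻¹) * b⁻¹ by generalize x * x = y; group]
      exact mul_mem (mul_mem (mul_mem a2 ((mem_normalizer_iff.1 un _).1 (inv_mem zN))) a2)
        (inv_mem (mem_zpowers b))
    have nB : zpowers b ⊔ zpowers u ≤ normalizer (zpowers b : Set G) :=
      sup_le le_normalizer (zpowers_le.2 un)
    have nR : ∀ g ∈ T ⊓ A, g ∈ normalizer (zpowers b : Set G) := fun g hg => by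
      rcases cov g hg with e | e
      · exact nB e
      · rw [← inv_mul_cancel_right g x]; exact mul_mem (nB e) (norm_zp a3)
    refine (h.ns (meta_solv h.toSt.sylR bR hx
      (fun g hg => (mem_normalizer_iff.1 (nR g hg) b).1 (mem_zpowers b)) (fun y hy => ?_)
      (by rwa [sq]))).elim
    have k1 : ∀ y ∈ zpowers b ⊔ zpowers u, y ∈ zpowers b ∨ y * (x * x)⁻¹ ∈ zpowers b := fun y hy =>
      ((hB y).1 hy).imp_right fun e => by
        have := mul_mem e (inv_mem a2)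
        rwa [show y * u⁻¹ * (x * x * u⁻¹)⁻¹ = y * (x * x)⁻¹ by group] at this
    rcases cov y hy with e | e <;> rcases k1 _ e with e | e
    · exact ⟨0, by simpa using e⟩
    · exact ⟨2, by rwa [zpow_two]⟩
    · exact ⟨1, by simpa using e⟩
    · exact ⟨3, by rwa [show y * (x ^ (3 : ℤ))⁻¹ = y * x⁻¹ * (x * x)⁻¹ by group]⟩

theorem caseII : False := by
  obtain ⟨b, w, x, f⟩ := h.exists_fn n
  have hRT : T ⊓ A ≤ T := inf_le_left
  have ti : t⁻¹ = t := inv_eq_of_mul_eq_one_right h.tt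
  have ui : u⁻¹ = u := inv_eq_of_mul_eq_one_right n.uu
  have zi : z⁻¹ = z := inv_eq_of_mul_eq_one_right n.zz
  have tu := h.tu n
  obtain ⟨m, hm⟩ := pow_of_mem h.syl.pgroup f.bR.1
  have zN : z ∈ zpowers b := f.w2 ▸ pow_mem f.wN 2
  have un : u ∈ normalizer (zpowers b : Set G) := norm_zp (by rw [f.ub]; exact mem_zpowers b)
  have hB := fun y => mem_sup2 (ρ := y) un (by rw [n.uu]; exact one_mem _)
  have uc : ∀ c ∈ zpowers b, u * c = c * u := fun c hc => mul_inv_eq_iff_eq_mul.1 (fix_zp f.ub hc)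
  have Bb : ∀ y ∈ zpowers b ⊔ zpowers u, y * b * y⁻¹ = b := fun y hy => by
    rcases (hB y).1 hy with e | e
    · rw [comm_zp e (mem_zpowers b)]; group
    · calc y * b * y⁻¹ = y * u⁻¹ * (u * b * u⁻¹) * (y * u⁻¹)⁻¹ := by group
        _ = b := by rw [f.ub, comm_zp e (mem_zpowers b)]; group
  have Bu : ∀ y ∈ zpowers b ⊔ zpowers u, y * u * y⁻¹ = u := fun y hy => by
    rcases (hB y).1 hy with e | e
    · rw [← uc y e]; group
    · calc y * u * y⁻¹ = y * u⁻¹ * u * (y * u⁻¹)⁻¹ := by group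
        _ = u := by rw [← uc _ e]; group
  have zw : z = w * w := by rw [← sq, f.w2]
  have w4 : w ^ 4 = 1 := by rw [show 4 = 2 * 2 from rfl, pow_mul, f.w2, sq, n.zz]
  have out : ∀ v ∈ T ⊓ A, v ∉ zpowers b ⊔ zpowers u → v * b * v⁻¹ = b⁻¹ ∧ v * v ∈ zpowers z ∧
      (∃ c ∈ zpowers b, t * v * t⁻¹ = c * c * b⁻¹ * v) ∧ v * u * v⁻¹ = x * u * x⁻¹ := by
    intro v hv vB
    have e := (f.cov v hv).resolve_left vB
    refine ⟨?_, ?_, ?_, ?_⟩
    · calc v * b * v⁻¹ = v * x⁻¹ * (x * b * x⁻¹) * (v * x⁻¹)⁻¹ := by group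
        _ = (v * x⁻¹ * b * (v * x⁻¹)⁻¹)⁻¹ := by rw [f.xb]; group
        _ = _ := by rw [Bb _ e]
    · rcases (hB _).1 e with e | e
      · have : v * v = v * x⁻¹ * (x * (v * x⁻¹) * x⁻¹) * (x * x) := by group
        rw [this, inv_zp f.xb e, mul_inv_cancel, one_mul]; exact f.xx
      · have : v * v = v * x⁻¹ * u⁻¹ * (u * (x * (v * x⁻¹ * u⁻¹) * x⁻¹)) * (x * u * x⁻¹) * (x * x) := by
          group
        rw [this, inv_zp f.xb e, uc _ (inv_mem e), mul_inv_cancel_left]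
        refine mul_mem ?_ f.xx
        rcases n.cu x f.xR.1 with e | e <;> rw [e]
        · rw [n.uu]; exact one_mem _
        · rw [← mul_assoc, n.uu, one_mul]; exact mem_zpowers z
    · rcases (hB _).1 e with e | e
      · refine ⟨_, inv_mem e, ?_⟩
        calc t * v * t⁻¹ = t * (v * x⁻¹) * t⁻¹ * (t * x * t⁻¹) := by group
          _ = (v * x⁻¹)⁻¹ * (b⁻¹ * (v * x⁻¹)⁻¹) * v := by rw [inv_zp f.tb e, f.tx]; group
          _ = _ := by rw [comm_zp (inv_mem (mem_zpowers b)) (inv_mem e)]; group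
      · refine ⟨(v * x⁻¹ * u⁻¹)⁻¹ * w, mul_mem (inv_mem e) f.wN, ?_⟩
        set c := v * x⁻¹ * u⁻¹ with hc
        have cw := comm_zp (inv_mem e) f.wN
        have cb := comm_zp (inv_mem (mem_zpowers b)) (inv_mem e)
        calc t * v * t⁻¹ = t * c * t⁻¹ * (t * u * t⁻¹) * (t * x * t⁻¹) := by rw [hc]; group
          _ = c⁻¹ * (u * (w * w * b⁻¹)) * x := by rw [inv_zp f.tb e, f.tx, tu, zw]; group
          _ = c⁻¹ * w * (w * (b⁻¹ * c⁻¹)) * v := by
            rw [uc _ (mul_mem (mul_mem f.wN f.wN) (inv_mem (mem_zpowers b))), hc]; group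
          _ = _ := by rw [cb, ← mul_assoc w, ← cw]; group
    · have zB : z ∈ zpowers b ⊔ zpowers u := mem_sup_left zN
      calc v * u * v⁻¹ = v * x⁻¹ * (x * u * x⁻¹) * (v * x⁻¹)⁻¹ := by group
        _ = _ := by
          rcases n.cu x f.xR.1 with e' | e' <;> rw [e']
          · exact Bu _ e
          · rw [← conj_mul, Bu _ e, n.cz _ (mul_mem hv.1 (inv_mem (hRT f.xR)))]
  have sqN : ∀ y ∈ T ⊓ A, y ^ 2 ∈ zpowers b := fun y hy => by
    rw [sq]
    by_cases e : y ∈ zpowers b ⊔ zpowers u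
    · rcases (hB _).1 e with e | e
      · exact mul_mem e e
      · rw [show y * y = y * u⁻¹ * (u * (y * u⁻¹)) * u by group, uc _ e, mul_assoc, mul_assoc _ u, n.uu,
          mul_one]
        exact mul_mem e e
    · exact zpowers_le.2 zN (out y hy e).2.1
  have sqa : ∀ g ∈ A, ∀ ρ ∈ A, ρ ^ 2 = z → ρ * (g * z * g⁻¹) * ρ⁻¹ = g * z * g⁻¹ →
      g * z * g⁻¹ = z := fun g hg ρ hρ e1 e2 =>
    sq_arg h.toSt.sylR (fun g hg => n.cz g hg.1) n.z1 n.zz (fun y hy y2 y4 =>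
      (inv_unique zN (sqN y hy) n.z1 n.zz (by rw [← pow_add]; exact y4)).resolve_left y2)
      hg hρ e1 e2
  have wR : w ∈ T ⊓ A := zpowers_le.2 f.bR f.wN
  have isoB : ∀ g ∈ A, g * z * g⁻¹ ∈ zpowers b ⊔ zpowers u → g * z * g⁻¹ = z := fun g hg e =>
    sqa g hg w wR.2 f.w2 (by rw [← mul_inv_eq_iff_eq_mul.1 (fix_zp (Bb _ e) f.wN)]; group)
  have uz : ∀ g ∈ A, g * u * g⁻¹ ≠ z := fun g hg e => by
    have e1 : g⁻¹ * z * g⁻¹⁻¹ = u := by rw [← e]; group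
    exact n.uz (e1.symm.trans (isoB _ (inv_mem hg) (by rw [e1]; exact mem_sup_right (mem_zpowers u))))
  have idx : ∀ v ∈ T ⊓ A, v ∉ zpowers b ⊔ zpowers u →
      (∀ ρ, ρ ∈ zpowers b ⊔ zpowers v ↔ ρ ∈ zpowers b ∨ ρ * v⁻¹ ∈ zpowers b) ∧
      (zpowers b ⊔ zpowers v).relIndex (T ⊓ A) = 2 := fun v hv vB => by
    have hM := fun ρ => mem_sup2 (ρ := ρ) (norm_zp (b := b) (g := v) (by
      rw [(out v hv vB).1]; exact inv_mem (mem_zpowers b))) (zpowers_le.2 zN (out v hv vB).2.1)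
    refine ⟨hM, relIndex_eq_two_iff_exists_notMem_and.2 ⟨u⁻¹, inv_mem n.uR, fun e => ?_,
      fun y hy => ?_⟩⟩
    · rcases (hM _).1 (inv_mem_iff.1 e) with e | e
      · exact f.uN e
      · exact vB (by
          have := mul_mem (inv_mem (mem_sup_left e : _ ∈ zpowers b ⊔ zpowers u))
            (mem_sup_right (mem_zpowers u))
          simpa using this)
    · by_cases e : y ∈ zpowers b ⊔ zpowers u
      · exact ((hB y).1 e).symm.imp mem_sup_left mem_sup_left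
      · have e1 := mul_mem ((f.cov y hy).resolve_left e) (inv_mem ((f.cov v hv).resolve_left vB))
        rw [show y * x⁻¹ * (v * x⁻¹)⁻¹ = y * v⁻¹ by group] at e1
        rcases (hB _).1 e1 with e1 | e1
        · exact Or.inr ((hM y).2 (Or.inr e1))
        · left
          rw [hM]; right
          rcases n.cu v hv.1 with e2 | e2
          · rwa [show y * u⁻¹ * v⁻¹ = y * v⁻¹ * (v * u * v⁻¹)⁻¹ by group, e2]
          · rw [show y * u⁻¹ * v⁻¹ = y * v⁻¹ * (v * u * v⁻¹)⁻¹ by group, e2, n.zu hRT, mul_inv_rev,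
              ← mul_assoc]
            exact mul_mem e1 (inv_mem zN)
  have cjN : ∀ v ∈ T ⊓ A, v ∉ zpowers b ⊔ zpowers u → ∀ c ∈ zpowers b,
      c * v * c⁻¹ = c * c * v := fun v hv vB c hc => by
    calc c * v * c⁻¹ = c * (v * c⁻¹ * v⁻¹) * v := by group
      _ = _ := by rw [inv_zp (out v hv vB).1 (inv_mem hc), inv_inv]
  have NA : zpowers b ≤ A := (zpowers_le.2 f.bR).trans inf_le_right
  have iso : ∀ g ∈ A, g * z * g⁻¹ ∈ T ⊓ A → g * z * g⁻¹ = z := fun g hg hv => by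
    by_cases vB : g * z * g⁻¹ ∈ zpowers b ⊔ zpowers u
    · exact isoB g hg vB
    obtain ⟨o1, -, ⟨c, hc, o3⟩, o4⟩ := out _ hv vB
    rcases n.cu x f.xR.1 with e | e
    · exfalso
      obtain ⟨hM, hi⟩ := idx _ hv vB
      obtain ⟨k, hk, k1⟩ := tr2 h.noTwo h.toSt.sylR hi n.uR.2 n.uu
      rcases (hM _).1 k1 with e1 | e1
      · rcases inv_unique zN e1 n.z1 n.zz (by rw [conj_mul, n.uu]; group) with e2 | e2
        · exact n.u1 (conj_eq_one e2)
        · exact uz k hk e2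
      · obtain ⟨i, hi⟩ := mem_zpowers_iff.1 e1
        rw [eq_mul_inv_iff_mul_eq] at hi
        rcases Int.even_or_odd' i with ⟨j, rfl | rfl⟩
        · have bj : b ^ j ∈ zpowers b := zpow_mem (mem_zpowers b) j
          rw [two_mul, zpow_add, ← cjN _ hv vB _ bj] at hi
          refine uz ((b ^ j * g)⁻¹ * k) (mul_mem (inv_mem (mul_mem (NA bj) hg)) hk) ?_
          calc (b ^ j * g)⁻¹ * k * u * ((b ^ j * g)⁻¹ * k)⁻¹
              = (b ^ j * g)⁻¹ * (k * u * k⁻¹) * (b ^ j * g) := by group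
            _ = z := by rw [← hi]; group
        · have bj : b ^ (j + 1) * c⁻¹ ∈ zpowers b := mul_mem (zpow_mem (mem_zpowers b) _) (inv_mem hc)
          have hv' := h.toSt.nR h.tT hv
          have vB' : t * (g * z * g⁻¹) * t⁻¹ ∉ zpowers b ⊔ zpowers u := fun e2 => vB (by
            rwa [o3, mul_mem_cancel_left (mem_sup_left
              (mul_mem (mul_mem hc hc) (inv_mem (mem_zpowers b))))] at e2)
          have a1 := cjN _ hv' vB' _ bj
          have a2 : b ^ (j + 1) * c⁻¹ * (b ^ (j + 1) * c⁻¹) * (t * (g * z * g⁻¹) * t⁻¹) =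
              k * u * k⁻¹ := by
            rw [← hi, o3]
            obtain ⟨l, rfl⟩ := mem_zpowers_iff.1 hc
            group
          rw [a2] at a1
          have tg : t * g * t⁻¹ ∈ A := h.nA (h.syl.le h.tT) hg
          refine uz ((b ^ (j + 1) * c⁻¹ * (t * g * t⁻¹))⁻¹ * k)
            (mul_mem (inv_mem (mul_mem (NA bj) tg)) hk) ?_
          calc (b ^ (j + 1) * c⁻¹ * (t * g * t⁻¹))⁻¹ * k * u *
                ((b ^ (j + 1) * c⁻¹ * (t * g * t⁻¹))⁻¹ * k)⁻¹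
              = (b ^ (j + 1) * c⁻¹ * (t * g * t⁻¹))⁻¹ * (k * u * k⁻¹) *
                (b ^ (j + 1) * c⁻¹ * (t * g * t⁻¹)) := by group
            _ = t * z * t⁻¹ := by rw [← a1]; group
            _ = z := n.cz t h.tT
    · refine sqa g hg r h.rR.2 (h.rz n) ?_
      have a1 : g * z * g⁻¹ * r * (g * z * g⁻¹)⁻¹ = r := by
        rw [f.ruw, ← conj_mul, o4, e, inv_zp o1 f.wN, zw]; group
      rw [← mul_inv_eq_iff_eq_mul.1 a1]; group
  by_cases hex : ∃ v ∈ T ⊓ A, v ∉ zpowers b ⊔ zpowers u ∧ v * v = 1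
  · obtain ⟨v, hv, vB, vv⟩ := hex
    obtain ⟨hM, hi⟩ := idx _ hv vB
    obtain ⟨g, hg, g1⟩ := tr4 h.noTwo h.toSt.sylR hi h.rR.2 h.r4 fun g hg e => by
      rw [h.rz n] at e ⊢
      rw [iso g hg e]; exact mem_sup_left zN
    have g2 : (g * r * g⁻¹) ^ 2 ≠ 1 := fun e => h.r2 (conj_eq_one (g := g) (by rwa [← conj_pow]))
    have gN : g * r * g⁻¹ ∈ zpowers b := ((hM _).1 g1).resolve_right fun e => g2 (by
      rw [sq, show g * r * g⁻¹ * (g * r * g⁻¹) = g * r * g⁻¹ * v⁻¹ * (v * (g * r * g⁻¹ * v⁻¹) * v⁻¹) *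
        (v * v) by group, inv_zp (out v hv vB).1 e, vv]; group)
    have pm : ∀ ρ ∈ T ⊓ A, ρ * b * ρ⁻¹ = b ∨ ρ * b * ρ⁻¹ = b⁻¹ := fun ρ hρ => by
      by_cases e : ρ ∈ zpowers b ⊔ zpowers u
      · exact Or.inl (Bb ρ e)
      · exact Or.inr (out ρ hρ e).1
    obtain ⟨k, hk, k1, k2⟩ := h.move (N := ⊥) hg rfl fun a ha => by
      have key : ∀ ρ ∈ T ⊓ A, ∀ s ∈ zpowers (g * r * g⁻¹), ρ * s * ρ⁻¹ ∈ zpowers (g * r * g⁻¹) :=
        fun ρ hρ s hs => by
          rcases pm ρ hρ with e | e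
          · rwa [fix_zp e (zpowers_le.2 gN hs)]
          · rw [inv_zp e (zpowers_le.2 gN hs)]; exact inv_mem hs
      rcases h.cov a (h.syl.le ha) with e | e
      · exact key a ⟨ha, e⟩ _ (mem_zpowers _)
      · have := key _ ⟨T.mul_mem ha (T.inv_mem h.tT), e⟩ _ (inv_mem (mem_zpowers _))
        rwa [← inv_zp f.tb gN, show a * t⁻¹ * (t * (g * r * g⁻¹) * t⁻¹) * (a * t⁻¹)⁻¹ =
          a * t⁻¹ * t * (g * r * g⁻¹) * (a * t⁻¹ * t)⁻¹ by group, inv_mul_cancel_right] at this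
    have k3 : k * t * k⁻¹ * t⁻¹ ∈ T ⊓ A := ⟨T.mul_mem k1 (T.inv_mem h.tT),
      (h.cov _ (h.syl.le k1)).resolve_left fun e => h.tA n (by
        have := h.nA (inv_mem hk) e
        rwa [show k⁻¹ * (k * t * k⁻¹) * k⁻¹⁻¹ = t by group] at this)⟩
    have k4 : k * t * k⁻¹ * t⁻¹ ∉ zpowers b ⊔ zpowers u := fun e => g2 (by
      have a1 := fix_zp (Bb _ e) (inv_mem gN)
      rw [← inv_zp f.tb gN, show k * t * k⁻¹ * t⁻¹ * (t * (g * r * g⁻¹) * t⁻¹) * (k * t * k⁻¹ * t⁻¹)⁻¹ =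
        k * t * k⁻¹ * (g * r * g⁻¹) * (k * t * k⁻¹)⁻¹ by group, k2, inv_zp f.tb gN] at a1
      rw [sq]; nth_rewrite 1 [a1]; exact inv_mul_cancel _)
    obtain ⟨o1, o2, ⟨c, hc, o3⟩, -⟩ := out _ k3 k4
    set ρ := k * t * k⁻¹ * t⁻¹ with hρ
    have cN : c * c * b⁻¹ ∈ zpowers b := mul_mem (mul_mem hc hc) (inv_mem (mem_zpowers b))
    have a1 : ρ * (t * ρ * t⁻¹) = 1 := by
      calc ρ * (t * ρ * t⁻¹) = k * (t * t) * k⁻¹ * (t * t)⁻¹ := by rw [hρ]; group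
        _ = 1 := by rw [h.tt]; group
    have a2 : c * c * b⁻¹ = ρ * ρ := by
      rw [o3, show ρ * (c * c * b⁻¹ * ρ) = ρ * (c * c * b⁻¹) * ρ⁻¹ * (ρ * ρ) by group,
        inv_zp o1 cN, inv_mul_eq_one] at a1
      exact a1
    have a3 : (c * c * b⁻¹) ^ 2 = 1 := by
      rw [a2]; exact CfsgH2.pow_eq_one_of_mem_zpowers (by rw [sq, n.zz]) _ o2
    obtain ⟨l, rfl⟩ := mem_zpowers_iff.1 hc
    have a4 := mem_zp_of_odd hm (k := 2 * l - 1) ⟨l - 1, by ring⟩
    rw [show b ^ (2 * l - 1) = b ^ l * b ^ l * b⁻¹ by group] at a4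
    exact n.z1 (f.w2 ▸ CfsgH2.pow_eq_one_of_mem_zpowers
      (CfsgH2.pow_eq_one_of_mem_zpowers a3 b a4) w f.wN)
  · push Not at hex
    obtain ⟨hM, hi⟩ := idx _ f.xR f.xB
    obtain ⟨k, hk, k1⟩ := tr2 h.noTwo h.toSt.sylR hi n.uR.2 n.uu
    have kk : k * u * k⁻¹ * (k * u * k⁻¹) = 1 := by rw [conj_mul, n.uu]; group
    rcases (hM _).1 k1 with e1 | e1
    · rcases inv_unique zN e1 n.z1 n.zz kk with e2 | e2
      · exact n.u1 (conj_eq_one e2)
      · exact uz k hk e2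
    · refine hex _ (sup_le (zpowers_le.2 f.bR) (zpowers_le.2 f.xR) k1) (fun e => f.xB ?_) kk
      have := mul_mem (inv_mem (mem_sup_left e1 : _ ∈ zpowers b ⊔ zpowers u)) e
      rwa [mul_inv_rev, inv_inv, inv_mul_cancel_right] at this

omit n in
theorem rank_one : Cfsg.PRankLE 2 1 A := by
  by_contra hr
  rcases nf4_or_cy2 h.syl.pgroup inf_le_left h.toSt.nR' with ⟨z, u, n⟩ | ⟨b, c⟩
  · exact h.caseII n
  · obtain ⟨y, hy, yB, yy⟩ := c.exists_inv (exists_two_in_sylow h.toSt.sylR hr)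
    exact h.caseI c hy yB yy

end Hy

end CfsgH3.Four
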