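import Cfsg.Agent.H3.PushAm2

/-! The pushing-up amalgam argument under weaker local hypotheses. -/

set_option autoImplicit false
set_option linter.unusedSectionVars false
set_option linter.style.haveILetI false

namespace CfsgH3.PB

open Subgroup Cfsg CfsgH1
open scoped commutatorElement

variable {G : Type*} [Group G]

/-- `P` together with any element of `P' \\ Q` generates `Y`. -/
def Gen (Y Q P P' : Subgroup G) : Prop := ∀ x ∈ P', x ∉ Q → ∀ K, P ≤ K → x ∈ K → Y ≤ K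

/-- The local structure at a vertex: `Y/Q ≅ SL₂(q)` acting on the natural module `V` (modulo
fixed points). -/
structure Loc (q : ℕ) (Y Q V : Subgroup G) : Prop where
  QP : ∀ P, IsSylowIn 2 P Y → Q ≤ P
  YQ : Y ≤ normalizer (Q : Set G)
  YV : Y ≤ normalizer (V : Set G)
  VQ : V ≤ Q
  QC : Q ≤ centralizer (V : Set G)
  pow : ∀ v ∈ V, v ^ 2 = 1
  cent : ∀ P, IsSylowIn 2 P Y → ∀ y ∈ P, y ∈ centralizer (V : Set G) → y ∈ Q
  omega : ∀ P, IsSylowIn 2 P Y → ∀ x ∈ P, x ∈ centralizer (P : Set G) → x ^ 2 = 1 → x ∈ V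
  idxQ : ∀ P, IsSylowIn 2 P Y → Q.relIndex P = q
  idxV : ∀ P, IsSylowIn 2 P Y → (centralizer (P : Set G)).relIndex V = q
  quad : ∀ P, IsSylowIn 2 P Y → ∀ v ∈ V, ∀ x ∈ P, ⁅v, x⁆ ∈ centralizer (P : Set G)
  fix : ∀ P, IsSylowIn 2 P Y → ∀ x ∈ P, x ∉ Q → ∀ v ∈ V, ⁅v, x⁆ ∈ centralizer (Y : Set G) →
    v ∈ centralizer (P : Set G)
  two : ∀ P, IsSylowIn 2 P Y → ∃ P', IsSylowIn 2 P' Y ∧ Gen Y Q P' P
  ne : V ≠ ⊥

theorem Loc.map [Finite G] {G' : Type*} [Group G'] {q : ℕ} {Y Q V : Subgroup G} (h : Loc q Y Q V)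
    {f : G →* G'} (hf : Function.Injective f) : Loc q (Y.map f) (Q.map f) (V.map f) := by
  have hc : ∀ (K : Subgroup G) (x : G), f x ∈ centralizer ((K.map f : Subgroup G') : Set G') ↔
      x ∈ centralizer (K : Set G) := fun K x => by rw [← comap_centralizer_map hf K]; rfl
  have hs : ∀ P, IsSylowIn 2 P (Y.map f) → ∃ P0, IsSylowIn 2 P0 Y ∧ P0.map f = P := fun P hP => by
    have e : (P.comap f).map f = P := map_comap_eq_self (hP.le.trans (map_le_range f Y))
    exact ⟨P.comap f, IsSylowIn.of_map_injective hf (e.symm ▸ hP), e⟩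
  have hm : ∀ (K : Subgroup G) (x : G), f x ∈ K.map f ↔ x ∈ K := fun K x => mem_map_iff_mem hf
  refine ⟨fun P hP => ?_, (map_mono h.YQ).trans (le_normalizer_map f),
    (map_mono h.YV).trans (le_normalizer_map f), map_mono h.VQ, ?_, ?_, fun P hP => ?_, fun P hP => ?_,
    fun P hP => ?_, fun P hP => ?_, fun P hP => ?_, fun P hP => ?_,
    fun P hP => ?_, ?_⟩
  · obtain ⟨P, hP0, rfl⟩ := hs P hP
    exact map_mono (h.QP P hP0)
  · rintro _ ⟨x, hx, rfl⟩; exact (hc _ _).2 (h.QC hx)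
  · rintro _ ⟨x, hx, rfl⟩; rw [← map_pow, h.pow x hx, map_one]
  · obtain ⟨P, hP0, rfl⟩ := hs P hP
    rintro _ ⟨x, hx, rfl⟩ h1; exact (hm _ _).2 (h.cent P hP0 x hx ((hc _ _).1 h1))
  · obtain ⟨P, hP0, rfl⟩ := hs P hP
    rintro _ ⟨x, hx, rfl⟩ h1 h2
    exact (hm _ _).2 (h.omega P hP0 x hx ((hc _ _).1 h1) (hf (by rw [map_pow, h2, map_one])))
  · obtain ⟨P, hP0, rfl⟩ := hs P hP
    rw [relIndex_map_map_of_injective _ _ hf, h.idxQ P hP0]
  · obtain ⟨P, hP0, rfl⟩ := hs P hP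
    rw [← relIndex_comap, comap_centralizer_map hf, h.idxV P hP0]
  · obtain ⟨P, hP0, rfl⟩ := hs P hP
    rintro _ ⟨v, hv, rfl⟩ _ ⟨x, hx, rfl⟩
    rw [← map_commutatorElement, hc]
    exact h.quad P hP0 v hv x hx
  · obtain ⟨P, hP0, rfl⟩ := hs P hP
    rintro _ ⟨x, hx, rfl⟩ h1 _ ⟨v, hv, rfl⟩ h2
    rw [← map_commutatorElement, hc] at h2
    exact (hc _ _).2 (h.fix P hP0 x hx (fun h3 => h1 ((hm _ _).2 h3)) v hv h2)
  · obtain ⟨P, hP0, rfl⟩ := hs P hP
    obtain ⟨P', hP', hne⟩ := h.two P hP0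
    refine ⟨P'.map f, hP'.map f, ?_⟩
    rintro _ ⟨x, hx, rfl⟩ h1 K h2 h3
    rw [map_le_iff_le_comap] at h2 ⊢
    exact hne x hx (fun h3 => h1 ((hm _ _).2 h3)) _ h2 h3
  · rw [Ne, map_eq_bot_iff_of_injective _ hf]; exact h.ne

theorem Loc.cj [Finite G] {q : ℕ} {Y Q V : Subgroup G} (h : Loc q Y Q V) (g : G) :
    Loc q (cj g Y) (cj g Q) (cj g V) := h.map (MulAut.conj g).injective

section Crit
variable [Finite G] {q : ℕ} {Y₁ Q₁ V₁ Y₂ Q₂ V₂ P₁ P₂ : Subgroup G}

theorem Loc.exists_not_mem (L₁ : Loc q Y₁ Q₁ V₁) (hn : ¬ V₁ ≤ centralizer (V₂ : Set G)) :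
    ∃ x ∈ V₂, x ∉ Q₁ := by
  by_contra h
  push Not at h
  exact hn (le_centralizer_comm.1 (le_trans h L₁.QC))

theorem Loc.crit_cent (L₁ : Loc q Y₁ Q₁ V₁) (L₂ : Loc q Y₂ Q₂ V₂) (h₁ : IsSylowIn 2 P₁ Y₁)
    (hV₂ : V₂ ≤ P₁) (hn : ¬ V₁ ≤ centralizer (V₂ : Set G)) {v : G} (hv : v ∈ V₁) (hQ : v ∈ Q₂) :
    v ∈ centralizer (P₁ : Set G) := by
  obtain ⟨x, hx, hxQ⟩ := L₁.exists_not_mem hn
  refine L₁.fix P₁ h₁ x (hV₂ hx) hxQ v hv ?_
  rw [commutatorElement_eq_one_iff_mul_comm.2 (L₂.QC hQ x hx).symm]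
  exact one_mem _

theorem Loc.crit_sup (L₁ : Loc q Y₁ Q₁ V₁) (L₂ : Loc q Y₂ Q₂ V₂) (h₁ : IsSylowIn 2 P₁ Y₁)
    (h₂ : IsSylowIn 2 P₂ Y₂) (hV₁ : V₁ ≤ P₂) (hV₂ : V₂ ≤ P₁)
    (hn : ¬ V₁ ≤ centralizer (V₂ : Set G)) : V₁ ⊔ Q₂ = P₂ := by
  have e : Q₂ ⊓ V₁ = centralizer (P₁ : Set G) ⊓ V₁ := by
    ext v
    exact ⟨fun h => ⟨L₁.crit_cent L₂ h₁ hV₂ hn h.2 h.1, h.2⟩,
      fun h => ⟨L₂.cent _ h₂ v (hV₁ h.2) (centralizer_anti hV₂ h.1), h.2⟩⟩
  have h1 : Q₂.relIndex (V₁ ⊔ Q₂) = q := by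
    rw [relIndex_sup_of_le_normalizer (hV₁.trans (h₂.le.trans L₂.YQ)), ← inf_relIndex_right, e,
      inf_relIndex_right, L₁.idxV P₁ h₁]
  have h2 := card_mul_relIndex (le_sup_right : Q₂ ≤ V₁ ⊔ Q₂)
  have h3 := card_mul_relIndex (L₂.QP P₂ h₂)
  rw [h1] at h2
  rw [L₂.idxQ P₂ h₂] at h3
  exact eq_of_le_of_card_ge (sup_le hV₁ (L₂.QP P₂ h₂)) (by omega)

theorem Loc.crit_mul (L₁ : Loc q Y₁ Q₁ V₁) (L₂ : Loc q Y₂ Q₂ V₂) (h₁ : IsSylowIn 2 P₁ Y₁)
    (h₂ : IsSylowIn 2 P₂ Y₂) (hV₁ : V₁ ≤ P₂) (hV₂ : V₂ ≤ P₁)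
    (hn : ¬ V₁ ≤ centralizer (V₂ : Set G)) {y : G} (hy : y ∈ P₂) :
    ∃ v ∈ V₁, ∃ k ∈ Q₂, v * k = y := by
  rw [← L₁.crit_sup L₂ h₁ h₂ hV₁ hV₂ hn] at hy
  exact (mem_sup_of_le_normalizer (hV₁.trans (h₂.le.trans L₂.YQ))).1 hy

theorem Loc.crit_comm (L₁ : Loc q Y₁ Q₁ V₁) (L₂ : Loc q Y₂ Q₂ V₂) (h₁ : IsSylowIn 2 P₁ Y₁)
    (h₂ : IsSylowIn 2 P₂ Y₂) (hV₁ : V₁ ≤ P₂) (hV₂ : V₂ ≤ P₁)
    (hn : ¬ V₁ ≤ centralizer (V₂ : Set G)) {y x : G} (hy : y ∈ P₂) (hx : x ∈ V₂) :
    ∃ v ∈ V₁, ⁅y, x⁆ = ⁅v, x⁆ := by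
  obtain ⟨v, hv, k, hk, rfl⟩ := L₁.crit_mul L₂ h₁ h₂ hV₁ hV₂ hn hy
  refine ⟨v, hv, ?_⟩
  have := L₂.QC hk x hx
  simp only [commutatorElement_def, mul_inv_rev]
  rw [mul_assoc v k x, ← this]
  group

theorem Loc.comm_mem (L₁ : Loc q Y₁ Q₁ V₁) {v x : G} (hv : v ∈ V₁) (hx : x ∈ Y₁) : ⁅v, x⁆ ∈ V₁ :=
  commutator_le_left_of_le_normalizer L₁.YV (commutator_mem_commutator hv hx)

theorem Loc.crit_comm_mem (L₁ : Loc q Y₁ Q₁ V₁) (L₂ : Loc q Y₂ Q₂ V₂) (h₁ : IsSylowIn 2 P₁ Y₁)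
    (h₂ : IsSylowIn 2 P₂ Y₂) (hV₁ : V₁ ≤ P₂) (hV₂ : V₂ ≤ P₁)
    (hn : ¬ V₁ ≤ centralizer (V₂ : Set G)) {y x : G} (hy : y ∈ P₂) (hx : x ∈ V₂) :
    ⁅y, x⁆ ∈ V₁ ∧ ⁅y, x⁆ ∈ centralizer (P₁ : Set G) := by
  obtain ⟨v, hv, e⟩ := L₁.crit_comm L₂ h₁ h₂ hV₁ hV₂ hn hy hx
  rw [e]
  exact ⟨L₁.comm_mem hv (h₁.le (hV₂ hx)), L₁.quad P₁ h₁ v hv x (hV₂ hx)⟩

/-- An element centralizing a Sylow subgroup and an element of another one is central. -/
theorem Gen.mem_centralizer (hne : Gen Y₁ Q₁ P₁ P₂) {x s : G} (hx : x ∈ P₂) (hxQ : x ∉ Q₁)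
    (h1 : s ∈ centralizer (P₁ : Set G)) (h2 : Commute x s) : s ∈ centralizer (Y₁ : Set G) :=
  fun _ hy => mem_centralizer_singleton_iff.1 (hne x hx hxQ (centralizer {s})
    (fun a ha => mem_centralizer_singleton_iff.2 (h1 a ha)) (mem_centralizer_singleton_iff.2 h2) hy)

end Crit

variable {q : ℕ} {Y Q V : Subgroup G}

structure Chain (Y Q V : Subgroup G) (b n : ℕ) (β : ℕ → G) (S : ℕ → Subgroup G) : Prop where
  path : Pth Y (n + b) β S
  crit : ∀ i ≤ n, ¬ cj (β i) V ≤ centralizer (cj (β (i + b)) V : Set G)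
  ne : ∀ i < n, Gen (cj (β (i + b)) Y) (cj (β (i + b)) Q) (S (i + b)) (S (i + b - 1))
  nn : ∀ i < n, ¬ cj (β i) V ≤
    normalizer ((cj (β (i + b + 1)) V ⊔ cj (β (i + b)) V : Subgroup G) : Set G)

variable [Finite G]

theorem exists_not_normalized (L : Loc q Y Q V) (hN : NoNormal Y) {g : G} {P P' A : Subgroup G}
    (hP : IsSylowIn 2 P (cj g Y)) (hne : Gen (cj g Y) (cj g Q) P P') (hA : A ≤ P')
    (hAQ : ¬ A ≤ cj g Q) :
    ∃ h, IsSylowIn 2 P (cj h Y) ∧ ¬ A ≤ normalizer ((cj h V ⊔ cj g V : Subgroup G) : Set G) := by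
  by_contra hcon
  push Not at hcon
  let W := ⨆ h : {h // IsSylowIn 2 P (cj h Y)}, cj h.1 V
  have hW : ∀ h, IsSylowIn 2 P (cj h Y) → cj h V ≤ W := fun h hh =>
    le_iSup (fun h : {h // IsSylowIn 2 P (cj h Y)} => cj h.1 V) ⟨h, hh⟩
  have h1 : normalizer (P : Set G) ≤ normalizer (W : Set G) := fun n hn =>
    mem_normalizer_of_cj_le (cj_iSup_le _ _ fun h => by
      rw [cj_cj]
      have := h.2.cj n
      rw [cj_eq_of_mem_normalizer hn, cj_cj] at this
      exact hW _ this)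
  obtain ⟨x, hx, hxQ⟩ := SetLike.not_le_iff_exists.1 hAQ
  have h2 := hN g P W hP (iSup_le fun h => (L.cj _).VQ.trans ((L.cj _).QP P h.2)) h1
    (hne x (hA hx) hxQ _ (le_normalizer.trans h1)
      (mem_normalizer_of_cj_le (cj_iSup_le _ _ fun h => (cj_le_of_mem_normalizer
        (hcon h h.2 hx) le_sup_left).trans (sup_le (hW _ h.2) (hW _ hP)))))
  exact (L.cj g).ne (le_bot_iff.1 (h2 ▸ hW g hP))

theorem Chain.extend (L : Loc q Y Q V) (hN : NoNormal Y) {b n : ℕ} (hb1 : 1 ≤ b)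
    (hb : Below Y Q V b) {β : ℕ → G} {S : ℕ → Subgroup G} (c : Chain Y Q V b n β S) :
    ∃ β' S', Chain Y Q V b (n + 1) β' S' := by
  have hS1 := (c.path (n + b - 1) (by omega))
  rw [show n + b - 1 + 1 = n + b by omega] at hS1
  have hSn := c.path n (by omega)
  have hV1 : cj (β n) V ≤ S (n + b - 1) :=
    (hb.le c.path _ _ (by omega) (by omega) (by omega) (by omega)).trans ((L.cj _).QP _ hS1.1)
  have hV2 : cj (β (n + b)) V ≤ S n :=
    (hb.le c.path _ _ (by omega) (by omega) (by omega) (by omega)).trans ((L.cj _).QP _ hSn.2)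
  have hc := c.crit n le_rfl
  obtain ⟨P, hP, hne⟩ := (L.cj (β (n + b))).two _ hS1.2
  obtain ⟨h, hh, hnn⟩ := exists_not_normalized L hN hP hne hV1
    (fun h => hc (h.trans (L.cj _).QC))
  have hpath := c.path.extend hP hh
  set β' := Function.update β (n + b + 1) h with hβ'
  set S' := Function.update S (n + b) P with hS'
  have e1 : ∀ i ≤ n + b, β' i = β i := fun i hi => Function.update_of_ne (by omega) _ _
  have e2 : β' (n + b + 1) = h := Function.update_self ..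
  have e3 : ∀ i < n + b, S' i = S i := fun i hi => Function.update_of_ne (by omega) _ _
  have e4 : S' (n + b) = P := Function.update_self ..
  refine ⟨β', S', by rwa [show n + 1 + b = n + b + 1 by ring], fun i hi => ?_, fun i hi => ?_,
    fun i hi => ?_⟩
  · rcases Nat.lt_succ_iff_lt_or_eq.1 (Nat.lt_succ_of_le hi) with hi | rfl
    · rw [e1 _ (by omega), e1 _ (by omega)]; exact c.crit i (by omega)
    rw [show n + 1 + b = n + b + 1 by ring, e2]
    intro hcent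
    have h1 : cj h V ≤ S' (n + 1) := by
      have := hb.le hpath (n + b + 1) (n + 2) le_rfl (by omega) (by omega) (by omega)
      rw [e2] at this
      exact this.trans ((L.cj _).QP _ (hpath (n + 1) (by omega)).2)
    have h2 : cj h V ≤ S n := fun y hy => (L.cj _).QP _ hSn.2 (by
      rw [← e1 (n + 1) (by omega)]
      exact (L.cj _).cent _ (hpath (n + 1) (by omega)).1 y (h1 hy)
        (le_centralizer_comm.1 hcent hy))
    refine hnn fun x hx => mem_normalizer_of_cj_le ?_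
    rw [cj_sup]
    refine sup_le (cj_le_iff.2 fun y hy => ?_) (le_sup_of_le_right
      (cj_le_of_mem_normalizer ((L.cj _).YV (hS1.2.le (hV1 hx))) le_rfl))
    have := ((L.cj _).crit_comm_mem (L.cj _) hS1.2 hSn.1 hV2 hV1
      (fun h => hc (le_centralizer_comm.1 h)) (h2 hy) hx).1
    have e : x * y * x⁻¹ = ⁅y, x⁆⁻¹ * y := by simp only [commutatorElement_def]; group
    rw [e]
    exact mul_mem (mem_sup_right (inv_mem this)) (mem_sup_left hy)
  · rcases Nat.lt_succ_iff_lt_or_eq.1 hi with hi | rfl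
    · rw [e3 _ (by omega), e3 _ (by omega), e1 _ (by omega)]; exact c.ne i hi
    · rw [e4, e3 _ (by omega), e1 _ le_rfl]; exact hne
  · rcases Nat.lt_succ_iff_lt_or_eq.1 hi with hi | rfl
    · rw [e1 _ (by omega), e1 _ (by omega), e1 _ (by omega)]; exact c.nn i hi
    · rw [e2, e1 _ (by omega), e1 _ le_rfl]; exact hnn

theorem exists_chain (L : Loc q Y Q V) (hN : NoNormal Y) {b : ℕ} (hb1 : 1 ≤ b)
    (hb : Below Y Q V b) {g h : G} (hn : Near Y b g h) (hc : ¬ cj g V ≤ cj h Q) (n : ℕ) :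
    ∃ β S, Chain Y Q V b n β S := by
  induction n with
  | zero =>
    obtain ⟨β, S, h1, rfl, rfl⟩ := hn.exists_path
    refine ⟨β, S, by simpa using h1, fun i hi => ?_, fun _ h => absurd h (by omega),
      fun _ h => absurd h (by omega)⟩
    obtain rfl : i = 0 := by omega
    rw [zero_add]
    have hS1 := h1 (b - 1) (by omega)
    rw [show b - 1 + 1 = b by omega] at hS1
    refine fun h => hc fun v hv => (L.cj _).cent _ hS1.2 v ((L.cj _).QP _ hS1.1 ?_) (h hv)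
    exact hb.le h1 0 (b - 1) (by omega) (by omega) (by omega) (by omega) hv
  | succ n ih =>
    obtain ⟨β, S, c⟩ := ih
    exact c.extend L hN hb1 hb

theorem exists_critical_pair (L : Loc q Y Q V) (hN : NoNormal Y) :
    ∃ b, ∃ g h, Near Y b g h ∧ ¬ cj g V ≤ cj h Q := by
  by_contra hcon
  push Not at hcon
  obtain ⟨P, hP⟩ := exists_isSylowIn 2 (cj 1 Y)
  let W := ⨆ h : {h // ∃ k, Near Y k h 1}, cj h.1 V
  have hW : ∀ h k, Near Y k h 1 → cj h V ≤ W := fun h k hh =>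
    le_iSup (fun h : {h // ∃ k, Near Y k h 1} => cj h.1 V) ⟨h, k, hh⟩
  have h1 : ∀ n, Adj Y (n * 1) 1 → n ∈ normalizer (W : Set G) := fun n hn =>
    mem_normalizer_of_cj_le (cj_iSup_le _ _ fun ⟨h, k, hk⟩ => by
      rw [cj_cj]; exact hW _ _ ((hk.smul n).step hn))
  have h2 := hN 1 P W hP (iSup_le fun ⟨h, k, hk⟩ => (hcon k h 1 hk).trans ((L.cj _).QP P hP))
    (fun n hn => h1 n ⟨P, by
      have := hP.cj n
      rwa [cj_eq_of_mem_normalizer hn, cj_cj] at this, hP⟩)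
    (fun n hn => h1 n (Adj.smul_of_mem ⟨P, hP, hP⟩ hn).symm)
  exact (L.cj 1).ne (le_bot_iff.1 (h2 ▸ hW 1 0 (Near.refl 1)))

theorem Chain.false (L : Loc q Y Q V) {b : ℕ} (hb2 : 2 ≤ b) (hb : Below Y Q V b) {β : ℕ → G}
    {S : ℕ → Subgroup G} (c : Chain Y Q V b b β S) : False := by
  have LL : ∀ i, Loc q (cj (β i) Y) (cj (β i) Q) (cj (β i) V) := fun i => L.cj _
  have hZQ : ∀ i j, i ≤ b + b → j ≤ b + b → i < j + b → j < i + b → cj (β i) V ≤ cj (β j) Q :=
    hb.le c.path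
  have sl : ∀ i < b + b, IsSylowIn 2 (S i) (cj (β i) Y) := fun i hi => (c.path i hi).1
  have sr : ∀ i j, i < b + b → j = i + 1 → IsSylowIn 2 (S i) (cj (β j) Y) :=
    fun i j hi hj => hj ▸ (c.path i hi).2
  have ql : ∀ i < b + b, cj (β i) Q ≤ S i := fun i hi => (LL i).QP _ (sl i hi)
  have qr : ∀ i j, i < b + b → j = i + 1 → cj (β j) Q ≤ S i :=
    fun i j hi hj => (LL j).QP _ (sr i j hi hj)
  have hcm : ∀ i j, i ≤ b + b → j ≤ b + b → i < j + b → j < i + b → ∀ u ∈ cj (β i) V,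
      ∀ v ∈ cj (β j) V, Commute v u := fun i j h1 h2 h3 h4 u hu v hv =>
    (LL j).QC (hZQ i j h1 h2 h3 h4 hu) v hv
  -- critical pairs `(i, j)`, `j = i + b`, `k = j - 1`
  have cA : ∀ i j k, i ≤ b → j = i + b → j = k + 1 → cj (β i) V ≤ S k := fun i j k h1 h2 h3 =>
    (hZQ i k (by omega) (by omega) (by omega) (by omega)).trans (ql k (by omega))
  have cB : ∀ i j, i ≤ b → j = i + b → cj (β j) V ≤ S i := fun i j h1 h2 =>
    (hZQ j (i + 1) (by omega) (by omega) (by omega) (by omega)).trans (qr i _ (by omega) rfl)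
  have cn : ∀ i j, i ≤ b → j = i + b → ¬ cj (β i) V ≤ centralizer (cj (β j) V : Set G) :=
    fun i j h1 h2 => h2 ▸ c.crit i h1
  have cn' : ∀ i j, i ≤ b → j = i + b → ¬ cj (β j) V ≤ centralizer (cj (β i) V : Set G) :=
    fun i j h1 h2 h => cn i j h1 h2 (le_centralizer_comm.1 h)
  -- elements centralizing `S j` and `Z i` are central at vertex `j`
  have cen : ∀ i j, i < b → j = i + b → ∀ s ∈ centralizer (S j : Set G),
      (∀ x ∈ cj (β i) V, Commute x s) → s ∈ centralizer (cj (β j) Y : Set G) := by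
    intro i j h1 h2 s hs hx
    obtain ⟨x, hx1, hx2⟩ := (LL j).exists_not_mem (cn' i j h1.le h2)
    refine Gen.mem_centralizer (P₂ := S (j - 1)) ?_
      (cA i j (j - 1) h1.le h2 (by omega) hx1) hx2 hs (hx x hx1)
    exact h2 ▸ c.ne i h1
  have hR : ∀ d ∈ S (b + 1), ∀ y ∈ cj (β (b + 2)) V, ⁅d, y⁆ ∈ cj (β 2) V ∧
      ⁅d, y⁆ ∈ centralizer (cj (β (b + 1)) Y : Set G) := by
    intro d hd y hy
    have h1 := ((LL 2).crit_comm_mem (LL (b + 2)) (sl 2 (by omega)) (sr (b + 1) _ (by omega) rfl)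
      (cA 2 (b + 2) (b + 1) hb2 (by omega) rfl) (cB 2 _ hb2 (by omega)) (cn 2 _ hb2 (by omega))
      hd hy).1
    refine ⟨h1, cen 1 (b + 1) (by omega) (by omega) _ ?_ fun x hx =>
      hcm 2 1 (by omega) (by omega) (by omega) (by omega) _ h1 x hx⟩
    rw [← commutatorElement_inv]
    exact inv_mem ((LL (b + 2)).quad _ (sr (b + 1) _ (by omega) rfl) y hy d hd)
  have main : ∀ y ∈ cj (β (b + 2)) V, ∀ x ∈ cj (β 1) V, ⁅y, x⁆ ∈ cj (β (b + 1)) V := by
    intro y hy x hx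
    have hxS : x ∈ S b := cA 1 (b + 1) b (by omega) (by omega) rfl hx
    have hxY : x ∈ cj (β (b + 1)) Y := (sr b _ (by omega) rfl).le hxS
    have hyS : y ∈ S 2 := cB 2 _ hb2 (by omega) hy
    have hyY : y ∈ cj (β 2) Y := (sl 2 (by omega)).le hyS
    have hyQ : y ∈ cj (β (b + 1)) Q := hZQ _ _ (by omega) (by omega) (by omega) (by omega) hy
    have h1b : ∀ d ∈ S 1, ∀ x ∈ cj (β 1) V, ⁅d, x⁆ ∈ cj (β (b + 1)) V ∧
        ⁅d, x⁆ ∈ centralizer (S b : Set G) := fun d hd x hx =>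
      (LL (b + 1)).crit_comm_mem (LL 1) (sr b _ (by omega) rfl) (sl 1 (by omega))
        (cB 1 _ (by omega) (by omega)) (cA 1 (b + 1) b (by omega) (by omega) rfl)
        (cn' 1 _ (by omega) (by omega)) hd hx
    by_cases hy2 : y ∈ cj (β 2) Q
    · exact (h1b y (qr 1 2 (by omega) rfl hy2) x hx).1
    by_cases hxm : x ∈ cj (β (b + 1)) Q
    · have h1 := ql (b + 1) (by omega) hxm
      have h2 := (LL (b + 2)).comm_mem hy ((sr (b + 1) _ (by omega) rfl).le h1)
      exact (LL (b + 1)).omega _ (sl (b + 1) (by omega)) _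
        (qr (b + 1) _ (by omega) rfl ((LL (b + 2)).VQ h2))
        ((LL (b + 2)).quad _ (sr (b + 1) _ (by omega) rfl) y hy x h1) ((LL (b + 2)).pow _ h2)
    have hcQ : ⁅y, x⁆ ∈ cj (β (b + 1)) Q :=
      commutator_le_left_of_le_normalizer (LL (b + 1)).YQ (commutator_mem_commutator hyQ hxY)
    have hcY : ⁅y, x⁆ ∈ cj (β (b + 1)) Y :=
      (sl (b + 1) (by omega)).le (ql (b + 1) (by omega) hcQ)
    have hy' : x * y⁻¹ * x⁻¹ ∈ cj x (cj (β (b + 2)) V) := conj_mem_cj x (inv_mem hy)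
    have hadj : Adj Y (β (b + 1)) (β (b + 2)) := c.path.adj (by omega)
    have ec : ⁅y, x⁆ = y * (x * y⁻¹ * x⁻¹) := by simp only [commutatorElement_def]; group
    -- the three special facts
    have special : ⁅y, x⁆ ^ 2 = 1 ∧ (∀ x' ∈ cj (β 1) V, Commute x' ⁅y, x⁆) ∧
        ∀ z ∈ cj (β (b + b)) V, Commute z ⁅y, x⁆ := by
      rcases hb2.lt_or_eq with hb3 | rfl
      · have hyy : Commute y (x * y⁻¹ * x⁻¹) := (LL (b + 2)).QC
          (hb.le_smul c.path (b + 2) (b + 1) (by omega) (by omega) (by omega) (by omega) hxY hadj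
            hy') y hy
        refine ⟨?_, fun x' hx' => ?_, fun z hz => ?_⟩
        · rw [ec, hyy.mul_pow, (LL (b + 2)).pow y hy, conj_pow, (LL (b + 2)).pow _ (inv_mem hy)]
          simp
        · refine Commute.mul_right ((LL 1).QC (hb.le_smul c.path 1 2 (by omega) (by omega)
            (by omega) (by omega) hyY (c.path.adj (i := 1) (by omega)).symm
              (conj_mem_cj y hx)) x' hx') ((LL 1).QC ((LL 1).VQ (inv_mem hx)) x' hx')
        · have hcS : ⁅y, x⁆ ∈ S (b + b - 1) := by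
            refine ql _ (by omega) ?_
            rw [ec]
            exact mul_mem (hZQ _ _ (by omega) (by omega) (by omega) (by omega) hy)
              (hb.le_smul c.path _ (b + 1) (by omega) (by omega) (by omega) (by omega) hxY hadj hy')
          obtain ⟨z1, hz1, e1⟩ := (LL b).crit_comm (LL (b + b)) (sl b (by omega))
            (sr (b + b - 1) _ (by omega) (by omega)) (cA b (b + b) _ le_rfl rfl (by omega))
            (cB b _ le_rfl rfl) (cn b _ le_rfl rfl) hcS hz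
          have hzQ : z ∈ cj (β (b + 1)) Q := hZQ _ _ (by omega) (by omega) (by omega) (by omega) hz
          have hzy : Commute y z := hcm _ _ (by omega) (by omega) (by omega) (by omega) z hz y hy
          obtain ⟨s1, s2⟩ := hR (x⁻¹ * z * x) (ql _ (by omega)
            (conj_mem_of_mem_normalizer' ((LL (b + 1)).YQ hxY) hzQ)) y⁻¹ (inv_mem hy)
          have e2 : ⁅⁅y, x⁆, z⁆ = ⁅x⁻¹ * z * x, y⁻¹⁆⁻¹ := by
            have a1 := conj_eq_of_mem_centralizer (inv_mem s2) hxY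
            have a2 := conj_eq_of_mem_centralizer (inv_mem s2) ((sl (b + 1) (by omega)).le
              (ql (b + 1) (by omega) hyQ))
            set s := ⁅x⁻¹ * z * x, y⁻¹⁆⁻¹ with hs
            calc ⁅⁅y, x⁆, z⁆ = y * (x * s * x⁻¹) * (z * y⁻¹ * z⁻¹) := by
                  simp only [hs, commutatorElement_def]; group
              _ = y * (x * s * x⁻¹) * y⁻¹ := by rw [← hzy.inv_left.eq]; group
              _ = s := by
                  have a3 : x * s * x⁻¹ = s := by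
                    rw [← mul_inv_eq_iff_eq_mul.1 a1]; group
                  rw [a3, ← mul_inv_eq_iff_eq_mul.1 a2]; group
          have s3 : ⁅z1, z⁆ ∈ centralizer (cj (β b) Y : Set G) := by
            rw [← e1, e2]
            exact inv_mem (cen 0 b (by omega) (by omega) _
              (centralizer_anti (sr b _ (by omega) rfl).le s2) fun x0 hx0 =>
                hcm 2 0 (by omega) (by omega) (by omega) (by omega) _ s1 x0 hx0)
          rw [← commutatorElement_eq_one_iff_commute, ← commutatorElement_inv, e1, inv_eq_one,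
            commutatorElement_eq_one_iff_commute]
          by_cases hzb : z ∈ cj (β b) Q
          · exact (LL b).QC hzb z1 hz1
          · exact ((LL b).fix _ (sl b (by omega)) z (cB b _ le_rfl rfl hz) hzb z1 hz1 s3 z
              (cB b _ le_rfl rfl hz)).symm
      · have hx2 : x * x = 1 := by rw [← sq]; exact (LL 1).pow x hx
        have hy2' : y * y = 1 := by rw [← sq]; exact (LL 4).pow y hy
        have hxi : x⁻¹ = x := inv_eq_of_mul_eq_one_right hx2
        have hyi : y⁻¹ = y := inv_eq_of_mul_eq_one_right hy2'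
        have e1 : ⁅⁅y, x⁆, x⁆ = ⁅y, x⁆ ^ 2 := by
          simp only [commutatorElement_def, mul_inv_rev, hxi, hyi, sq]
          calc y * x * y * x * x * (x * (y * (x * y))) * x
              = y * x * y * (x * x) * x * y * x * y * x := by simp only [mul_assoc]
            _ = _ := by rw [hx2]; simp only [mul_assoc, one_mul, mul_one]
        have e2 : ⁅⁅y, x⁆, y⁆ = ⁅y, x⁆ ^ 2 := by
          simp only [commutatorElement_def, mul_inv_rev, hxi, hyi, sq]
          calc y * x * y * x * y * (x * (y * (x * y))) * y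
              = y * x * y * x * y * x * y * x * (y * y) := by simp only [mul_assoc]
            _ = _ := by rw [hy2']; simp only [mul_assoc, mul_one]
        have hc2 : ⁅y, x⁆ ∈ cj (β 2) Q := by
          rw [← commutatorElement_inv]
          exact inv_mem (commutator_le_left_of_le_normalizer (LL 2).YQ (commutator_mem_commutator
            (hZQ 1 2 (by omega) (by omega) (by omega) (by omega) hx) hyY))
        have hcS1 := qr 1 2 (by omega) rfl hc2
        have hcS3 := ql 3 (by omega) hcQ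
        have s1 : ⁅⁅y, x⁆, x⁆ ∈ centralizer (cj (β 2) Y : Set G) := by
          refine cen 0 2 (by omega) rfl _ (h1b _ hcS1 x hx).2 fun x0 hx0 =>
            hcm 1 0 (by omega) (by omega) (by omega) (by omega) _ ?_ x0 hx0
          rw [← commutatorElement_inv]
          exact inv_mem ((LL 1).comm_mem hx ((sl 1 (by omega)).le hcS1))
        obtain ⟨z1, hz1, e3⟩ := (LL 2).crit_comm (LL 4) (sl 2 (by omega))
          (sr 3 _ (by omega) rfl) (cA 2 4 3 le_rfl rfl rfl)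
          (cB 2 _ le_rfl rfl) (cn 2 _ le_rfl rfl) hcS3 hy
        have s2 : ⁅z1, y⁆ = 1 := by
          rw [e1, ← e2, e3] at s1
          exact commutatorElement_eq_one_iff_commute.2
            ((LL 2).fix _ (sl 2 (by omega)) y hyS hy2 z1 hz1 s1 y hyS).symm
        have s3 : ⁅y, x⁆ ^ 2 = 1 := by rw [← e2, e3, s2]
        refine ⟨s3, fun x' hx' => (LL 1).QC ?_ x' hx', fun z hz => (LL 4).QC ?_ z hz⟩
        · by_contra hn
          have := (LL 1).fix _ (sl 1 (by omega)) _ hcS1 hn x hx (by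
            rw [← commutatorElement_inv, e1, s3, inv_one]; exact one_mem _)
          exact hxm ((LL 3).cent _ (sr 2 _ (by omega) rfl) x hxS (centralizer_anti (cB 1 3 (by omega) rfl) this))
        · by_contra hn
          have := (LL 4).fix _ (sr 3 4 (by omega) rfl) _ hcS3 hn y hy (by
            rw [← commutatorElement_inv, e2, s3, inv_one]; exact one_mem _)
          exact hy2 ((LL 2).cent _ (sl 2 (by omega)) y hyS (centralizer_anti (cA 2 4 3 le_rfl rfl rfl) this))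
    obtain ⟨sp1, sp2, sp3⟩ := special
    have ind : ∀ k, 2 ≤ k → k ≤ b + 1 → ∀ d, (∀ i, k ≤ i → i ≤ b + 1 → d ∈ cj (β i) Q) →
        Commute d ⁅y, x⁆ := by
      intro k hk
      induction k, hk using Nat.le_induction with
      | base =>
        intro _ d hd
        have hd1 := qr 1 2 (by omega) rfl (hd 2 le_rfl (by omega))
        have hdm := ql (b + 1) (by omega) (hd (b + 1) (by omega) le_rfl)
        have r1 := hcm (b + 1) (b + 2) (by omega) (by omega) (by omega) (by omega) _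
          (h1b d⁻¹ (inv_mem hd1) x⁻¹ (inv_mem hx)).1 y hy
        have s2 := (hR d hdm y hy).2
        have a1 := conj_eq_of_mem_centralizer (inv_mem s2) (inv_mem hxY)
        have a2 := conj_eq_of_mem_centralizer s2 hcY
        rw [Commute, SemiconjBy, ← mul_inv_eq_iff_eq_mul]
        set r := ⁅d⁻¹, x⁻¹⁆ with hr
        set s := ⁅d, y⁆ with hs
        calc d * ⁅y, x⁆ * d⁻¹ = s * y * x * d * (r * y⁻¹ * r⁻¹) * d⁻¹ * x⁻¹ := by
              simp only [hr, hs, commutatorElement_def]; group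
          _ = s * y * x * d * y⁻¹ * d⁻¹ * x⁻¹ := by rw [← r1.inv_left.eq]; group
          _ = s * y * x * y⁻¹ * (s⁻¹ * x⁻¹ * s⁻¹⁻¹) * s⁻¹ := by
              simp only [hs, commutatorElement_def]; group
          _ = s * ⁅y, x⁆ * s⁻¹ := by rw [a1]; simp only [commutatorElement_def]; group
          _ = _ := a2
      | succ k hk ih =>
        intro hk' d hd
        obtain ⟨z, hz, d', hd', rfl⟩ := (LL (k + b)).crit_mul (LL k)
          (sr (k + b - 1) _ (by omega) (by omega)) (sl k (by omega)) (cB k _ (by omega) rfl)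
          (cA k (k + b) _ (by omega) rfl (by omega)) (cn' k _ (by omega) rfl)
          (qr k (k + 1) (by omega) rfl (hd (k + 1) le_rfl hk'))
        refine Commute.mul_left ?_ (ih (by omega) d' fun i h1 h2 => ?_)
        · rcases (show k ≤ b by omega).lt_or_eq with hkb | rfl
          · rw [ec]
            exact Commute.mul_right
              (hcm _ _ (by omega) (by omega) (by omega) (by omega) y hy z hz)
              ((LL (k + b)).QC (hb.le_smul c.path _ (b + 1) (by omega) (by omega) (by omega)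
                (by omega) hxY hadj hy') z hz)
          · exact sp3 z hz
        · rcases h1.lt_or_eq with h1 | rfl
          · have := mul_mem (inv_mem (hZQ _ i (by omega) (by omega) (by omega) (by omega) hz))
              (hd i h1 h2)
            simpa using this
          · exact hd'
    refine (LL (b + 1)).omega _ (sr b _ (by omega) rfl) _ (qr b _ (by omega) rfl hcQ) ?_ sp1
    intro a ha
    obtain ⟨u, hu, d, hd, rfl⟩ := (LL 1).crit_mul (LL (b + 1)) (sl 1 (by omega))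
      (sr b _ (by omega) rfl) (cA 1 (b + 1) b (by omega) (by omega) rfl)
      (cB 1 _ (by omega) (by omega)) (cn 1 _ (by omega) (by omega)) ha
    exact (sp2 u hu).mul_left (ind (b + 1) (by omega) le_rfl d fun i h1 h2 => by
      rwa [le_antisymm h2 h1])
  refine c.nn 1 (by omega) fun x hx => mem_normalizer_of_cj_le ?_
  rw [show 1 + b + 1 = b + 2 by ring, show 1 + b = b + 1 by ring, cj_sup]
  refine sup_le (cj_le_iff.2 fun y hy => ?_) (le_sup_of_le_right
    (cj_le_of_mem_normalizer ((LL _).YV ((sr b _ (by omega) rfl).le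
      (cA 1 (b + 1) b (by omega) (by omega) rfl hx))) le_rfl))
  have e : x * y * x⁻¹ = ⁅y, x⁆⁻¹ * y := by simp only [commutatorElement_def]; group
  rw [e]
  exact mul_mem (mem_sup_right (inv_mem (main y hy x hx))) (mem_sup_left hy)

theorem exists_push (L : Loc q Y Q V) (hN : NoNormal Y) :
    ∃ A P, IsSylowIn 2 P Y ∧ A ⊔ Q = P ∧ ⁅Q, A⁆ ≤ V := by
  classical
  have hex := exists_critical_pair L hN
  obtain ⟨g, h, hn, hc⟩ := Nat.find_spec hex
  have hb : Below Y Q V (Nat.find hex) := fun k hk g h hn => by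
    by_contra hc
    exact Nat.find_min hex hk ⟨g, h, hn, hc⟩
  generalize Nat.find hex = b at hn hb
  rcases b with _ | _ | b
  · cases hn
    exact absurd (L.cj _).VQ hc
  · have hn' := hn.smul h⁻¹
    rw [inv_mul_cancel] at hn'
    have hc' : ¬ cj (h⁻¹ * g) V ≤ Q := by rwa [← cj_cj, ← le_cj_iff_cj_inv_le]
    generalize h⁻¹ * g = k at hn' hc'
    obtain ⟨β, S, h1, rfl, h2⟩ := hn'.exists_path
    obtain ⟨s1, s2⟩ := h1 0 (by omega)
    rw [h2, cj_one] at s2
    have L' := L.cj (β 0)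
    have hV1 := L'.VQ.trans (L'.QP _ s1)
    have hV2 := L.VQ.trans (L.QP _ s2)
    have hcn : ¬ cj (β 0) V ≤ centralizer (V : Set G) :=
      fun h => hc' fun v hv => L.cent _ s2 v (hV1 hv) (h hv)
    refine ⟨cj (β 0) V, S 0, s2, L'.crit_sup L s1 s2 hV1 hV2 hcn, commutator_le.2 fun d hd a ha => ?_⟩
    have h3 : ⁅d, a⁆ ∈ cj (β 0) V := by
      rw [← commutatorElement_inv]
      exact inv_mem (L'.comm_mem ha (s1.le (L.QP _ s2 hd)))
    have h4 : ⁅d, a⁆ ∈ Q :=
      commutator_le_left_of_le_normalizer L.YQ (commutator_mem_commutator hd (s2.le (hV1 ha)))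
    exact L.omega _ s2 _ (hV1 h3) (L'.crit_cent L s1 hV2 hcn h3 h4) (L'.pow _ h3)
  · obtain ⟨β, S, c⟩ := exists_chain L hN (by omega) hb hn hc (b + 1 + 1)
    exact (c.false L (by omega) hb).elim

end CfsgH3.PB
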